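import Cfsg.Agent.Lib.U3Recog.Centre
import Cfsg.Agent.Lib.Unitary.SylowThreeAut

/-!
# Field automorphisms of odd order and their action on `U₂` (owner: helper40)

`θ` of odd order on `F`, `|F| = q²`, `q = p ^ n`:
* `apply_pow_q` : `θ` commutes with `x ↦ x ^ q`
* `eq_one_of_fix_real`, `eq_one_of_prim` : `θ = 1` if it fixes `F_q`, or if `θ²` fixes a primitive prime element
* `exists_generic` : a skew element moved by all non-trivial `θ`
* `eq_one_of_quadratic` : `θ = 1` if `(θ² - 1)² = 0` on the norm one group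
* `three_le` : a non-trivial `θ` forces `3 ≤ n`
* `mapU2` : the entrywise action on `U2 F q`
-/

set_option autoImplicit false
set_option linter.unusedSectionVars false
set_option linter.style.haveILetI false

namespace Cfsg.Agent.U3Field

open Cfsg.Agent.U3Recog Cfsg.Agent.Unitary
open scoped Matrix

section

variable {F : Type*} [Field F] [Fintype F] {q : ℕ}

theorem apply_pow_q (θ : RingAut F) (x : F) : θ (x ^ q) = θ x ^ q := map_pow θ x q

theorem skew_map (θ : RingAut F) {c : F} (hc : c + c ^ q = 0) : θ c + θ c ^ q = 0 := by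
  rw [← map_pow, ← map_add, hc, map_zero]

variable {p n : ℕ} [CharP F p] (hp : p.Prime) (hF : Fintype.card F = q ^ 2) (hqp : q = p ^ n)

include hp in
theorem exists_frob (θ : RingAut F) : ∃ j, ∀ x, θ x = x ^ p ^ j := by
  haveI := Fact.mk hp
  letI := ZMod.algebra F p
  let f : F →ₐ[ZMod p] F :=
    { toRingHom := θ.toRingHom
      commutes' := fun r => RingHom.congr_fun (Subsingleton.elim
        (θ.toRingHom.comp (algebraMap (ZMod p) F)) (algebraMap (ZMod p) F)) r }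
  obtain ⟨i, -, hi⟩ := exists_frobenius_pow f
  refine ⟨i, fun x => ?_⟩
  have := hi x
  rwa [ZMod.card] at this

include hp in
theorem frob_pow {θ : RingAut F} {j : ℕ} (hj : ∀ x, θ x = x ^ p ^ j) (m : ℕ) (x : F) :
    (θ ^ m) x = x ^ p ^ (j * m) := by
  induction m with
  | zero => simp
  | succ m ih =>
    rw [pow_succ', RingAut.mul_apply, ih, hj, ← pow_mul, ← pow_add, Nat.mul_succ]

include hp hF hqp

theorem order_dvd {x : F} (hx : x ≠ 0) {j : ℕ} (h : x ^ p ^ j = x) : orderOf x ∣ p ^ j - 1 := by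
  refine orderOf_dvd_of_pow_eq_one (mul_left_cancel₀ hx ?_)
  rw [mul_one, ← pow_succ', Nat.sub_add_cancel (Nat.one_le_pow _ _ hp.pos), h]

theorem exists_gen : ∃ ω : F, ω ≠ 0 ∧ orderOf ω = q ^ 2 - 1 := by
  obtain ⟨u, hu⟩ := IsCyclic.exists_generator (α := Fˣ)
  refine ⟨u, u.ne_zero, ?_⟩
  rw [orderOf_units, orderOf_eq_card_of_forall_mem_zpowers hu, card_units hF]

omit [CharP F p] hF hqp in
theorem dvd_of_pow_sub_dvd {a b : ℕ} (h : p ^ a - 1 ∣ p ^ b - 1) : a ∣ b := by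
  have h' := Nat.gcd_eq_left h
  rw [Nat.pow_sub_one_gcd_pow_sub_one] at h'
  have h1 : 1 ≤ p ^ (Nat.gcd a b) := Nat.one_le_pow _ _ hp.pos
  have h2 : 1 ≤ p ^ a := Nat.one_le_pow _ _ hp.pos
  rw [Nat.pow_right_injective hp.two_le (show p ^ Nat.gcd a b = p ^ a by omega) |>.symm]
  exact Nat.gcd_dvd_right _ _

/-- The exponent of an automorphism of odd order is trivial once divisible by `n`. -/
theorem eq_one_of_dvd {θ : RingAut F} (hodd : Odd (orderOf θ)) {j : ℕ}
    (hj : ∀ x, θ x = x ^ p ^ j) (hnj : n ∣ j) : θ = 1 := by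
  obtain ⟨ω, hω0, hω⟩ := exists_gen hp hF hqp
  have hm : ω ^ p ^ (j * orderOf θ) = ω := by
    rw [← frob_pow hp hj, pow_orderOf_eq_one]; rfl
  have h2 : 2 * n ∣ j * orderOf θ := by
    refine dvd_of_pow_sub_dvd (p := p) hp ?_
    rw [mul_comm, pow_mul, ← hqp, ← hω]
    exact order_dvd hp hF hqp hω0 hm
  obtain ⟨k, rfl⟩ := hnj
  rcases Nat.eq_zero_or_pos n with rfl | hn
  · exact RingEquiv.ext fun x => by simp [hj]
  rw [mul_comm 2 n, mul_assoc] at h2
  have hk : 2 ∣ k := by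
    rcases (Nat.Prime.dvd_mul Nat.prime_two).1 (Nat.dvd_of_mul_dvd_mul_left hn h2) with h | h
    · exact h
    · exact absurd (even_iff_two_dvd.2 h) (Nat.not_even_iff_odd.2 hodd)
  obtain ⟨l, rfl⟩ := hk
  refine RingEquiv.ext fun x => ?_
  rw [hj, show n * (2 * l) = (2 * n) * l by ring, pow_mul p,
    show p ^ (2 * n) = Fintype.card F by rw [hF, hqp]; ring, FiniteField.pow_card_pow]
  rfl

/-- An automorphism of odd order fixing `F_q` is trivial. -/
theorem eq_one_of_fix_real {θ : RingAut F} (hodd : Odd (orderOf θ))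
    (hfix : ∀ r : F, r ^ q = r → θ r = r) : θ = 1 := by
  obtain ⟨j, hj⟩ := exists_frob hp θ
  obtain ⟨ω, hω0, hω⟩ := exists_gen hp hF hqp
  have hq := two_le_q hF
  have h := hfix _ (pow_q_succ_fixed hF ω)
  rw [hj] at h
  have ho := order_dvd hp hF hqp (pow_ne_zero _ hω0) h
  rw [orderOf_pow' _ (Nat.succ_ne_zero q), hω, Nat.gcd_eq_right (q_succ_dvd q),
    show q ^ 2 - 1 = (q + 1) * (q - 1) by simpa using Nat.sq_sub_sq q 1,
    Nat.mul_div_cancel_left _ (Nat.succ_pos q), hqp] at ho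
  exact eq_one_of_dvd hp hF hqp hodd hj (dvd_of_pow_sub_dvd hp ho)

/-- An automorphism of odd order whose square fixes a primitive prime element is trivial. -/
theorem eq_one_of_prim {θ : RingAut F} (hodd : Odd (orderOf θ)) {r : ℕ}
    (hprim : ∀ i, r ∣ p ^ i - 1 → n ∣ i) {β : F} (hβ : orderOf β = r) (hr : r ≠ 0)
    (hfix : (θ ^ 2) β = β) : θ = 1 := by
  obtain ⟨j, hj⟩ := exists_frob hp θ
  have hβ0 : β ≠ 0 := fun h => hr (by rw [← hβ, h, orderOf_zero])
  rw [frob_pow hp hj] at hfix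
  have h1 := hprim _ (hβ ▸ order_dvd hp hF hqp hβ0 hfix)
  obtain ⟨ω, hω0, hω⟩ := exists_gen hp hF hqp
  have h2 : n ∣ j * orderOf θ := by
    refine Dvd.dvd.trans ⟨2, by ring⟩ (dvd_of_pow_sub_dvd (p := p) hp (a := 2 * n) ?_)
    rw [mul_comm, pow_mul, ← hqp, ← hω]
    exact order_dvd hp hF hqp hω0 (by rw [← frob_pow hp hj, pow_orderOf_eq_one]; rfl)
  have h3 : Nat.gcd 2 (orderOf θ) = 1 := Nat.coprime_two_left.2 hodd
  have := Nat.dvd_gcd h1 h2
  rw [Nat.gcd_mul_left, h3, mul_one] at this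
  exact eq_one_of_dvd hp hF hqp hodd hj this

/-- A skew element moved by every non-trivial automorphism of odd order. -/
theorem exists_generic (hqodd : Odd q) : ∃ e : F, e + e ^ q = 0 ∧ e ≠ 0 ∧
    ∀ θ : RingAut F, Odd (orderOf θ) → θ e = e → θ = 1 := by
  obtain ⟨ω, hω0, hω⟩ := exists_gen hp hF hqp
  obtain ⟨k, hk⟩ := hqodd
  have hq := two_le_q hF
  have hsub : q ^ 2 - 1 = (q + 1) * (q - 1) := by simpa using Nat.sq_sub_sq q 1
  set e := ω ^ (k + 1)
  have he2 : e ^ 2 = ω ^ (q + 1) := by rw [← pow_mul, hk]; ring_nf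
  have hne : ω ^ ((k + 1) * (q - 1)) ≠ 1 := fun h => by
    have hd := orderOf_dvd_of_pow_eq_one h
    rw [hω, hsub] at hd
    have := Nat.le_of_dvd (by omega) (Nat.dvd_of_mul_dvd_mul_right (by omega) hd)
    omega
  have hneg : ω ^ ((k + 1) * (q - 1)) = -1 := by
    refine (mul_self_eq_one_iff.1 ?_).resolve_left hne
    rw [← pow_add, show (k + 1) * (q - 1) + (k + 1) * (q - 1) = q ^ 2 - 1 by rw [hsub, hk]; ring,
      ← hω, pow_orderOf_eq_one]
  refine ⟨e, ?_, pow_ne_zero _ hω0, fun θ hodd hfix => ?_⟩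
  · have : e ^ q = ω ^ ((k + 1) * (q - 1)) * e := by
      rw [← pow_mul, ← pow_add]
      congr 1
      rw [← mul_add_one, Nat.sub_add_cancel (by omega)]
    rw [this, hneg]; ring
  · refine eq_one_of_fix_real hp hF hqp hodd fun r hr => ?_
    rcases eq_or_ne r 0 with rfl | hr0
    · exact map_zero θ
    obtain ⟨x, hx⟩ := exists_norm_eq hF hr
    obtain ⟨u, hu⟩ := IsCyclic.exists_generator (α := Fˣ)
    obtain ⟨l, hl⟩ : ∃ l : ℕ, ω ^ l = x := by
      have hx0 : x ≠ 0 := fun h => hr0 (by rw [← hx, h, zero_pow (Nat.succ_ne_zero q)])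
      have ho : orderOf (Units.mk0 ω hω0) = Nat.card Fˣ := by
        rw [← orderOf_units, Units.val_mk0, hω, card_units hF]
      have ht : Subgroup.zpowers (Units.mk0 ω hω0) = ⊤ :=
        Subgroup.eq_top_of_card_eq _ (by rw [Nat.card_zpowers, ho])
      obtain ⟨l, hl⟩ := mem_powers_iff_mem_zpowers.2
        (show Units.mk0 x hx0 ∈ Subgroup.zpowers (Units.mk0 ω hω0) by rw [ht]; trivial)
      exact ⟨l, by simpa using congrArg Units.val hl⟩
    rw [← hx, ← hl, ← pow_mul, mul_comm, pow_mul, ← he2, map_pow, map_pow, hfix]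

theorem three_le {θ : RingAut F} (hodd : Odd (orderOf θ)) (hne : θ ≠ 1) : 3 ≤ n := by
  obtain ⟨j, hj⟩ := exists_frob hp θ
  by_contra hn
  refine hne (eq_one_of_dvd hp hF hqp hodd hj ?_)
  obtain ⟨ω, hω0, hω⟩ := exists_gen hp hF hqp
  have h2 : 2 * n ∣ j * orderOf θ := by
    refine dvd_of_pow_sub_dvd (p := p) hp ?_
    rw [mul_comm, pow_mul, ← hqp, ← hω]
    exact order_dvd hp hF hqp hω0 (by rw [← frob_pow hp hj, pow_orderOf_eq_one]; rfl)
  have hc : Nat.Coprime n (orderOf θ) := by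
    interval_cases n
    · exact absurd (by rw [hqp, pow_zero] : q = 1) (by have := two_le_q hF; omega)
    · exact Nat.coprime_one_left _
    · exact Nat.coprime_two_left.2 hodd
  exact hc.dvd_of_dvd_mul_right ((Dvd.intro_left 2 rfl).trans h2)

/-- `(θ² - 1)² = 0` on the elements of norm one forces `θ = 1`. -/
theorem eq_one_of_quadratic (hqodd : Odd q) {θ : RingAut F} (hodd : Odd (orderOf θ))
    (hquad : ∀ u : F, u ^ (q + 1) = 1 → (θ ^ 2) ((θ ^ 2) u / u) = (θ ^ 2) u / u) : θ = 1 := by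
  obtain ⟨j, hj⟩ := exists_frob hp θ
  obtain ⟨ω, hω0, hω⟩ := exists_gen hp hF hqp
  have hq := two_le_q hF
  set u := ω ^ (q - 1)
  have hu0 : u ≠ 0 := pow_ne_zero _ hω0
  have hsub : q ^ 2 - 1 = (q + 1) * (q - 1) := by simpa using Nat.sq_sub_sq q 1
  have huo : orderOf u = q + 1 := by
    rw [orderOf_pow' _ (by omega), hω, Nat.gcd_eq_right (q_pred_dvd q), hsub,
      Nat.mul_div_cancel _ (by omega)]
  have h := hquad u (by rw [← huo, pow_orderOf_eq_one])
  simp only [frob_pow hp hj] at h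
  set i := j * 2 with hi
  have h1 : 1 ≤ p ^ i := Nat.one_le_pow _ _ hp.pos
  have hv : u ^ p ^ i / u = u ^ (p ^ i - 1) := by
    rw [div_eq_iff hu0, ← pow_succ, Nat.sub_add_cancel h1]
  rw [hv] at h
  have hd : q + 1 ∣ (p ^ i - 1) * (p ^ i - 1) := by
    rw [← huo]
    refine orderOf_dvd_of_pow_eq_one ?_
    rw [pow_mul]
    refine mul_left_cancel₀ (pow_ne_zero (p ^ i - 1) hu0) ?_
    rw [mul_one, ← pow_succ', Nat.sub_add_cancel h1, h]
  by_contra hne
  have hn3 := three_le hp hF hqp hodd hne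
  have h2 : 2 * n ∣ j * orderOf θ := by
    refine dvd_of_pow_sub_dvd (p := p) hp ?_
    rw [mul_comm, pow_mul, ← hqp, ← hω]
    exact order_dvd hp hF hqp hω0 (by rw [← frob_pow hp hj, pow_orderOf_eq_one]; rfl)
  -- `n = H * M` with `M` odd, `M ≠ 1`
  set H := Nat.gcd j n
  have hH0 : 0 < H := Nat.gcd_pos_of_pos_right _ (by omega)
  obtain ⟨M, hM⟩ : H ∣ n := Nat.gcd_dvd_right _ _
  obtain ⟨j', hj'⟩ : H ∣ j := Nat.gcd_dvd_left _ _
  have hcop : Nat.Coprime M j' := by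
    have h3 : H * Nat.gcd M j' = H * 1 := by
      rw [← Nat.gcd_mul_left, ← hM, ← hj', Nat.gcd_comm, mul_one]
    exact Nat.eq_of_mul_eq_mul_left hH0 h3
  have hMd : M ∣ orderOf θ := by
    refine hcop.dvd_of_dvd_mul_left (Nat.dvd_of_mul_dvd_mul_left hH0 ?_)
    rw [← hM, ← mul_assoc, ← hj']
    exact (Dvd.intro_left 2 rfl).trans h2
  have hModd : Odd M := hodd.of_dvd_nat hMd
  have hM1 : M ≠ 1 := fun e => hne (eq_one_of_dvd hp hF hqp hodd hj
    ⟨j', by rw [hM, e, mul_one]; exact hj'⟩)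
  have hM3 : 3 ≤ M := by
    obtain ⟨l, rfl⟩ := hModd; omega
  set x := p ^ H
  have hqx : q = x ^ M := by rw [hqp, ← pow_mul, ← hM]
  have hxodd : Odd x := by
    rw [hqx] at hqodd
    rcases Nat.even_or_odd x with he | ho
    · exact absurd hqodd (Nat.not_odd_iff_even.2 (he.pow_of_ne_zero (by omega)))
    · exact ho
  have hx3 : 3 ≤ x := by
    have : 2 ≤ x := le_trans hp.two_le (Nat.le_self_pow (by omega) p)
    obtain ⟨l, hl⟩ := hxodd
    omega
  -- the greatest common divisor with `q + 1`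
  have hg : Nat.gcd (q + 1) (p ^ i - 1) ∣ 2 * (x + 1) := by
    set g := Nat.gcd (q + 1) (p ^ i - 1)
    have ga : g ∣ p ^ (2 * n) - 1 := by
      refine (Nat.gcd_dvd_left _ _).trans ?_
      rw [mul_comm, pow_mul, ← hqp]
      exact q_succ_dvd q
    have gb : g ∣ p ^ (H * 2) - 1 := by
      have := Nat.dvd_gcd ga (Nat.gcd_dvd_right (q + 1) (p ^ i - 1))
      rwa [Nat.pow_sub_one_gcd_pow_sub_one, hi, mul_comm 2 n, Nat.gcd_mul_right, Nat.gcd_comm n j]
        at this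
    have gx : Nat.gcd g (x - 1) ∣ 2 := by
      have a : Nat.gcd g (x - 1) ∣ q + 1 := (Nat.gcd_dvd_left _ _).trans (Nat.gcd_dvd_left _ _)
      have b : Nat.gcd g (x - 1) ∣ q - 1 := (Nat.gcd_dvd_right _ _).trans (by
        rw [hqx]; simpa using Nat.sub_dvd_pow_sub_pow x 1 M)
      have := Nat.dvd_sub a b
      rwa [show q + 1 - (q - 1) = 2 by omega] at this
    have hxx : p ^ (H * 2) - 1 = (x - 1) * (x + 1) := by
      rw [pow_mul, mul_comm]; simpa using Nat.sq_sub_sq x 1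
    rw [hxx] at gb
    exact (Nat.dvd_gcd_mul_iff_dvd_mul.2 gb).trans (Nat.mul_dvd_mul_right gx _)
  have hd' : q + 1 ∣ 2 * (x + 1) * (2 * (x + 1)) := by
    have e1 := Nat.dvd_gcd_mul_iff_dvd_mul.2 hd
    rw [mul_comm] at e1
    exact (Nat.dvd_gcd_mul_iff_dvd_mul.2 e1).trans (Nat.mul_dvd_mul hg hg)
  obtain ⟨S, hS⟩ : x + 1 ∣ q + 1 := by
    rw [hqx]; simpa using hModd.nat_add_dvd_pow_add_pow x 1
  have hSodd : Odd S := by
    rcases Nat.even_or_odd S with ⟨l, hl⟩ | ho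
    · exfalso
      obtain ⟨m, hm⟩ := hModd
      have h5 : x ^ 2 - 1 ∣ x ^ (2 * m) - 1 := by
        rw [pow_mul]; simpa using Nat.sub_dvd_pow_sub_pow (x ^ 2) 1 m
      have h6 : 2 * (x + 1) ∣ q - x := by
        have e : q - x = (x ^ (2 * m) - 1) * x := by
          rw [Nat.sub_mul, one_mul, ← pow_succ, ← hm, hqx]
        rw [e]
        refine Dvd.dvd.mul_right (Dvd.dvd.trans ?_ h5) _
        obtain ⟨l', hl'⟩ := hxodd
        refine ⟨l', ?_⟩
        rw [show x ^ 2 - 1 = (x + 1) * (x - 1) by simpa using Nat.sq_sub_sq x 1,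
          show x - 1 = 2 * l' by omega]
        ring
      have h7 : 2 * (x + 1) ∣ q + 1 := ⟨l, by rw [hS, hl]; ring⟩
      have h8 := Nat.dvd_sub h7 h6
      have : x ≤ q := hqx ▸ Nat.le_self_pow (by omega) x
      rw [show q + 1 - (q - x) = x + 1 by omega] at h8
      have := Nat.le_of_dvd (by omega) h8
      omega
    · exact ho
  have h4 : S ∣ x + 1 := by
    refine Nat.Coprime.dvd_of_dvd_mul_left (Nat.Coprime.mul_right (Nat.coprime_two_right.2 hSodd)
      (Nat.coprime_two_right.2 hSodd)) (Nat.dvd_of_mul_dvd_mul_left (Nat.succ_pos x) ?_)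
    rw [← hS]
    refine hd'.trans (dvd_of_eq ?_)
    simp only [Nat.succ_eq_add_one]
    ring
  have h5 : q + 1 ≤ (x + 1) * (x + 1) :=
    hS.le.trans (Nat.mul_le_mul_left _ (Nat.le_of_dvd (Nat.succ_pos x) h4))
  have h6 : x ^ 3 ≤ q := hqx ▸ Nat.pow_le_pow_right (by omega) hM3
  have h7 : 3 * (x * x) ≤ x ^ 3 := by
    rw [pow_succ, pow_two, mul_comm 3]; exact Nat.mul_le_mul_left _ hx3
  nlinarith

omit [CharP F p] hp hqp in
theorem mapU2_eqs (θ : RingAut F) (g : U2 F q) :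
    θ (e00 g) * θ (e10 g) ^ q + θ (e10 g) * θ (e00 g) ^ q = 0 ∧
      θ (e01 g) * θ (e11 g) ^ q + θ (e11 g) * θ (e01 g) ^ q = 0 ∧
      θ (e00 g) * θ (e11 g) ^ q + θ (e10 g) * θ (e01 g) ^ q = 1 := by
  obtain ⟨h1, h2, h3, -⟩ := eqs hF g
  refine ⟨?_, ?_, ?_⟩ <;>
    simp only [← map_pow, ← map_mul, ← map_add, h1, h2, h3, map_zero, map_one]

end

section MapU2

variable {F : Type*} [Field F] [Fintype F] {q : ℕ} (hF : Fintype.card F = q ^ 2) (θ : RingAut F)
include hF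

/-- The entrywise action of a field automorphism on `U2 F q`. -/
noncomputable def mapU2 : U2 F q →* U2 F q where
  toFun g := mk4 hF (θ (e00 g)) (θ (e01 g)) (θ (e10 g)) (θ (e11 g))
    (mapU2_eqs hF θ g).1 (mapU2_eqs hF θ g).2.1 (mapU2_eqs hF θ g).2.2
  map_one' := by
    apply ext4 <;> simp [mk4_entries hF]
  map_mul' a b := by
    apply ext4 <;> simp [mk4_entries hF]

@[simp] theorem mapU2_entries (g : U2 F q) :
    e00 (mapU2 hF θ g) = θ (e00 g) ∧ e01 (mapU2 hF θ g) = θ (e01 g) ∧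
      e10 (mapU2 hF θ g) = θ (e10 g) ∧ e11 (mapU2 hF θ g) = θ (e11 g) :=
  mk4_entries hF _ _ _ _ (mapU2_eqs hF θ g).1 (mapU2_eqs hF θ g).2.1 (mapU2_eqs hF θ g).2.2

theorem det2_mapU2 (g : U2 F q) : det2 (mapU2 hF θ g) = θ (det2 g) := by simp [det2]

theorem det2_mapU2_one {g : U2 F q} (h : det2 g = 1) : det2 (mapU2 hF θ g) = 1 := by
  rw [det2_mapU2, h, map_one]

theorem mapU2_uu {c : F} (hc : c + c ^ q = 0) :
    mapU2 hF θ (uu hF c hc) = uu hF (θ c) (skew_map θ hc) := by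
  apply ext4 <;> simp

theorem mapU2_dd (α : Fˣ) :
    mapU2 hF θ (dd hF α) = dd hF (Units.map (θ : F ≃+* F).toMonoidHom α) := by
  apply ext4 <;> simp

theorem mapU2_wn : mapU2 hF θ (wn hF) = wn hF := by
  apply ext4 <;> simp

theorem mapU2_negOne : mapU2 hF θ (negOne hF) = negOne hF := by
  obtain ⟨a, b, c, d⟩ := negOne_entries hF (q := q)
  apply ext4 <;> simp [a, b, c, d]

theorem mapU2_one (g : U2 F q) : mapU2 hF 1 g = g := by
  apply ext4 <;> simp

theorem mapU2_mul (θ' : RingAut F) (g : U2 F q) :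
    mapU2 hF (θ * θ') g = mapU2 hF θ (mapU2 hF θ' g) := by
  apply ext4 <;> simp

theorem act_mapU2 (g : U2 F q) (z : F × F) :
    act (mapU2 hF θ g) (θ z.1, θ z.2) = (θ (act g z).1, θ (act g z).2) := by
  simp [act]

end MapU2

end Cfsg.Agent.U3Field
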