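import Cfsg.Agent.Lib.U3Field.Field
import Cfsg.Agent.Lib.U3Recog.Elements

/-!
# An involution centraliser of type `GU₂(q)/Z` extended by field automorphisms (owner: helper40)

* `Data` : the image of `U₂` is the kernel of the field part `field` on `C(t)`; the index of `C(t)`
* `IsPure` : elements acting on the image of `SU₂` as a field automorphism; `exists_pure_odd`
* `pure_comm_w` : a pure element of odd order commutes with the swap
* `exists_conj_P0`, `nc_root`, `fusion`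
-/

set_option autoImplicit false
set_option linter.unusedSectionVars false
set_option linter.style.haveILetI false

namespace Cfsg.Agent.U3Field

open Subgroup Cfsg.Agent.U3Recog Cfsg.Agent.Unitary
open scoped Pointwise

/-- An involution centraliser of type `GU₂(q)/Z` with a field part. -/
structure Data (G : Type*) [Group G] [Finite G] (F : Type*) [Field F] [Fintype F] (q : ℕ) where
  hF : Fintype.card F = q ^ 2
  hodd : Odd q
  π : U2 F q →* G
  t : G
  π_negOne : π (negOne hF) = t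
  range_le : π.range ≤ centralizer ({t} : Set G)
  ker_scalar : ∀ g ∈ π.ker, e01 g = 0 ∧ e10 g = 0 ∧ e00 g = e11 g
  ker_odd : Odd (Nat.card π.ker)
  field : centralizer ({t} : Set G) →* RingAut F
  field_ker : ∀ c, field c = 1 ↔ (c : G) ∈ π.range
  field_odd : ∀ c, Odd (orderOf (field c))
  acts : ∀ c : centralizer ({t} : Set G), ∃ g : U2 F q, ∀ h, det2 h = 1 →
    (c : G) * π h * (c : G)⁻¹ = π (g * mapU2 hF (field c) h * g⁻¹)
  hindex : (centralizer ({t} : Set G)).index = q ^ 2 * (q ^ 2 - q + 1)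

variable {G : Type*} [Group G] [Finite G] {F : Type*} [Field F] [Fintype F] {q : ℕ}

namespace Data

variable (D : Data G F q)

/-- The field part of an element of the centraliser. -/
noncomputable def fld (x : G) : RingAut F :=
  open scoped Classical in
  if h : x ∈ centralizer ({D.t} : Set G) then D.field ⟨x, h⟩ else 1

/-- An element acting on the image of `SU₂` as its field part. -/
def IsPure (y : G) : Prop :=
  y ∈ centralizer ({D.t} : Set G) ∧
    ∀ h, det2 h = 1 → y * D.π h * y⁻¹ = D.π (mapU2 D.hF (D.fld y) h)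

/-- The root group. -/
noncomputable def P0 : Subgroup G := (rootU D.hF).map D.π

/-- The torus. -/
noncomputable def H : Subgroup G := (D.π.comp (dd D.hF)).range

/-- The Borel subgroup of the centraliser. -/
noncomputable def NB : Subgroup G := (upperSubgroup D.hF).map D.π

/-- The image of the scalars. -/
noncomputable def ZC : Subgroup G :=
  ((powMonoidHom (q + 1) : Fˣ →* Fˣ).ker.map (dd D.hF)).map D.π

/-- The swap. -/
noncomputable def w : G := D.π (wn D.hF)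

include D

theorem q_ge : 3 ≤ q := by
  have h := two_le_q D.hF
  obtain ⟨k, hk⟩ := D.hodd
  omega

theorem two_ne : (2 : F) ≠ 0 := by
  obtain ⟨p, m, hp, hchar, hqp, hm⟩ := exists_prime_pow D.hF
  intro h
  have h' : ((2 : ℕ) : F) = 0 := by exact_mod_cast h
  have hp2 : p = 2 :=
    (Nat.prime_dvd_prime_iff_eq hp Nat.prime_two).1 ((CharP.cast_eq_zero_iff F p 2).1 h')
  have := D.hodd
  rw [hqp, hp2, Nat.odd_pow_iff (by omega)] at this
  exact absurd this (by decide)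

theorem neg_one_ne : (-1 : F) ≠ 1 := fun h => D.two_ne (by linear_combination -h)

theorem negOne_ne : negOne D.hF ≠ (1 : U2 F q) := fun h => by
  have := congrArg e00 h
  rw [(negOne_entries D.hF).1, e00_one] at this
  exact D.neg_one_ne this

theorem negOne_sq : negOne D.hF * negOne D.hF = (1 : U2 F q) := by
  rw [negOne, ← map_mul]
  norm_num

theorem negOne_not_mem : negOne D.hF ∉ D.π.ker := fun h => by
  have h2 : orderOf (⟨_, h⟩ : D.π.ker) = 2 := by
    rw [Subgroup.orderOf_mk]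
    exact orderOf_eq_prime (by rw [sq]; exact D.negOne_sq) D.negOne_ne
  refine Nat.not_even_iff_odd.2 D.ker_odd (even_iff_two_dvd.2 ?_)
  exact (dvd_of_eq h2.symm).trans (orderOf_dvd_natCard _)

theorem orderOf_t : orderOf D.t = 2 := by
  refine orderOf_eq_prime ?_ fun h => D.negOne_not_mem ?_
  · rw [sq, ← D.π_negOne, ← map_mul, D.negOne_sq, map_one]
  · rw [MonoidHom.mem_ker, D.π_negOne, h]

theorem mem_C (g : U2 F q) : D.π g ∈ centralizer ({D.t} : Set G) := D.range_le ⟨g, rfl⟩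

theorem comm_t (g : U2 F q) : Commute (D.π g) D.t := mem_centralizer_singleton_iff.1 (D.mem_C g)

theorem t_mem_C : D.t ∈ centralizer ({D.t} : Set G) := mem_centralizer_singleton_iff.2 rfl

theorem fld_eq {x : G} (hx : x ∈ centralizer ({D.t} : Set G)) : D.fld x = D.field ⟨x, hx⟩ :=
  dif_pos hx

theorem fld_mul {x y : G} (hx : x ∈ centralizer ({D.t} : Set G))
    (hy : y ∈ centralizer ({D.t} : Set G)) : D.fld (x * y) = D.fld x * D.fld y := by
  rw [D.fld_eq hx, D.fld_eq hy, D.fld_eq (mul_mem hx hy), ← map_mul]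
  rfl

theorem fld_inv {x : G} (hx : x ∈ centralizer ({D.t} : Set G)) : D.fld x⁻¹ = (D.fld x)⁻¹ := by
  rw [D.fld_eq hx, D.fld_eq (inv_mem hx), ← map_inv]
  rfl

theorem fld_pow {x : G} (hx : x ∈ centralizer ({D.t} : Set G)) (k : ℕ) :
    D.fld (x ^ k) = D.fld x ^ k := by
  rw [D.fld_eq hx, D.fld_eq (pow_mem hx k), ← map_pow]
  rfl

theorem fld_odd (x : G) : Odd (orderOf (D.fld x)) := by
  by_cases h : x ∈ centralizer ({D.t} : Set G)
  · rw [D.fld_eq h]; exact D.field_odd _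
  · simp [fld, h]

theorem fld_eq_one_iff {x : G} (hx : x ∈ centralizer ({D.t} : Set G)) :
    D.fld x = 1 ↔ x ∈ D.π.range := by
  rw [D.fld_eq hx]; exact D.field_ker ⟨x, hx⟩

theorem fld_pi (g : U2 F q) : D.fld (D.π g) = 1 := (D.fld_eq_one_iff (D.mem_C g)).2 ⟨g, rfl⟩

theorem fld_conj_pi {x : G} (hx : x ∈ centralizer ({D.t} : Set G)) (g : U2 F q) :
    D.fld (x * D.π g * x⁻¹) = 1 := by
  rw [D.fld_mul (mul_mem hx (D.mem_C g)) (inv_mem hx), D.fld_mul hx (D.mem_C g), D.fld_pi, mul_one,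
    D.fld_inv hx, mul_inv_cancel]

/-- The image is normal in the centraliser. -/
theorem range_conj {x : G} (hx : x ∈ centralizer ({D.t} : Set G)) (g : U2 F q) :
    ∃ g', D.π g' = x * D.π g * x⁻¹ :=
  (D.fld_eq_one_iff (mul_mem (mul_mem hx (D.mem_C g)) (inv_mem hx))).1 (D.fld_conj_pi hx g)

/-- An element of the centraliser is in the image if some power of two of it is. -/
theorem mem_range_of_two {x : G} (hx : x ∈ centralizer ({D.t} : Set G)) {k : ℕ}
    (h : x ^ 2 ^ k ∈ D.π.range) : ∃ g, D.π g = x := by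
  refine (D.fld_eq_one_iff hx).1 (orderOf_eq_one_iff.1 ?_)
  refine Nat.eq_one_of_dvd_coprimes (Nat.Coprime.pow_left k (Nat.coprime_two_left.2 (D.fld_odd x)))
    (orderOf_dvd_of_pow_eq_one ?_) dvd_rfl
  rw [← D.fld_pow hx, D.fld_eq_one_iff (pow_mem hx _)]
  exact h

theorem mem_range_of_invol {x : G} (hx : x ∈ centralizer ({D.t} : Set G)) (ho : orderOf x = 2) :
    ∃ g, D.π g = x :=
  D.mem_range_of_two hx (k := 1) (by
    have h : x ^ 2 ^ 1 = 1 := orderOf_dvd_iff_pow_eq_one.1 (by rw [ho, pow_one])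
    rw [h]; exact one_mem _)

theorem ker_eq_dd {g : U2 F q} (hg : g ∈ D.π.ker) :
    ∃ α : Fˣ, α ^ (q + 1) = 1 ∧ g = dd D.hF α := by
  obtain ⟨a, b, c⟩ := D.ker_scalar g hg
  obtain ⟨hp, hu⟩ := e00_eq_zero_or D.hF g b
  obtain ⟨-, -, h3, -⟩ := eqs D.hF g
  rw [b, zero_mul, add_zero, ← c] at h3
  refine ⟨Units.mk0 (e00 g) hp, Units.ext (by simpa [pow_succ'] using h3), ?_⟩
  obtain ⟨d0, d1, d2, d3⟩ := dd_entries D.hF (q := q) (Units.mk0 (e00 g) hp)
  refine ext4 ?_ ?_ ?_ ?_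
  · rw [d0]; rfl
  · rw [d1, a]
  · rw [d2, b]
  · rw [d3, ← c, Units.val_mk0]
    exact eq_inv_of_mul_eq_one_left h3

theorem ker_eq_one {g : U2 F q} (hg : g ∈ D.π.ker) (hd : det2 g = 1) : g = 1 := by
  obtain ⟨a, b, c⟩ := D.ker_scalar g hg
  rw [det2, a, zero_mul, sub_zero, ← c] at hd
  have h : (e00 g - 1) * (e00 g + 1) = 0 := by linear_combination hd
  rcases mul_eq_zero.1 h with h | h
  · have := sub_eq_zero.1 h
    apply ext4 <;> simp [a, b, ← c, this]
  · have := eq_neg_of_add_eq_zero_left h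
    refine absurd (?_ : g = negOne D.hF) fun h' => D.negOne_not_mem (h' ▸ hg)
    obtain ⟨n0, n1, n2, n3⟩ := negOne_entries D.hF (q := q)
    apply ext4 <;> simp [a, b, ← c, this, n0, n1, n2, n3]

theorem eq_of_det {g g' : U2 F q} (h : D.π g = D.π g') (hd : det2 g = det2 g') : g = g' := by
  refine (inv_mul_eq_one.1 (D.ker_eq_one (g := g'⁻¹ * g) ?_ ?_)).symm
  · rw [MonoidHom.mem_ker, map_mul, h, ← map_mul, inv_mul_cancel, map_one]
  · rw [det2_mul, det2_inv D.hF, hd, inv_mul_cancel₀ (det2_ne_zero D.hF g')]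

theorem comm_lift {g g' : U2 F q} (h : Commute (D.π g) (D.π g')) : g * g' = g' * g :=
  D.eq_of_det (by rw [map_mul, map_mul]; exact h.eq) (by rw [det2_mul, det2_mul, mul_comm])

theorem d_dvd : Nat.card D.π.ker ∣ q + 1 := by
  have hle : D.π.ker ≤ ((powMonoidHom (q + 1) : Fˣ →* Fˣ).ker).map (dd D.hF) := fun g hg => by
    obtain ⟨α, hα, rfl⟩ := D.ker_eq_dd hg
    exact ⟨α, hα, rfl⟩
  have := Subgroup.card_dvd_of_le hle
  rwa [card_map_of_injective (dd_injective D.hF), IsCyclic.card_powMonoidHom_ker, card_units D.hF,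
    Nat.gcd_eq_right (q_succ_dvd q)] at this

theorem card_range : Nat.card D.π.range * Nat.card D.π.ker = q * ((q + 1) * (q ^ 2 - 1)) := by
  rw [← card_U2 D.hF D.two_ne, ← D.π.ker.card_mul_index, Subgroup.index_ker, mul_comm]

theorem H_cyclic : IsCyclic D.H :=
  isCyclic_of_surjective _ (D.π.comp (dd D.hF)).rangeRestrict_surjective

theorem dd_mem (α : Fˣ) : D.π (dd D.hF α) ∈ D.H := ⟨α, rfl⟩

theorem mem_H {x : G} : x ∈ D.H ↔ ∃ α : Fˣ, D.π (dd D.hF α) = x := Iff.rfl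

theorem card_H : Nat.card D.H * Nat.card D.π.ker = q ^ 2 - 1 := by
  rw [← card_units D.hF, ← (D.π.comp (dd D.hF)).ker.card_mul_index, Subgroup.index_ker, mul_comm]
  congr 1
  refine Nat.card_congr
    { toFun := fun g => ⟨(D.ker_eq_dd g.2).choose, ?_⟩
      invFun := fun α => ⟨dd D.hF α.1, α.2⟩
      left_inv := fun g => Subtype.ext (D.ker_eq_dd g.2).choose_spec.2.symm
      right_inv := fun α => Subtype.ext (dd_injective D.hF
        (D.ker_eq_dd (g := dd D.hF α.1) α.2).choose_spec.2.symm) }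
  rw [MonoidHom.mem_ker, MonoidHom.comp_apply, ← (D.ker_eq_dd g.2).choose_spec.2]
  exact g.2

theorem t_mem_H : D.t ∈ D.H := ⟨-1, D.π_negOne⟩

theorem mem_P0 {x : G} : x ∈ D.P0 ↔ ∃ (c : F) (hc : c + c ^ q = 0), D.π (uu D.hF c hc) = x := by
  constructor
  · rintro ⟨g, ⟨c, hc, rfl⟩, rfl⟩
    exact ⟨c, hc, rfl⟩
  · rintro ⟨c, hc, rfl⟩
    exact ⟨_, ⟨c, hc, rfl⟩, rfl⟩

theorem uu_mem (c : F) (hc : c + c ^ q = 0) : D.π (uu D.hF c hc) ∈ D.P0 :=
  D.mem_P0.2 ⟨c, hc, rfl⟩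

theorem card_P0 : Nat.card D.P0 = q := by
  refine Eq.trans ?_ (card_trace_zero D.hF)
  refine (Nat.card_congr (Equiv.ofBijective
    (fun c : {x : F // x + x ^ q = 0} => (⟨D.π (uu D.hF c.1 c.2), D.uu_mem _ _⟩ : D.P0))
    ⟨fun a b h => Subtype.ext ?_, fun x => ?_⟩)).symm
  · refine uu_inj D.hF a.2 b.2 (D.eq_of_det (congrArg Subtype.val h) ?_)
    rw [det2_uu, det2_uu]
  · obtain ⟨c, hc, h⟩ := D.mem_P0.1 x.2
    exact ⟨⟨c, hc⟩, Subtype.ext h⟩

theorem P0_le_C : D.P0 ≤ centralizer ({D.t} : Set G) := by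
  rintro _ ⟨g, -, rfl⟩
  exact D.mem_C g

theorem H_le_C : D.H ≤ centralizer ({D.t} : Set G) := by
  rintro _ ⟨α, rfl⟩
  exact D.mem_C _

theorem mem_NB {x : G} :
    x ∈ D.NB ↔ ∃ (c : F) (hc : c + c ^ q = 0) (α : Fˣ),
      D.π (uu D.hF c hc) * D.π (dd D.hF α) = x := by
  constructor
  · rintro ⟨g, hg, rfl⟩
    obtain ⟨c, hc, α, rfl⟩ := upper D.hF g hg
    exact ⟨c, hc, α, (map_mul _ _ _).symm⟩
  · rintro ⟨c, hc, α, rfl⟩
    refine ⟨uu D.hF c hc * dd D.hF α, ?_, map_mul _ _ _⟩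
    show e10 _ = 0
    simp

theorem NB_le_C : D.NB ≤ centralizer ({D.t} : Set G) := by
  rintro _ ⟨g, -, rfl⟩
  exact D.mem_C g

theorem P0_le_NB : D.P0 ≤ D.NB := by
  rintro _ ⟨g, ⟨c, hc, rfl⟩, rfl⟩
  exact ⟨_, (uu_entries D.hF c hc).2.2.1, rfl⟩

theorem H_le_NB : D.H ≤ D.NB := by
  rintro _ ⟨α, rfl⟩
  exact ⟨_, (dd_entries D.hF α).2.2.1, rfl⟩

theorem dd_normalizes (α : Fˣ) {x : G} (hx : x ∈ D.P0) :
    D.π (dd D.hF α) * x * (D.π (dd D.hF α))⁻¹ ∈ D.P0 := by
  obtain ⟨c, hc, rfl⟩ := D.mem_P0.1 hx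
  rw [← map_inv, ← map_mul, ← map_mul, dd_conj_uu]
  exact D.uu_mem _ _

theorem P0_comm {x y : G} (hx : x ∈ D.P0) (hy : y ∈ D.P0) : Commute x y := by
  obtain ⟨a, ha, rfl⟩ := D.mem_P0.1 hx
  obtain ⟨b, hb, rfl⟩ := D.mem_P0.1 hy
  show _ * _ = _
  rw [← map_mul, ← map_mul, uu_mul, uu_mul]
  congr 1
  apply ext4 <;> simp [add_comm]

theorem exists_skew_ne : ∃ c : F, c + c ^ q = 0 ∧ c ≠ 0 := by
  obtain ⟨d, hd0, hd⟩ := exists_skew D.hF
  exact ⟨d, by rw [hd, add_neg_cancel], hd0⟩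

/-- An element centralising a non-trivial root element. -/
theorem cc_root {g : U2 F q} {c : F} (hc : c + c ^ q = 0) (hc0 : c ≠ 0)
    (h : Commute (D.π g) (D.π (uu D.hF c hc))) :
    ∃ (c' : F) (hc' : c' + c' ^ q = 0) (α : Fˣ), α ^ (q + 1) = 1 ∧
      g = uu D.hF c' hc' * dd D.hF α := by
  obtain ⟨h10, h00⟩ := of_comm_uu D.hF g hc hc0 (D.comm_lift h)
  obtain ⟨c', hc', α, rfl⟩ := upper D.hF g h10
  refine ⟨c', hc', α, ?_, rfl⟩
  simp at h00
  have h0 : (α : F) ^ q ≠ 0 := pow_ne_zero _ α.ne_zero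
  ext
  rw [Units.val_pow_eq_pow_val, pow_succ', Units.val_one]
  nth_rw 1 [h00]
  exact inv_mul_cancel₀ h0

/-- An element commuting with a torus element outside the scalars lies in the torus. -/
theorem cc_torus {g : U2 F q} {β : Fˣ} (hβ : β ^ (q + 1) ≠ 1)
    (h : Commute (D.π g) (D.π (dd D.hF β))) : D.π g ∈ D.H := by
  have hm := D.comm_lift h
  have a := congrArg e01 hm
  have b := congrArg e10 hm
  simp at a b
  have h0 : ((β : F) ^ q)⁻¹ - (β : F) ≠ 0 := by
    intro e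
    refine hβ (Units.ext ?_)
    rw [Units.val_pow_eq_pow_val, pow_succ', Units.val_one]
    have e' := sub_eq_zero.1 e
    nth_rw 1 [← e']
    exact inv_mul_cancel₀ (pow_ne_zero _ β.ne_zero)
  have r0 : e01 g = 0 :=
    (mul_eq_zero.1 (show (((β : F) ^ q)⁻¹ - (β : F)) * e01 g = 0 by
      linear_combination a)).resolve_left h0
  have s0 : e10 g = 0 :=
    (mul_eq_zero.1 (show (((β : F) ^ q)⁻¹ - (β : F)) * e10 g = 0 by
      linear_combination -b)).resolve_left h0
  obtain ⟨c, hc, α, rfl⟩ := upper D.hF g s0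
  simp at r0
  refine ⟨α, ?_⟩
  subst r0
  simp [uu_zero]

theorem dd_scalar {α : Fˣ} (h : α ^ (q + 1) = 1) (g : U2 F q) :
    g * dd D.hF α = dd D.hF α * g := by
  have h0 : (α : F) ^ q ≠ 0 := pow_ne_zero _ α.ne_zero
  have h1 : ((α : F) ^ q)⁻¹ = α := by
    refine inv_eq_of_mul_eq_one_left ?_
    rw [← pow_succ', ← Units.val_pow_eq_pow_val, h, Units.val_one]
  apply ext4 <;> simp [h1, mul_comm]

/-- The scalars are central in the image. -/
theorem scalar_comm {α : Fˣ} (h : α ^ (q + 1) = 1) (g : U2 F q) :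
    Commute (D.π g) (D.π (dd D.hF α)) := by
  show _ * _ = _
  rw [← map_mul, ← map_mul, D.dd_scalar h]

theorem uu_dd_inj {c c' : F} {hc : c + c ^ q = 0} {hc' : c' + c' ^ q = 0} {α α' : Fˣ}
    (h : D.π (uu D.hF c hc) * D.π (dd D.hF α) = D.π (uu D.hF c' hc') * D.π (dd D.hF α')) :
    c = c' ∧ D.π (dd D.hF α) = D.π (dd D.hF α') := by
  have hk : (uu D.hF c' hc' * dd D.hF α')⁻¹ * (uu D.hF c hc * dd D.hF α) ∈ D.π.ker := by
    rw [MonoidHom.mem_ker, map_mul, map_inv, map_mul, map_mul, h, inv_mul_cancel]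
  obtain ⟨β, hβ, he⟩ := D.ker_eq_dd hk
  have he' : uu D.hF c hc * dd D.hF α = uu D.hF c' hc' * dd D.hF (α' * β) := by
    rw [map_mul, ← mul_assoc, ← he]; group
  have a := congrArg e00 he'
  have b := congrArg e01 he'
  have b' := congrArg e11 he'
  simp at a b b'
  have hcc : c = c' := by
    rw [← b'] at b
    exact mul_right_cancel₀ (inv_ne_zero (pow_ne_zero _ α.ne_zero)) b
  subst hcc
  exact ⟨rfl, mul_left_cancel h⟩

theorem P0_inter_H {x : G} (hx : x ∈ D.P0) (hx' : x ∈ D.H) : x = 1 := by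
  obtain ⟨c, hc, rfl⟩ := D.mem_P0.1 hx
  obtain ⟨α, hα⟩ := D.mem_H.1 hx'
  have h : D.π (uu D.hF c hc) * D.π (dd D.hF 1) =
      D.π (uu D.hF 0 (skew_zero D.hF)) * D.π (dd D.hF α) := by
    rw [uu_zero D.hF, map_one (dd D.hF), map_one D.π, mul_one, one_mul, hα]
  obtain ⟨rfl, -⟩ := D.uu_dd_inj h
  rw [uu_zero, map_one]

theorem card_NB : Nat.card D.NB = q * Nat.card D.H := by
  refine Eq.trans ?_ (congrArg (· * Nat.card D.H) D.card_P0)
  rw [← Nat.card_prod]
  refine (Nat.card_congr (Equiv.ofBijective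
    (fun x : D.P0 × D.H => (⟨x.1 * x.2, D.NB.mul_mem (D.P0_le_NB x.1.2) (D.H_le_NB x.2.2)⟩ : D.NB))
    ⟨fun a b h => ?_, fun x => ?_⟩)).symm
  · have h' : (a.1 : G) * a.2 = b.1 * b.2 := congrArg Subtype.val h
    have h2 : (b.1 : G)⁻¹ * a.1 = b.2 * (a.2 : G)⁻¹ := by
      rw [eq_mul_inv_iff_mul_eq, mul_assoc, h', inv_mul_cancel_left]
    have h3 := D.P0_inter_H (D.P0.mul_mem (D.P0.inv_mem b.1.2) a.1.2)
      (h2 ▸ D.H.mul_mem b.2.2 (D.H.inv_mem a.2.2))
    have e1 : (a.1 : G) = b.1 := (inv_mul_eq_one.1 h3).symm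
    rw [e1] at h'
    exact Prod.ext (Subtype.ext e1) (Subtype.ext (mul_left_cancel h'))
  · obtain ⟨c, hc, α, h⟩ := D.mem_NB.1 x.2
    exact ⟨(⟨_, D.uu_mem c hc⟩, ⟨_, D.dd_mem α⟩), Subtype.ext h⟩

theorem mem_NB_normalizes {x y : G} (hx : x ∈ D.NB) (hy : y ∈ D.P0) : x * y * x⁻¹ ∈ D.P0 := by
  obtain ⟨c, hc, α, rfl⟩ := D.mem_NB.1 hx
  have h := D.dd_normalizes α hy
  have := D.P0.mul_mem (D.P0.mul_mem (D.uu_mem c hc) h) (D.P0.inv_mem (D.uu_mem c hc))
  simpa [mul_assoc] using this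

/-- An element of the image normalising the root group is upper triangular. -/
theorem nc_root_range {g : U2 F q} (hn : ∀ y ∈ D.P0, D.π g * y * (D.π g)⁻¹ ∈ D.P0) :
    D.π g ∈ D.NB := by
  obtain ⟨c, hc, hc0⟩ := D.exists_skew_ne
  obtain ⟨c', hc', h⟩ := D.mem_P0.1 (hn _ (D.uu_mem c hc))
  have h' : uu D.hF c' hc' = g * uu D.hF c hc * g⁻¹ := by
    refine D.eq_of_det (by rw [map_mul, map_mul, map_inv]; exact h) ?_
    rw [det2_mul, det2_mul, det2_inv D.hF, det2_uu, det2_uu, mul_one,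
      mul_inv_cancel₀ (det2_ne_zero D.hF g)]
  have hm : uu D.hF c' hc' * g = g * uu D.hF c hc := by rw [h']; group
  have b := congrArg e00 hm
  have a := congrArg e10 hm
  have c1 := congrArg e11 hm
  simp at a b c1
  refine ⟨g, ?_, rfl⟩
  show e10 g = 0
  rcases c1 with c1 | c1
  · exact c1
  · exact absurd c1 hc0

theorem orderOf_w : orderOf D.w = 2 := by
  refine orderOf_eq_prime ?_ fun h => ?_
  · rw [sq, w, ← map_mul, wn_mul_self, map_one]
  · obtain ⟨-, h01, -⟩ := D.ker_scalar (wn D.hF) h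
    simp at h01

theorem w_mul_w : D.w * D.w = 1 := by rw [← sq, ← D.orderOf_w, pow_orderOf_eq_one]

theorem w_inv : D.w⁻¹ = D.w := inv_eq_of_mul_eq_one_right D.w_mul_w

theorem w_ne_t : D.w ≠ D.t := by
  intro h
  have : (negOne D.hF)⁻¹ * wn D.hF ∈ D.π.ker := by
    rw [MonoidHom.mem_ker, map_mul, map_inv, D.π_negOne]
    exact inv_mul_eq_one.2 h.symm
  obtain ⟨-, h01, -⟩ := D.ker_scalar _ this
  simp [negOne, ← map_inv] at h01

theorem w_dd (α : Fˣ) : D.w * D.π (dd D.hF α) * D.w = D.π (dd D.hF (α ^ q)⁻¹) := by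
  rw [w, ← map_mul, ← map_mul, wn_conj_dd]

/-- The involutions of the centraliser other than `t`. -/
theorem exists_involution_conj {s : G} (hs : s ∈ centralizer ({D.t} : Set G))
    (ho : orderOf s = 2) (hne : s ≠ D.t) :
    ∃ (z : F × F) (hz : h2 q z z = 2),
      s = D.π (sA D.hF D.two_ne z hz) * D.w * (D.π (sA D.hF D.two_ne z hz))⁻¹ := by
  obtain ⟨g, rfl⟩ := D.mem_range_of_invol hs ho
  have hk : g * g ∈ D.π.ker := by
    rw [MonoidHom.mem_ker, map_mul, ← sq]
    exact orderOf_dvd_iff_pow_eq_one.1 (dvd_of_eq ho)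
  -- an odd power of `g` is an involution with the same image
  obtain ⟨m, hm⟩ := D.ker_odd
  set g' := g * (g * g) ^ m
  have hg' : g' * g' = 1 := by
    have hc : Commute g ((g * g) ^ m) := ((Commute.refl g).mul_right (Commute.refl g)).pow_right m
    calc g' * g' = g * g * ((g * g) ^ m * (g * g) ^ m) := by
          simp only [g']
          rw [mul_assoc, ← mul_assoc ((g * g) ^ m), ← hc.eq]
          simp [mul_assoc]
      _ = 1 := by
          rw [← pow_add, ← pow_succ', show m + m + 1 = 2 * m + 1 by ring, ← hm]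
          exact congrArg Subtype.val (pow_card_eq_one' (x := (⟨g * g, hk⟩ : D.π.ker)))
  have hπ : D.π g' = D.π g := by
    rw [map_mul, map_pow, MonoidHom.mem_ker.1 hk, one_pow, mul_one]
  obtain ⟨z, hz, h⟩ := exists_involution D.hF D.two_ne hg'
    (fun e => by rw [e, map_one] at hπ; rw [← hπ, orderOf_one] at ho; simp at ho)
    (fun e => hne (by rw [← hπ, e, D.π_negOne]))
  exact ⟨z, hz, by rw [← hπ, h, map_mul, map_mul, map_inv]; rfl⟩

/-- A subgroup containing two root groups of the centraliser contains `t`. -/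
theorem t_mem_of_two_roots {M : Subgroup G} {g : U2 F q} (h1 : D.P0 ≤ M)
    (h2 : MulAut.conj (D.π g) • D.P0 ≤ M) (hg : e10 g ≠ 0) : D.t ∈ M := by
  obtain ⟨hc, c', hc', α, hgb⟩ := bruhat D.hF g hg
  set c := e00 g / e10 g
  have hw : ∀ y ∈ D.P0, D.w * y * D.w ∈ M := by
    intro y hy
    -- pull `y` back through the upper triangular factor
    set b := D.π (uu D.hF c' hc') * D.π (dd D.hF α)
    have hb : b ∈ D.NB := D.mem_NB.2 ⟨c', hc', α, rfl⟩
    have hy' : b⁻¹ * y * b ∈ D.P0 := by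
      simpa using D.mem_NB_normalizes (D.NB.inv_mem hb) hy
    have hm := h2 (Subgroup.smul_mem_pointwise_smul _ (MulAut.conj (D.π g)) _ hy')
    have e : D.π g = D.π (uu D.hF c hc) * D.w * b := by
      rw [hgb, map_mul, map_mul, map_mul, mul_assoc]; rfl
    rw [MulAut.smul_def, MulAut.conj_apply, e] at hm
    have := M.mul_mem (M.mul_mem (M.inv_mem (h1 (D.uu_mem c hc))) hm) (h1 (D.uu_mem c hc))
    simpa [mul_assoc, D.w_inv] using this
  obtain ⟨e, he, he0⟩ := D.exists_skew_ne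
  have hx := M.mul_mem (M.mul_mem (h1 (D.uu_mem e he))
    (hw _ (D.uu_mem (-e⁻¹) (skew_neg D.hF (skew_inv D.hF he))))) (h1 (D.uu_mem e he))
  rw [← D.π_negOne, ← sq_neg_one D.hF he he0, map_mul]
  simp only [map_mul]
  exact M.mul_mem hx hx

/-- The root group is the full `p`-part of the image up to conjugation. -/
theorem card_range_pow {p n : ℕ} (hp : p.Prime) (hqp : q = p ^ n) (hn : 1 ≤ n) :
    (Nat.card D.π.range).factorization p = n := by
  have h := D.card_range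
  have hC : Nat.card D.π.range ≠ 0 := Nat.card_pos.ne'
  have hd : Nat.card D.π.ker ≠ 0 := Nat.card_pos.ne'
  have hq := D.q_ge
  have hpq : p ∣ q := hqp ▸ dvd_pow_self p (by omega)
  have hp1 : ¬ p ∣ q + 1 := fun hd => hp.not_dvd_one ((Nat.dvd_add_right hpq).1 hd)
  have hp2 : ¬ p ∣ q ^ 2 - 1 := fun hd => by
    have h1 := Nat.dvd_sub (dvd_pow hpq two_ne_zero) hd
    rw [Nat.sub_sub_self (Nat.one_le_pow _ _ (by omega))] at h1
    exact hp.not_dvd_one h1
  have hker : ¬ p ∣ Nat.card D.π.ker := fun hd => hp1 (hd.trans D.d_dvd)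
  have h' := congrArg (fun x => x.factorization p) h
  have hb : q ^ 2 - 1 ≠ 0 := by
    have : 3 * 3 ≤ q ^ 2 := by nlinarith
    omega
  simp only [Nat.factorization_mul hC hd, Nat.factorization_mul (by omega : q ≠ 0)
      (mul_ne_zero (Nat.succ_ne_zero q) hb), Nat.factorization_mul (Nat.succ_ne_zero q) hb,
    Finsupp.coe_add, Pi.add_apply, Nat.factorization_eq_zero_of_not_dvd hker,
    Nat.factorization_eq_zero_of_not_dvd hp1, Nat.factorization_eq_zero_of_not_dvd hp2] at h'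
  have e : ∀ m, m = p ^ n → m.factorization p = n := fun m hm => by
    rw [hm, hp.factorization_pow, Finsupp.single_eq_same]
  simpa [e q hqp] using h'

/-- A `p`-subgroup of the image lies in a conjugate of the root group. -/
theorem exists_conj_P0 {p n : ℕ} (hp : p.Prime) (hqp : q = p ^ n) (hn : 1 ≤ n) {Y : Subgroup G}
    (hY : Y ≤ D.π.range) (hYp : IsPGroup p Y) :
    ∃ g : U2 F q, ∀ y ∈ Y, (D.π g)⁻¹ * y * D.π g ∈ D.P0 := by
  haveI := Fact.mk hp
  have hP : D.P0 ≤ D.π.range := by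
    intro x hx
    obtain ⟨c, hc, rfl⟩ := D.mem_P0.1 hx
    exact ⟨_, rfl⟩
  let S : Sylow p D.π.range := Sylow.ofCard (D.P0.subgroupOf D.π.range) (by
    rw [Nat.card_congr (subgroupOfEquivOfLe hP).toEquiv, D.card_P0, D.card_range_pow hp hqp hn]
    exact hqp)
  obtain ⟨S', hS'⟩ := (hYp.of_equiv (subgroupOfEquivOfLe hY).symm).exists_le_sylow
  obtain ⟨c, hc⟩ := MulAction.exists_smul_eq D.π.range S S'
  obtain ⟨g, hg⟩ := c.2
  refine ⟨g, fun y hy => ?_⟩
  have h : (⟨y, hY hy⟩ : D.π.range) ∈ ((c • S : Sylow p D.π.range) : Subgroup D.π.range) :=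
    hc ▸ hS' (show y ∈ Y from hy)
  obtain ⟨z, hz, hze⟩ := h
  have hze : (c : G) * z * (c : G)⁻¹ = y := congrArg Subtype.val hze
  rw [hg, ← hze, show (c : G)⁻¹ * ((c : G) * z * (c : G)⁻¹) * c = z by group]
  exact hz

/-- A decomposition by an element acting as a field automorphism. -/
theorem exists_pure {x : G} (hx : x ∈ centralizer ({D.t} : Set G)) :
    ∃ (g : U2 F q) (y : G), D.IsPure y ∧ x = D.π g * y ∧ D.fld y = D.fld x := by
  obtain ⟨g, hg⟩ := D.acts ⟨x, hx⟩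
  have hy : (D.π g)⁻¹ * x ∈ centralizer ({D.t} : Set G) := mul_mem (inv_mem (D.mem_C g)) hx
  have hfy : D.fld ((D.π g)⁻¹ * x) = D.fld x := by
    rw [D.fld_mul (inv_mem (D.mem_C g)) hx, D.fld_inv (D.mem_C g), D.fld_pi, inv_one, one_mul]
  refine ⟨g, _, ⟨hy, fun h hd => ?_⟩, by rw [mul_inv_cancel_left], hfy⟩
  calc (D.π g)⁻¹ * x * D.π h * ((D.π g)⁻¹ * x)⁻¹ = (D.π g)⁻¹ * (x * D.π h * x⁻¹) * D.π g := by group
    _ = _ := by
      have e : x * D.π h * x⁻¹ = D.π (g * mapU2 D.hF (D.field ⟨x, hx⟩) h * g⁻¹) := hg h hd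
      rw [hfy, D.fld_eq hx, e, map_mul, map_mul, map_inv]
      group

theorem pure_pow {y : G} (hy : D.IsPure y) (k : ℕ) : D.IsPure (y ^ k) := by
  induction k with
  | zero =>
    refine ⟨by rw [pow_zero]; exact one_mem _, fun h _ => ?_⟩
    rw [show y ^ 0 = D.π 1 by rw [pow_zero, map_one], D.fld_pi, mapU2_one, map_one]
    group
  | succ k ih =>
    refine ⟨pow_mem hy.1 _, fun h hd => ?_⟩
    rw [pow_succ', D.fld_mul hy.1 ih.1, mapU2_mul, ← hy.2 _ (det2_mapU2_one _ _ hd), ← ih.2 h hd]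
    group

/-- A decomposition by a pure element of odd order. -/
theorem exists_pure_odd {x : G} (hx : x ∈ centralizer ({D.t} : Set G)) :
    ∃ (g : U2 F q) (y : G), D.IsPure y ∧ Odd (orderOf y) ∧ x = D.π g * y ∧ D.fld y = D.fld x := by
  obtain ⟨g, y, hy, rfl, hf⟩ := D.exists_pure hx
  set a := (orderOf y).factorization 2
  obtain ⟨l, hl⟩ : ∃ l : ℕ, (D.fld y ^ 2 ^ a) ^ l = D.fld y := exists_pow_eq_self_of_coprime
    (Nat.Coprime.pow_left a (Nat.coprime_two_left.2 (D.fld_odd y)))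
  set y' := y ^ (2 ^ a * l)
  have hy' := D.pure_pow hy (2 ^ a * l)
  have hfy : D.fld y' = D.fld y := by rw [D.fld_pow hy.1, pow_mul, hl]
  obtain ⟨g', hg'⟩ := (D.fld_eq_one_iff (mul_mem hy.1 (inv_mem hy'.1))).1 (by
    rw [D.fld_mul hy.1 (inv_mem hy'.1), D.fld_inv hy'.1, hfy, mul_inv_cancel])
  refine ⟨g * g', y', hy', ?_, by
    rw [map_mul, hg', mul_assoc, mul_assoc]
    show _ = D.π g * (y * (y'⁻¹ * y'))
    rw [inv_mul_cancel, mul_one], hfy.trans hf⟩
  have hm : Odd (orderOf y / 2 ^ a) := by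
    rw [← Nat.not_even_iff_odd, even_iff_two_dvd]
    exact Nat.not_dvd_ordCompl Nat.prime_two (orderOf_pos y).ne'
  refine hm.of_dvd_nat (orderOf_dvd_of_pow_eq_one ?_)
  rw [← pow_mul, mul_comm (2 ^ a), mul_assoc, Nat.mul_div_cancel' (Nat.ordProj_dvd _ _), mul_comm,
    pow_mul, pow_orderOf_eq_one, one_pow]

theorem pure_uu {y : G} (hy : D.IsPure y) (c : F) (hc : c + c ^ q = 0) :
    y * D.π (uu D.hF c hc) * y⁻¹ = D.π (uu D.hF (D.fld y c) (skew_map _ hc)) := by
  rw [hy.2 _ (det2_uu D.hF hc), mapU2_uu]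

/-- A pure element of odd order commutes with the swap. -/
theorem pure_comm_w {y : G} (hy : D.IsPure y) (ho : Odd (orderOf y)) : Commute y D.w := by
  obtain ⟨k, hk⟩ := D.range_conj hy.1 (wn D.hF)
  set θ := D.fld y
  set s := (wn D.hF)⁻¹ * k
  -- `s` commutes with the upper and lower root elements
  have hcomm : ∀ h, det2 h = 1 → mapU2 D.hF θ (wn D.hF * h * (wn D.hF)⁻¹) =
      k * mapU2 D.hF θ h * k⁻¹ := fun h hd => by
    have hd' : det2 (wn D.hF * h * (wn D.hF)⁻¹) = 1 := by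
      rw [det2_mul, det2_mul, hd, mul_one, det2_inv D.hF,
        mul_inv_cancel₀ (det2_ne_zero D.hF (wn D.hF))]
    refine D.eq_of_det ?_ ?_
    · rw [← hy.2 _ hd']
      simp only [map_mul, map_inv]
      rw [hk, ← hy.2 h hd]
      group
    · rw [det2_mapU2_one _ _ hd', det2_mul, det2_mul, det2_mapU2_one _ _ hd, mul_one,
        det2_inv D.hF, mul_inv_cancel₀ (det2_ne_zero D.hF k)]
  have hs : ∀ h, det2 h = 1 → s * mapU2 D.hF θ h = mapU2 D.hF θ h * s := fun h hd => by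
    have e := hcomm h hd
    rw [map_mul, map_mul, map_inv, mapU2_wn] at e
    simp only [s]
    calc (wn D.hF)⁻¹ * k * mapU2 D.hF θ h = (wn D.hF)⁻¹ * (k * mapU2 D.hF θ h * k⁻¹) * k := by group
      _ = _ := by rw [← e]; group
  obtain ⟨c, hc, hc0⟩ := D.exists_skew_ne
  have hs1 := hs _ (det2_uu D.hF hc)
  rw [mapU2_uu] at hs1
  obtain ⟨h10, h00⟩ := of_comm_uu D.hF s (skew_map θ hc) (fun e => hc0 (by simpa using e)) hs1
  have hs2 := hs (wn D.hF * uu D.hF c hc * (wn D.hF)⁻¹) (by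
    rw [det2_mul, det2_mul, det2_uu, mul_one, det2_inv D.hF,
      mul_inv_cancel₀ (det2_ne_zero D.hF (wn D.hF))])
  rw [map_mul, map_mul, map_inv, mapU2_wn, mapU2_uu] at hs2
  obtain ⟨h10', -⟩ := of_comm_uu D.hF ((wn D.hF)⁻¹ * s * wn D.hF) (skew_map θ hc)
    (fun e => hc0 (by simpa using e)) (by
    calc (wn D.hF)⁻¹ * s * wn D.hF * uu D.hF (θ c) (skew_map θ hc)
        = (wn D.hF)⁻¹ * (s * (wn D.hF * uu D.hF (θ c) (skew_map θ hc) * (wn D.hF)⁻¹)) * wn D.hF := by
          group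
      _ = _ := by rw [hs2]; group)
  obtain ⟨c', hc', α, hsα⟩ := upper D.hF s h10
  have h01 : e01 s = 0 := by simpa [wn_inv] using h10'
  have hc'0 : c' = 0 := by
    rw [hsα] at h01
    simpa using h01
  subst hc'0
  rw [uu_zero, one_mul] at hsα
  have hα : α ^ (q + 1) = 1 := by
    rw [hsα] at h00
    simp at h00
    have h0 : (α : F) ^ q ≠ 0 := pow_ne_zero _ α.ne_zero
    ext
    rw [Units.val_pow_eq_pow_val, pow_succ', Units.val_one]
    nth_rw 1 [h00]
    exact inv_mul_cancel₀ h0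
  have hkw : D.π k = D.w * D.π (dd D.hF α) := by
    rw [w, ← map_mul, ← hsα]
    simp only [s]
    rw [mul_inv_cancel_left]
  rw [hk] at hkw
  have hwt : y * D.w * y⁻¹ = D.w * D.π (dd D.hF α) := hkw
  have hz : D.π (dd D.hF α) * D.π (dd D.hF α) = 1 := by
    have h2 : (y * D.w * y⁻¹) * (y * D.w * y⁻¹) = 1 := by
      rw [show y * D.w * y⁻¹ * (y * D.w * y⁻¹) = y * (D.w * D.w) * y⁻¹ by group, D.w_mul_w]; group
    rw [hwt] at h2
    have hcw : Commute D.w (D.π (dd D.hF α)) := D.scalar_comm hα (wn D.hF)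
    rw [mul_assoc, ← mul_assoc (D.π (dd D.hF α)), ← hcw.eq, mul_assoc, ← mul_assoc D.w, D.w_mul_w,
      one_mul] at h2
    exact h2
  have hcases : D.π (dd D.hF α) = 1 ∨ D.π (dd D.hF α) = D.t := by
    by_cases h1 : D.π (dd D.hF α) = 1
    · exact Or.inl h1
    · exact Or.inr (eq_of_cyclic D.H_cyclic (orderOf_eq_prime (by rw [sq, hz]) h1) D.orderOf_t
        (D.dd_mem α) D.t_mem_H)
  rcases hcases with h | h <;> rw [h] at hwt
  · rw [mul_one] at hwt
    exact mul_inv_eq_iff_eq_mul.1 hwt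
  · -- an element of odd order cannot exchange `w` and `w * t`
    exfalso
    have hyt : y * D.t * y⁻¹ = D.t := by
      rw [mem_centralizer_singleton_iff.1 hy.1, mul_inv_cancel_right]
    have h2 : y * (D.w * D.t) * y⁻¹ = D.w := by
      calc y * (D.w * D.t) * y⁻¹ = (y * D.w * y⁻¹) * (y * D.t * y⁻¹) := by group
        _ = D.w := by rw [hwt, hyt, mul_assoc, Involution.mul_self D.orderOf_t, mul_one]
    have hsq : Commute (y ^ 2) D.w := by
      refine mul_inv_eq_iff_eq_mul.1 ?_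
      calc y ^ 2 * D.w * (y ^ 2)⁻¹ = y * (y * D.w * y⁻¹) * y⁻¹ := by rw [sq]; group
        _ = D.w := by rw [hwt, h2]
    obtain ⟨j, hj⟩ : ∃ j : ℕ, (y ^ 2) ^ j = y :=
      exists_pow_eq_self_of_coprime (Nat.coprime_two_left.2 ho)
    have := hsq.pow_left j
    rw [hj] at this
    rw [this.eq, mul_inv_cancel_right] at hwt
    exact Involution.ne_one D.orderOf_t (mul_left_cancel ((mul_one D.w).trans hwt)).symm

/-- An element of the centraliser normalising the root group. -/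
theorem nc_root {x : G} (hx : x ∈ centralizer ({D.t} : Set G))
    (hn : ∀ y ∈ D.P0, x * y * x⁻¹ ∈ D.P0) :
    ∃ u ∈ D.NB, ∃ y, D.IsPure y ∧ Odd (orderOf y) ∧ x = u * y ∧ D.fld y = D.fld x := by
  obtain ⟨g, y, hy, ho, rfl, hf⟩ := D.exists_pure_odd hx
  refine ⟨_, D.nc_root_range fun u hu => ?_, y, hy, ho, rfl, hf⟩
  obtain ⟨c, hc, rfl⟩ := D.mem_P0.1 hu
  have hc' : (D.fld y).symm c + (D.fld y).symm c ^ q = 0 := skew_map ((D.fld y).symm) hc
  have h := hn _ (D.uu_mem _ hc')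
  have e := D.pure_uu hy _ hc'
  simp only [RingEquiv.apply_symm_apply] at e
  rw [← e]
  simpa [mul_assoc] using h

/-- In a simple group `w` is a conjugate of `t`. -/
theorem fusion [IsSimpleGroup G] : ∃ g : G, g * D.t * g⁻¹ = D.w := by
  by_contra hno
  simp only [not_exists] at hno
  have hiso : Cfsg.IsIsolatedInvolution D.t := by
    refine ⟨D.orderOf_t, fun g hc => ?_⟩
    by_contra hne
    obtain ⟨z, hz, h⟩ := D.exists_involution_conj (s := g * D.t * g⁻¹)
      (mem_centralizer_singleton_iff.2 (by first | exact hc | exact hc.symm))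
      (by rw [Involution.orderOf_conj, D.orderOf_t]) hne
    refine hno ((D.π (sA D.hF D.two_ne z hz))⁻¹ * g) ?_
    rw [mul_inv_rev, inv_inv]
    calc _ = (D.π (sA D.hF D.two_ne z hz))⁻¹ * (g * D.t * g⁻¹) * D.π (sA D.hF D.two_ne z hz) := by
          group
      _ = D.w := by rw [h]; group
  obtain ⟨N, hN, hodd, hcen⟩ := Transfer.exists_odd_normal_of_isolated hiso
  rcases IsSimpleGroup.eq_bot_or_eq_top_of_normal N hN with rfl | rfl
  · have ht : D.t ∈ center G := mem_center_iff.2 fun g => by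
      exact (mul_inv_eq_iff_eq_mul.1 (mul_inv_eq_one.1 (mem_bot.1 (hcen g)))).symm
    have hbot : center G = ⊤ := ((IsSimpleGroup.eq_bot_or_eq_top_of_normal (center G)
      inferInstance).resolve_left fun h => Involution.ne_one D.orderOf_t (by rwa [h, mem_bot] at ht))
    have hcomm : ∀ a b : G, Commute a b := fun a b =>
      ((mem_center_iff.1 (hbot ▸ mem_top b : b ∈ center G)) a)
    obtain ⟨c, hc, hc0⟩ := D.exists_skew_ne
    obtain ⟨h10, -⟩ := of_comm_uu D.hF (wn D.hF) hc hc0 (D.comm_lift (hcomm _ _))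
    simp at h10
  · rw [Subgroup.card_top] at hodd
    exact Nat.not_even_iff_odd.2 hodd
      (even_iff_two_dvd.2 (D.orderOf_t ▸ orderOf_dvd_natCard D.t))

end Data

end Cfsg.Agent.U3Field
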