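import Cfsg.Agent.Lib.U3Field.Basic
import Cfsg.Agent.Lib.U3Recog.Borel

/-!
# The normaliser of the root group with a field part (owner: helper40)

* `B`, `CP` : normaliser and centraliser of `P0`; `B_inf_C_range`, `CP_inf_C`
* `B_two`, `CP_two` : both have cyclic Sylow 2-subgroups
* `card_B`, `card_CP`, `card_BC` : the orders through the involutions of `B`
* `exists_K` : the odd part of `CP`
-/

set_option autoImplicit false
set_option linter.unusedSectionVars false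
set_option linter.style.haveILetI false

namespace Cfsg.Agent.U3Field

open Subgroup Cfsg.Agent.U3Recog Cfsg.Agent.Unitary
open scoped Pointwise

variable {G : Type*} [Group G] [Finite G] {F : Type*} [Field F] [Fintype F] {q : ℕ}

namespace Data

variable (D : Data G F q)

/-- The normaliser of the root group. -/
noncomputable def B : Subgroup G := normalizer (D.P0 : Set G)

/-- The centraliser of the root group. -/
noncomputable def CP : Subgroup G := centralizer (D.P0 : Set G)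

/-- The Sylow 2-subgroup of the torus. -/
noncomputable def R : Subgroup G :=
  cycPart D.H (isCyclic_of_surjective _ (D.π.comp (dd D.hF)).rangeRestrict_surjective)
    (2 ^ (q ^ 2 - 1).factorization 2)

include D

theorem sq_sub_pos : q ^ 2 - 1 ≠ 0 := by
  have := D.q_ge
  have : 3 * 3 ≤ q ^ 2 := by nlinarith
  omega

theorem R_le_H : D.R ≤ D.H := cycPart_le _ _ _

theorem card_R : Nat.card D.R = 2 ^ (q ^ 2 - 1).factorization 2 := by
  refine U3Recog.card_cycPart_of_dvd ?_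
  refine Nat.Coprime.dvd_of_dvd_mul_right (Nat.Coprime.pow_left _
    (Nat.coprime_two_left.2 D.ker_odd)) ?_
  rw [D.card_H]
  exact Nat.ordProj_dvd _ _

theorem R_isPGroup : IsPGroup 2 D.R := IsPGroup.of_card D.card_R

theorem R_cyclic : IsCyclic D.R := cycPart_cyclic _ _ _

theorem even_sq : 2 ∣ q ^ 2 - 1 := by
  have h1 : Odd (q ^ 2) := D.hodd.pow
  obtain ⟨k, hk⟩ := h1
  exact ⟨k, by omega⟩

theorem t_mem_R : D.t ∈ D.R := by
  refine ⟨D.t_mem_H, orderOf_dvd_iff_pow_eq_one.1 ?_⟩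
  rw [D.orderOf_t]
  exact dvd_pow_self 2 (Nat.prime_two.factorization_pos_of_dvd D.sq_sub_pos D.even_sq).ne'

theorem coprime_q_two : Nat.Coprime 2 q := Nat.coprime_two_left.2 D.hodd

/-- A 2-subgroup of the Borel subgroup containing `R` is `R`. -/
theorem max_two {S : Subgroup G} (hR : D.R ≤ S) (hS : S ≤ D.NB) (hp : IsPGroup 2 S) : S = D.R := by
  haveI : Fact (Nat.Prime 2) := ⟨Nat.prime_two⟩
  refine (Subgroup.eq_of_le_of_card_ge hR ?_).symm
  obtain ⟨k, hk⟩ := hp.exists_card_eq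
  have h1 : 2 ^ k ∣ q * Nat.card D.H := by
    rw [← hk, ← D.card_NB]; exact Subgroup.card_dvd_of_le hS
  have h2 : 2 ^ k ∣ q ^ 2 - 1 := by
    rw [← D.card_H]
    exact Dvd.dvd.mul_right ((Nat.Coprime.pow_left k D.coprime_q_two).dvd_of_dvd_mul_left h1) _
  rw [hk, D.card_R]
  exact Nat.pow_le_pow_right (by norm_num)
    ((Nat.Prime.pow_dvd_iff_le_factorization Nat.prime_two D.sq_sub_pos).1 h2)

theorem conj_mem_of_mem_B {x y : G} (hx : x ∈ D.B) (hy : y ∈ D.P0) : x * y * x⁻¹ ∈ D.P0 :=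
  (mem_normalizer_iff.1 hx y).1 hy

theorem mem_B_of_conj {x : G} (h : ∀ y ∈ D.P0, x * y * x⁻¹ ∈ D.P0) : x ∈ D.B := by
  haveI : Finite ((D.P0 : Set G)) := inferInstanceAs (Finite D.P0)
  exact mem_normalizer_fintype h

theorem NB_le_B : D.NB ≤ D.B := fun _ hx => D.mem_B_of_conj fun _ hy => D.mem_NB_normalizes hx hy

/-- The elements of the image in `B` are upper triangular. -/
theorem B_inf_C_range {g : U2 F q} (h : D.π g ∈ D.B) : D.π g ∈ D.NB :=
  D.nc_root_range fun _ hy => D.conj_mem_of_mem_B h hy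

theorem pure_mem_B {y : G} (hy : D.IsPure y) : y ∈ D.B := by
  refine D.mem_B_of_conj fun u hu => ?_
  obtain ⟨c, hc, rfl⟩ := D.mem_P0.1 hu
  rw [D.pure_uu hy c hc]
  exact D.uu_mem _ _

theorem R_le_B : D.R ≤ D.B := D.R_le_H.trans (D.H_le_NB.trans D.NB_le_B)

theorem t_mem_B : D.t ∈ D.B := D.R_le_B D.t_mem_R

/-- A 2-subgroup of `C_B(t)` is upper triangular. -/
theorem two_le_NB {S : Subgroup G} (hS : S ≤ D.B ⊓ centralizer ({D.t} : Set G))
    (hp : IsPGroup 2 S) : S ≤ D.NB := fun x hx => by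
  obtain ⟨k, hk⟩ := hp ⟨x, hx⟩
  obtain ⟨g, rfl⟩ := D.mem_range_of_two (hS hx).2 (k := k) (by
    rw [show x ^ 2 ^ k = 1 from congrArg Subtype.val hk]; exact one_mem _)
  exact D.B_inf_C_range (hS hx).1

theorem B_two :
    (∀ s ∈ D.B, orderOf s = 2 → ∃ x ∈ D.B, x * D.t * x⁻¹ = s) ∧
      ∃ K : Subgroup G, K ≤ D.B ∧ D.B ≤ normalizer (K : Set G) ∧ Odd (Nat.card K) ∧
        Nat.card K * Nat.card D.R = Nat.card D.B ∧ ∀ x ∈ D.B, Odd (orderOf x) → x ∈ K :=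
  cyclic_two D.orderOf_t D.R_le_B D.R_isPGroup D.R_cyclic D.t_mem_R
    fun _ hR hS hp => D.max_two hR (D.two_le_NB hS hp) hp

theorem mem_CP {x : G} : x ∈ D.CP ↔ ∀ y ∈ D.P0, x * y = y * x :=
  ⟨fun h y hy => (mem_centralizer_iff.1 h y hy).symm,
    fun h => mem_centralizer_iff.2 fun y hy => (h y hy).symm⟩

theorem CP_le_B : D.CP ≤ D.B := fun x hx => D.mem_B_of_conj fun y hy => by
  rwa [D.mem_CP.1 hx y hy, mul_inv_cancel_right]

theorem t_mem_CP : D.t ∈ D.CP :=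
  D.mem_CP.2 fun _ hy => (mem_centralizer_singleton_iff.1 (D.P0_le_C hy)).symm

theorem P0_le_CP : D.P0 ≤ D.CP := fun _ hx => D.mem_CP.2 fun _ hy => (D.P0_comm hx hy).eq

theorem ZC_le_H : D.ZC ≤ D.H := by
  rintro _ ⟨_, ⟨α, -, rfl⟩, rfl⟩
  exact D.dd_mem α

theorem mem_ZC {x : G} : x ∈ D.ZC ↔ ∃ α : Fˣ, α ^ (q + 1) = 1 ∧ D.π (dd D.hF α) = x := by
  constructor
  · rintro ⟨_, ⟨α, hα, rfl⟩, rfl⟩
    exact ⟨α, hα, rfl⟩
  · rintro ⟨α, hα, rfl⟩
    exact ⟨_, ⟨α, hα, rfl⟩, rfl⟩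

theorem ZC_le_CP : D.ZC ≤ D.CP := by
  rintro _ hx
  obtain ⟨α, hα, rfl⟩ := D.mem_ZC.1 hx
  exact D.mem_CP.2 fun y hy => by
    obtain ⟨c, hc, rfl⟩ := D.mem_P0.1 hy
    exact (D.scalar_comm hα _).eq.symm

theorem CP_fld {x : G} (hx : x ∈ D.CP) (hx' : x ∈ centralizer ({D.t} : Set G)) : D.fld x = 1 := by
  have hn : ∀ y ∈ D.P0, x * y * x⁻¹ ∈ D.P0 := fun y hy => by
    rwa [D.mem_CP.1 hx y hy, mul_inv_cancel_right]
  obtain ⟨u, hu, y, hy, -, rfl, hf⟩ := D.nc_root hx' hn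
  obtain ⟨c', hc', α, rfl⟩ := D.mem_NB.1 hu
  obtain ⟨p, n, hp, hchar, hqp, -⟩ := exists_prime_pow D.hF
  rw [← hf]
  set θ := D.fld y
  have key : ∀ c, c + c ^ q = 0 → (α : F) ^ (q + 1) * θ c = c := fun c hc => by
    have hc2 : (α : F) ^ (q + 1) * θ c + ((α : F) ^ (q + 1) * θ c) ^ q = 0 := by
      rw [mul_pow, pow_q_succ_fixed D.hF, ← mul_add, skew_map θ hc, mul_zero]
    have e := D.mem_CP.1 hx _ (D.uu_mem c hc)
    have e1 : D.π (uu D.hF c' hc') * D.π (dd D.hF α) * y * D.π (uu D.hF c hc) *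
        (D.π (uu D.hF c' hc') * D.π (dd D.hF α) * y)⁻¹ = D.π (uu D.hF ((α : F) ^ (q + 1) * θ c) hc2) := by
      calc _ = D.π (uu D.hF c' hc') * (D.π (dd D.hF α) * (y * D.π (uu D.hF c hc) * y⁻¹) *
            (D.π (dd D.hF α))⁻¹) * (D.π (uu D.hF c' hc'))⁻¹ := by group
        _ = D.π (uu D.hF c' hc') * D.π (uu D.hF ((α : F) ^ (q + 1) * θ c) hc2) *
            (D.π (uu D.hF c' hc'))⁻¹ := by
          rw [D.pure_uu hy c hc, ← map_inv D.π (dd D.hF α), ← map_mul, ← map_mul,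
            dd_conj_uu D.hF α (skew_map θ hc)]
        _ = _ := by
          rw [(D.P0_comm (D.uu_mem c' hc') (D.uu_mem _ hc2)).eq, mul_inv_cancel_right]
    rw [e, mul_inv_cancel_right] at e1
    exact ((uu_inj D.hF hc hc2) (D.eq_of_det e1 (by rw [det2_uu, det2_uu]))).symm
  refine eq_one_of_fix_real hp D.hF hqp (D.fld_odd y) fun r hr => ?_
  obtain ⟨c, hc, hc0⟩ := D.exists_skew_ne
  have h1 := key c hc
  have h2 := key (r * c) (by rw [mul_pow, hr, ← mul_add, hc, mul_zero])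
  rw [map_mul] at h2
  refine mul_right_cancel₀ hc0 ?_
  linear_combination h2 - θ r * h1

theorem CP_inf_C {x : G} (hx : x ∈ D.CP) (hx' : x ∈ centralizer ({D.t} : Set G)) :
    ∃ u ∈ D.P0, ∃ z ∈ D.ZC, x = u * z := by
  obtain ⟨g, rfl⟩ := (D.fld_eq_one_iff hx').1 (D.CP_fld hx hx')
  obtain ⟨c, hc, hc0⟩ := D.exists_skew_ne
  obtain ⟨c', hc', α, hα, rfl⟩ := D.cc_root hc hc0 (D.mem_CP.1 hx _ (D.uu_mem c hc))
  exact ⟨_, D.uu_mem c' hc', _, D.mem_ZC.2 ⟨α, hα, rfl⟩, map_mul _ _ _⟩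

/-- The Sylow 2-subgroup of the scalars. -/
noncomputable def R0 : Subgroup G := D.R ⊓ D.ZC

theorem t_mem_ZC : D.t ∈ D.ZC := by
  refine D.mem_ZC.2 ⟨-1, ?_, D.π_negOne⟩
  exact (Even.neg_one_pow (D.hodd.add_one))

theorem CP_two : ∀ s ∈ D.CP, orderOf s = 2 → ∃ x ∈ D.CP, x * D.t * x⁻¹ = s := by
  haveI : Fact (Nat.Prime 2) := ⟨Nat.prime_two⟩
  haveI := D.R_cyclic
  refine (cyclic_two D.orderOf_t (R := D.R0) (inf_le_right.trans D.ZC_le_CP)
    (D.R_isPGroup.to_le inf_le_left) ?_ ⟨D.t_mem_R, D.t_mem_ZC⟩ ?_).1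
  · exact (subgroupOfEquivOfLe (inf_le_left : D.R0 ≤ D.R)).isCyclic.1 inferInstance
  · intro S hR hS hp
    refine le_antisymm (fun x hx => ?_) hR
    obtain ⟨u, hu, z, hz, rfl⟩ := D.CP_inf_C (hS hx).1 (hS hx).2
    -- the root part of a 2-element is trivial
    obtain ⟨k, hk⟩ := IsPGroup.iff_orderOf.1 hp ⟨u * z, hx⟩
    rw [Subgroup.orderOf_mk] at hk
    have hc : Commute u z := (D.mem_CP.1 (D.ZC_le_CP hz) u hu).symm
    have h1 : u ^ 2 ^ k * z ^ 2 ^ k = 1 := by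
      rw [← hc.mul_pow, ← hk, pow_orderOf_eq_one]
    have h2 : u ^ 2 ^ k = 1 := D.P0_inter_H (D.P0.pow_mem hu _)
      (by rw [eq_inv_of_mul_eq_one_left h1]; exact D.H.inv_mem (D.H.pow_mem (D.ZC_le_H hz) _))
    have hu1 : u = 1 := by
      rw [← orderOf_eq_one_iff]
      refine Nat.eq_one_of_dvd_coprimes (Nat.Coprime.pow_left k D.coprime_q_two)
        (orderOf_dvd_of_pow_eq_one h2) ?_
      rw [← D.card_P0, ← Subgroup.orderOf_mk u hu]
      exact orderOf_dvd_natCard _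
    subst hu1
    rw [one_mul] at hk hx ⊢
    refine ⟨⟨D.ZC_le_H hz, orderOf_dvd_iff_pow_eq_one.1 ?_⟩, hz⟩
    rw [hk]
    refine Nat.pow_dvd_pow 2 ((Nat.Prime.pow_dvd_iff_le_factorization Nat.prime_two D.sq_sub_pos).1 ?_)
    rw [← D.card_H, ← hk]
    refine Dvd.dvd.mul_right ?_ _
    rw [← Subgroup.orderOf_mk z (D.ZC_le_H hz)]
    exact orderOf_dvd_natCard _

/-- `B = CP C_B(t)`. -/
theorem B_decomp {b : G} (hb : b ∈ D.B) : ∃ x ∈ D.CP, ∃ c ∈ D.B ⊓ centralizer ({D.t} : Set G), b = x * c := by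
  have hs : b * D.t * b⁻¹ ∈ D.CP := by
    refine D.mem_CP.2 fun y hy => ?_
    have h1 : b⁻¹ * y * b ∈ D.P0 := by
      simpa using D.conj_mem_of_mem_B (D.B.inv_mem hb) hy
    have h2 := D.mem_CP.1 D.t_mem_CP _ h1
    calc b * D.t * b⁻¹ * y = b * (D.t * (b⁻¹ * y * b)) * b⁻¹ := by group
      _ = b * (b⁻¹ * y * b * D.t) * b⁻¹ := by rw [h2]
      _ = y * (b * D.t * b⁻¹) := by group
  obtain ⟨x, hx, hxe⟩ := D.CP_two _ hs (by rw [Involution.orderOf_conj, D.orderOf_t])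
  refine ⟨x, hx, x⁻¹ * b, ?_, by group⟩
  refine ⟨D.B.mul_mem (D.B.inv_mem (D.CP_le_B hx)) hb, mem_centralizer_singleton_iff.2 ?_⟩
  calc x⁻¹ * b * D.t = x⁻¹ * (b * D.t * b⁻¹) * b := by group
    _ = D.t * (x⁻¹ * b) := by rw [← hxe]; group

/-- The involutions of `B`. -/
abbrev J : Type _ := {s : G // s ∈ D.B ∧ orderOf s = 2}

theorem J_comm {s : G} (hs : s ∈ D.B) (ho : orderOf s = 2) : s ∈ D.CP := by
  obtain ⟨x, hx, rfl⟩ := D.B_two.1 s hs ho
  refine D.mem_CP.2 fun y hy => ?_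
  have h1 : x⁻¹ * y * x ∈ D.P0 := by simpa using D.conj_mem_of_mem_B (D.B.inv_mem hx) hy
  have h2 := D.mem_CP.1 D.t_mem_CP _ h1
  calc x * D.t * x⁻¹ * y = x * (D.t * (x⁻¹ * y * x)) * x⁻¹ := by group
    _ = x * (x⁻¹ * y * x * D.t) * x⁻¹ := by rw [h2]
    _ = y * (x * D.t * x⁻¹) := by group

/-- A subgroup whose involutions are conjugate to `t` : the orbit of `t`. -/
theorem card_orbit {X : Subgroup G} (htX : D.t ∈ X)
    (hconj : ∀ s ∈ X, orderOf s = 2 → ∃ x ∈ X, x * D.t * x⁻¹ = s) :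
    Nat.card X = Nat.card {s : G // s ∈ X ∧ orderOf s = 2} *
      Nat.card (X ⊓ centralizer ({D.t} : Set G) : Subgroup G) := by
  set W := X ⊓ centralizer ({D.t} : Set G)
  let f : X → {s : G // s ∈ X ∧ orderOf s = 2} := fun b => ⟨b * D.t * (b : G)⁻¹,
    X.mul_mem (X.mul_mem b.2 htX) (X.inv_mem b.2),
    by rw [Involution.orderOf_conj, D.orderOf_t]⟩
  have hf : ∀ b b' : X, f b = f b' ↔ (b : G)⁻¹ * b' ∈ W := by
    intro b b'
    constructor
    · intro h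
      have h : (b : G) * D.t * (b : G)⁻¹ = b' * D.t * (b' : G)⁻¹ := congrArg Subtype.val h
      refine ⟨X.mul_mem (X.inv_mem b.2) b'.2, mem_centralizer_singleton_iff.2 ?_⟩
      calc (b : G)⁻¹ * b' * D.t = (b : G)⁻¹ * (b' * D.t * (b' : G)⁻¹) * b' := by group
        _ = D.t * ((b : G)⁻¹ * b') := by rw [← h]; group
    · intro h
      have h2 := mem_centralizer_singleton_iff.1 h.2
      refine Subtype.ext ?_
      show (b : G) * D.t * (b : G)⁻¹ = b' * D.t * (b' : G)⁻¹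
      calc (b : G) * D.t * (b : G)⁻¹
          = b * (D.t * ((b : G)⁻¹ * b')) * ((b : G)⁻¹ * b')⁻¹ * (b : G)⁻¹ := by group
        _ = _ := by rw [← h2]; group
  let g : X ⧸ W.subgroupOf X → {s : G // s ∈ X ∧ orderOf s = 2} := Quotient.lift f fun b b' h =>
    (hf b b').2 (mem_subgroupOf.1 (QuotientGroup.leftRel_apply.1 h))
  have hg : Function.Bijective g := by
    constructor
    · rintro ⟨b⟩ ⟨b'⟩ h
      exact QuotientGroup.eq.2 (mem_subgroupOf.2 ((hf b b').1 h))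
    · intro s
      obtain ⟨x, hx, h⟩ := hconj s.1 s.2.1 s.2.2
      exact ⟨QuotientGroup.mk (⟨x, hx⟩ : X), Subtype.ext h⟩
  rw [← (W.subgroupOf X).index_mul_card, index_eq_card, Nat.card_congr (Equiv.ofBijective g hg),
    Nat.card_congr (subgroupOfEquivOfLe (inf_le_left : W ≤ X)).toEquiv]

theorem card_B : Nat.card D.B =
    Nat.card D.J * Nat.card (D.B ⊓ centralizer ({D.t} : Set G) : Subgroup G) :=
  D.card_orbit D.t_mem_B D.B_two.1

theorem card_J_CP : Nat.card {s : G // s ∈ D.CP ∧ orderOf s = 2} = Nat.card D.J :=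
  Nat.card_congr (Equiv.subtypeEquivRight fun _ =>
    ⟨fun h => ⟨D.CP_le_B h.1, h.2⟩, fun h => ⟨D.J_comm h.1 h.2, h.2⟩⟩)

theorem card_CP : Nat.card D.CP = Nat.card D.J * (q * Nat.card D.ZC) := by
  rw [D.card_orbit D.t_mem_CP D.CP_two, D.card_J_CP]
  congr 1
  refine Eq.trans ?_ (congrArg (· * Nat.card D.ZC) D.card_P0)
  rw [← Nat.card_prod]
  refine (Nat.card_congr (Equiv.ofBijective (fun x : D.P0 × D.ZC =>
    (⟨x.1 * x.2, D.CP.mul_mem (D.P0_le_CP x.1.2) (D.ZC_le_CP x.2.2),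
      mul_mem (D.P0_le_C x.1.2) (D.H_le_C (D.ZC_le_H x.2.2))⟩ :
      (D.CP ⊓ centralizer ({D.t} : Set G) : Subgroup G)))
    ⟨fun a b h => ?_, fun x => ?_⟩)).symm
  · have h' : (a.1 : G) * a.2 = b.1 * b.2 := congrArg Subtype.val h
    have h2 : (b.1 : G)⁻¹ * a.1 = b.2 * (a.2 : G)⁻¹ := by
      rw [eq_mul_inv_iff_mul_eq, mul_assoc, h', inv_mul_cancel_left]
    have h3 := D.P0_inter_H (D.P0.mul_mem (D.P0.inv_mem b.1.2) a.1.2)
      (h2 ▸ D.H.mul_mem (D.ZC_le_H b.2.2) (D.H.inv_mem (D.ZC_le_H a.2.2)))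
    have e1 : (a.1 : G) = b.1 := (inv_mul_eq_one.1 h3).symm
    rw [e1] at h'
    exact Prod.ext (Subtype.ext e1) (Subtype.ext (mul_left_cancel h'))
  · obtain ⟨u, hu, z, hz, he⟩ := D.CP_inf_C x.2.1 x.2.2
    exact ⟨(⟨u, hu⟩, ⟨z, hz⟩), Subtype.ext he.symm⟩

/-- The field part has the same image on `C_B(t)` and on `C(t)`. -/
theorem card_BC : Nat.card (D.B ⊓ centralizer ({D.t} : Set G) : Subgroup G) * Nat.card D.π.range =
    Nat.card (centralizer ({D.t} : Set G)) * Nat.card D.NB := by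
  set W := D.B ⊓ centralizer ({D.t} : Set G)
  set C := centralizer ({D.t} : Set G)
  let φ : W →* RingAut F := D.field.comp (Subgroup.inclusion inf_le_right)
  have hφ : ∀ x : W, φ x = D.fld x := fun x => (D.fld_eq x.2.2).symm
  have hker : Nat.card φ.ker = Nat.card D.NB := Nat.card_congr
    { toFun := fun x => ⟨x.1.1, by
        obtain ⟨g, hg⟩ := (D.fld_eq_one_iff x.1.2.2).1
          ((hφ x.1).symm.trans (MonoidHom.mem_ker.1 x.2))
        rw [← hg]; exact D.B_inf_C_range (hg ▸ x.1.2.1)⟩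
      invFun := fun x => ⟨⟨x.1, D.NB_le_B x.2, D.NB_le_C x.2⟩, by
        rw [MonoidHom.mem_ker, hφ]
        obtain ⟨g, -, hg⟩ := x.2
        show D.fld x.1 = 1
        rw [← hg]; exact D.fld_pi g⟩
      left_inv := fun x => rfl
      right_inv := fun x => rfl }
  have hCker : Nat.card D.field.ker = Nat.card D.π.range := Nat.card_congr
    { toFun := fun x => ⟨x.1.1, (D.field_ker x.1).1 (MonoidHom.mem_ker.1 x.2)⟩
      invFun := fun x => ⟨⟨x.1, D.range_le x.2⟩, MonoidHom.mem_ker.2 ((D.field_ker _).2 x.2)⟩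
      left_inv := fun x => rfl
      right_inv := fun x => rfl }
  have hr : φ.range = D.field.range := by
    refine le_antisymm (fun θ ⟨x, hx⟩ => ⟨_, hx⟩) ?_
    rintro θ ⟨x, rfl⟩
    obtain ⟨g, y, hy, hxy, hf⟩ := D.exists_pure x.2
    exact ⟨⟨y, D.pure_mem_B hy, hy.1⟩, by rw [hφ, hf, D.fld_eq x.2]⟩
  rw [← φ.ker.card_mul_index, ← D.field.ker.card_mul_index, Subgroup.index_ker, Subgroup.index_ker,
    hker, hCker, hr]
  ring

/-- The odd part of the centraliser of the root group. -/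
theorem exists_K : ∃ K : Subgroup G, K ≤ D.CP ∧ D.B ≤ normalizer (K : Set G) ∧
    Odd (Nat.card K) ∧ ∀ x ∈ D.CP, Odd (orderOf x) → x ∈ K := by
  obtain ⟨-, K, -, hn, hodd, -, hmem⟩ := D.B_two
  refine ⟨D.CP ⊓ K, inf_le_left, fun b hb => ?_, ?_, fun x hx ho => ⟨hx, hmem x (D.CP_le_B hx) ho⟩⟩
  · have hCP : ∀ g ∈ D.B, ∀ x ∈ D.CP, g * x * g⁻¹ ∈ D.CP := by
      intro g hg x hx
      refine D.mem_CP.2 fun y hy => ?_
      have h1 : g⁻¹ * y * g ∈ D.P0 := by simpa using D.conj_mem_of_mem_B (D.B.inv_mem hg) hy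
      calc g * x * g⁻¹ * y = g * (x * (g⁻¹ * y * g)) * g⁻¹ := by group
        _ = g * (g⁻¹ * y * g * x) * g⁻¹ := by rw [D.mem_CP.1 hx _ h1]
        _ = y * (g * x * g⁻¹) := by group
    refine mem_normalizer_iff.2 fun x => ⟨fun hx => ⟨hCP b hb x hx.1,
      (mem_normalizer_iff.1 (hn hb) x).1 hx.2⟩, fun hx => ⟨?_, (mem_normalizer_iff.1 (hn hb) x).2 hx.2⟩⟩
    simpa [mul_assoc] using hCP b⁻¹ (D.B.inv_mem hb) _ hx.1
  · exact hodd.of_dvd_nat (Subgroup.card_dvd_of_le inf_le_right)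

theorem card_H_gcd {l e : ℕ} (hl : l.Prime) (h1 : ¬ l ∣ q + 1) (he : l ^ e ∣ q - 1) :
    l ^ e ∣ Nat.card D.H := by
  refine Nat.Coprime.dvd_of_dvd_mul_right (Nat.Coprime.pow_left e (hl.coprime_iff_not_dvd.2
    fun h => h1 (h.trans D.d_dvd))) ?_
  rw [D.card_H]
  exact he.trans (q_pred_dvd q)

theorem torus_pow_ne {l : ℕ} (hl : l.Prime) (h1 : ¬ l ∣ q + 1) {α : Fˣ}
    (hne : D.π (dd D.hF α) ≠ 1) {e : ℕ} (he : D.π (dd D.hF α) ^ l ^ e = 1) : α ^ (q + 1) ≠ 1 := by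
  intro h
  refine hne (orderOf_eq_one_iff.1 (Nat.eq_one_of_dvd_coprimes
    (Nat.Coprime.pow_left e (hl.coprime_iff_not_dvd.2 h1)) (orderOf_dvd_of_pow_eq_one he) ?_))
  refine orderOf_dvd_of_pow_eq_one ?_
  rw [← map_pow, ← map_pow, h, map_one, map_one]

theorem rgroup_inf_CP {l e : ℕ} (hl : l.Prime) (h1 : ¬ l ∣ q + 1) {a : G} (ha : a ∈ D.H)
    (hae : a ^ l ^ e = 1) (hCP : a ∈ D.CP) : a = 1 := by
  obtain ⟨α, rfl⟩ := D.mem_H.1 ha
  by_contra hne
  have h2 := D.torus_pow_ne hl h1 hne hae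
  obtain ⟨c, hc, hc0⟩ := D.exists_skew_ne
  have hm := D.comm_lift (g := dd D.hF α) (g' := uu D.hF c hc) (D.mem_CP.1 hCP _ (D.uu_mem c hc))
  obtain ⟨-, h00⟩ := of_comm_uu D.hF _ hc hc0 hm
  refine h2 (Units.ext ?_)
  rw [Units.val_pow_eq_pow_val, pow_succ', Units.val_one]
  rw [(dd_entries D.hF α).1, (dd_entries D.hF α).2.2.2] at h00
  nth_rw 1 [h00]
  exact inv_mul_cancel₀ (pow_ne_zero _ α.ne_zero)

theorem centralizer_le_t {a : G} (ha : a ∈ D.R) (ha1 : a ≠ 1) :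
    centralizer ({a} : Set G) ≤ centralizer ({D.t} : Set G) := by
  haveI : Fact (Nat.Prime 2) := ⟨Nat.prime_two⟩
  obtain ⟨k, hk⟩ := IsPGroup.iff_orderOf.1 D.R_isPGroup ⟨a, ha⟩
  rw [Subgroup.orderOf_mk] at hk
  rcases k with _ | k
  · exact absurd (orderOf_eq_one_iff.1 (by simpa using hk)) ha1
  have ho : orderOf (a ^ 2 ^ k) = 2 := by
    rw [orderOf_pow' _ (pow_ne_zero _ two_ne_zero), hk,
      Nat.gcd_eq_right (pow_dvd_pow 2 k.le_succ), pow_succ,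
      Nat.mul_div_cancel_left _ (pow_pos two_pos k)]
  have ht : a ^ 2 ^ k = D.t :=
    eq_of_cyclic D.R_cyclic ho D.orderOf_t (D.R.pow_mem ha _) D.t_mem_R
  intro x hx
  refine mem_centralizer_singleton_iff.2 ?_
  have hxa : Commute x a := mem_centralizer_singleton_iff.1 hx
  rw [← ht]
  exact hxa.pow_right _

end Data

end Cfsg.Agent.U3Field
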