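import Cfsg.Agent.Lib.U3Field.Invar
import Cfsg.Agent.Lib.U3Recog.Coord

/-!
# Coordinates on the points (owner: helper40)

* `Chart` : a frame with a point `x0` fixed by `w` and moved by `t`
* `psi` : the points moved by `t` correspond to the vectors of norm two
* `pp a b` : the point with coordinates `(a, b)`, `b + b ^ q = 2 * (a ^ q * a)`
* `exists_scale`, `pure_act`, `exists_act` : the two-point stabiliser is semilinear on coordinates
* `el a b` : the element of `P` carrying `zero` to it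
-/

set_option autoImplicit false
set_option linter.unusedSectionVars false
set_option linter.style.haveILetI false

namespace Cfsg.Agent.U3Field

open Subgroup Cfsg.Agent.U3Recog Cfsg.Agent.Unitary
open scoped Pointwise

variable {G : Type*} [Group G] [Finite G] [IsSimpleGroup G] {F : Type*} [Field F] [Fintype F] {q : ℕ}

/-- A frame with a point fixed by `w` and moved by `t`. -/
structure Chart (G : Type*) [Group G] [Finite G] (F : Type*) [Field F] [Fintype F] (q : ℕ)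
    extends Frame G F q where
  x0 : G ⧸ toFrame.toData.B
  w_x0 : toFrame.toData.w • x0 = x0
  t_x0 : toFrame.toData.t • x0 ≠ x0

theorem exists_chart (D : Data G F q) (hD : ∃ x, D.fld x ≠ 1) :
    ∃ C : Chart G F q, C.toData = D := by
  obtain ⟨W, rfl⟩ := exists_frame D hD
  obtain ⟨g, hg⟩ := W.toData.fusion
  have key : ∀ x : W.toData.Pt, W.toData.t • x = x → W.toData.w • g • x = g • x := fun x hx => by
    rw [← hg, mul_smul, mul_smul, inv_smul_smul, hx]
  by_cases h1 : W.toData.t • g • W.toData.oo = g • W.toData.oo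
  · refine ⟨⟨W, g • W.toData.zero, key _ (W.toData.H_zero W.toData.t_mem_H), fun h2 => ?_⟩, rfl⟩
    refine W.toData.w_ne_t (W.toData.two_fix ?_ W.toData.orderOf_t W.toData.orderOf_w h1 h2
      (key _ W.toData.t_fix_oo) (key _ (W.toData.H_zero W.toData.t_mem_H)))
    exact fun e => W.toData.zero_ne_oo (MulAction.injective g e).symm
  · exact ⟨⟨W, g • W.toData.oo, key _ W.toData.t_fix_oo, h1⟩, rfl⟩

namespace Chart

variable (C : Chart G F q)
include C

theorem t_conj_pi (g : U2 F q) {y : C.Pt} : C.t • C.π g • y = C.π g • C.t • y := by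
  rw [← mul_smul, ← mul_smul, (C.comm_t g).eq]

theorem comm_w_of_fix {g : U2 F q} (hg : C.π g • C.x0 = C.x0) : Commute (C.π g) C.w := by
  have hne : C.x0 ≠ C.t • C.x0 := fun h => C.t_x0 h.symm
  have hw' : C.w • C.t • C.x0 = C.t • C.x0 := by
    rw [← mul_smul, show C.w * C.t = C.t * C.w from (C.comm_t (wn C.hF)).eq, mul_smul, C.w_x0]
  have hfix : (C.π g * C.w * (C.π g)⁻¹) • C.x0 = C.x0 := by
    rw [mul_smul, mul_smul, inv_smul_eq_iff.2 hg.symm, C.w_x0, hg]
  have hfix' : (C.π g * C.w * (C.π g)⁻¹) • C.t • C.x0 = C.t • C.x0 := by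
    rw [mul_smul, mul_smul, ← map_inv, ← C.t_conj_pi, map_inv, inv_smul_eq_iff.2 hg.symm, hw',
      ← C.t_conj_pi, hg]
  exact mul_inv_eq_iff_eq_mul.1 (C.two_fix hne C.orderOf_w
    (by rw [Involution.orderOf_conj, C.orderOf_w]) C.w_x0 hw' hfix hfix')

/-- An element of determinant one fixing `x0` is trivial. -/
theorem eq_one_of_fix_x0 {g : U2 F q} (hd : det2 g = 1) (hg : C.π g • C.x0 = C.x0) : g = 1 := by
  obtain ⟨hpu, hrs⟩ := C.swap_form (C.comm_w_of_fix hg)
  obtain ⟨a, ha⟩ := exists_norm_eq C.hF (c := (-1 : F)) (by rw [neg_pow_q C.hF, one_pow])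
  have hne : a ≠ 0 := fun h => by simp [h] at ha
  set s := dd C.hF (Units.mk0 a hne) with hs
  rw [pow_succ] at ha
  have ha' : (a ^ q)⁻¹ = -a := inv_eq_of_mul_eq_one_right (by linear_combination -ha)
  have h1 : s * g * s⁻¹ = g⁻¹ := by
    rw [mul_inv_eq_iff_eq_mul, eq_inv_mul_iff_mul_eq]
    simp only [det2] at hd
    rw [← hrs, ← hpu] at hd
    apply ext4 <;> simp [hs, ← hrs, ← hpu, ha']
    · linear_combination a * hd
    · ring
    · ring
    · linear_combination -a * hd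
  have hwn : s * wn C.hF * s⁻¹ = negOne C.hF * wn C.hF := by
    rw [mul_inv_eq_iff_eq_mul]
    obtain ⟨n0, n1, n2, n3⟩ := negOne_entries C.hF (q := q)
    apply ext4 <;> simp [hs, n0, n1, n2, n3, ha']
  set y := C.π s • C.x0 with hy
  have hgy : C.π g • y = y := by
    have hgi : C.π g⁻¹ • y = y := by
      rw [hy, ← h1, ← mul_smul, ← map_mul, inv_mul_cancel_right, map_mul, mul_smul, hg]
    rw [map_inv] at hgi
    exact (inv_smul_eq_iff.1 hgi).symm
  have hwy : C.w • y ≠ y := by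
    intro h
    refine C.t_x0 ?_
    have h2 : C.π (s * wn C.hF * s⁻¹) • y = C.t • y := by
      rw [hwn, map_mul, C.π_negOne, mul_smul]
      exact congrArg _ h
    rw [hy, ← mul_smul, ← map_mul, inv_mul_cancel_right, map_mul, mul_smul] at h2
    rw [show C.π (wn C.hF) • C.x0 = C.x0 from C.w_x0, C.t_conj_pi] at h2
    exact (MulAction.injective _ h2).symm
  -- move to the base frame
  obtain ⟨k, hk⟩ := C.exists_rep C.x0
  have hwk : k⁻¹ * C.w * k ∈ C.B := by
    rw [← C.smul_oo_iff, mul_smul, mul_smul, ← hk, C.w_x0, hk, inv_smul_smul]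
  have hne0 : k⁻¹ • C.t • C.x0 ≠ C.oo := fun h => C.t_x0 (by
    rw [inv_smul_eq_iff] at h; rw [h, hk])
  have hwt : C.w • C.t • C.x0 = C.t • C.x0 := by
    rw [← mul_smul, show C.w * C.t = C.t * C.w from (C.comm_t (wn C.hF)).eq, mul_smul, C.w_x0]
  obtain ⟨h, hh, hz, hht⟩ := C.frame hwk (by
      rw [show k⁻¹ * C.w * k = k⁻¹ * C.w * k⁻¹⁻¹ by rw [inv_inv], Involution.orderOf_conj,
        C.orderOf_w]) hne0
    (by rw [mul_smul, mul_smul, smul_inv_smul, hwt])
  set K := k * h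
  have K1 : K • C.oo = C.x0 := by rw [mul_smul, C.smul_oo_iff.2 hh, hk]
  have K2 : K • C.zero = C.t • C.x0 := by rw [mul_smul, hz, smul_inv_smul]
  have K3 : K * C.t * K⁻¹ = C.w := by
    calc K * C.t * K⁻¹ = k * (h * C.t * h⁻¹) * k⁻¹ := by simp only [K]; group
      _ = C.w := by rw [hht]; group
  set η := K⁻¹ * C.π g * K
  have hgw := C.comm_w_of_fix hg
  have hη : η ∈ C.H := C.stab_range (by rw [mul_smul, mul_smul, K1, hg, ← K1, inv_smul_smul])
    (by rw [mul_smul, mul_smul, K2, ← C.t_conj_pi, hg, ← K2, inv_smul_smul])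
    (C.invariance K3 ⟨g, rfl⟩ hgw)
  -- `η` commutes with the involution exchanging the base points
  set s' := K⁻¹ * C.t * K with hs'
  have hs't : Commute s' C.t := by
    show _ * _ = _
    have hKw : K⁻¹ * C.w * K = C.t := by rw [← K3]; group
    calc s' * C.t = s' * (K⁻¹ * C.w * K) := by rw [hKw]
      _ = K⁻¹ * (C.t * C.w) * K := by simp only [hs']; group
      _ = K⁻¹ * (C.w * C.t) * K := by rw [(show Commute C.w C.t from C.comm_t _).eq]
      _ = K⁻¹ * C.w * K * s' := by simp only [hs']; group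
      _ = C.t * s' := by rw [hKw]
  have hs'oo : s' • C.oo = C.zero := by
    rw [hs', mul_smul, mul_smul, K1, ← K2, inv_smul_smul]
  have hs'0 : s' • C.zero = C.oo := by
    rw [hs', mul_smul, mul_smul, K2, ← mul_smul C.t C.t, Involution.mul_self C.orderOf_t,
      one_smul, ← K1, inv_smul_smul]
  obtain ⟨g1, hg1⟩ := C.mem_range_of_invol (mem_centralizer_singleton_iff.2 hs't.eq)
    (by rw [show s' = K⁻¹ * C.t * K⁻¹⁻¹ by rw [hs', inv_inv], Involution.orderOf_conj, C.orderOf_t])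
  have hws : C.w * s' ∈ C.H := C.stab_range (by rw [mul_smul, hs'oo, C.w_zero])
    (by rw [mul_smul, hs'0]; rfl) ⟨wn C.hF * g1, by rw [map_mul, hg1]; rfl⟩
  have hηs : Commute η s' := by
    show _ * _ = _
    calc η * s' = K⁻¹ * (C.π g * C.t) * K := by simp only [η, hs']; group
      _ = K⁻¹ * (C.t * C.π g) * K := by rw [(C.comm_t g).eq]
      _ = _ := by simp only [η, hs']; group
  have hηw : Commute η C.w := by
    have h1 : Commute η (C.w * s') := congrArg Subtype.val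
      ((C.H_cyclic.isMulCommutative).is_comm.comm ⟨η, hη⟩ ⟨C.w * s', hws⟩)
    have := h1.mul_right hηs.inv_right
    rwa [mul_inv_cancel_right] at this
  obtain ⟨α, hαη⟩ := C.mem_H.1 hη
  have hα : α ^ (q + 1) = 1 := by
    obtain ⟨hpu', -⟩ := C.swap_form (g := dd C.hF α) (hαη ▸ hηw)
    rw [(dd_entries C.hF α).1, (dd_entries C.hF α).2.2.2] at hpu'
    refine Units.ext ?_
    rw [Units.val_pow_eq_pow_val, pow_succ', Units.val_one]
    nth_rw 1 [hpu']
    exact inv_mul_cancel₀ (pow_ne_zero _ α.ne_zero)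
  have hy0 : K⁻¹ • y ≠ C.oo := fun e => hwy (by
    rw [inv_smul_eq_iff, K1] at e
    rw [e, C.w_x0])
  obtain ⟨p, hp, hpy⟩ := C.exists_pt hy0
  have hηy : η • K⁻¹ • y = K⁻¹ • y := by
    rw [mul_smul, mul_smul, smul_inv_smul, hgy]
  have hp0 : p ∉ C.P0 := fun hp0 => hwy (by
    have ht : C.t • K⁻¹ • y = K⁻¹ • y := by
      rw [← hpy, ← mul_smul, ← mem_centralizer_singleton_iff.1 (C.P0_le_C hp0), mul_smul,
        C.H_zero C.t_mem_H]
    rw [← K3, mul_smul, mul_smul, ht, smul_inv_smul])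
  have hcomm : Commute p η := by
    have hp' := C.P_conj (C.NB_le_B (C.H_le_NB hη)) hp
    have e : η * p * η⁻¹ = p := C.inj_zero hp' hp (by
      rw [mul_smul, mul_smul, C.H_zero (C.H.inv_mem hη), hpy, hηy])
    exact (mul_inv_eq_iff_eq_mul.1 e).symm
  have h1' : η = 1 := by
    rw [← hαη]; exact C.semiregular hα hp hp0 (hαη.symm ▸ hcomm)
  have : C.π g = 1 := by
    calc C.π g = K * η * K⁻¹ := by simp only [η]; group
      _ = 1 := by rw [h1']; group
  exact C.ker_eq_one (MonoidHom.mem_ker.2 this) hd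

/-- The point of a vector of norm two. -/
noncomputable def psi (z : {z : F × F // h2 q z z = 2}) : C.Pt :=
  C.π (sA C.hF C.two_ne z.1 z.2) • C.x0

theorem psi_free (z : {z : F × F // h2 q z z = 2}) : C.t • C.psi z ≠ C.psi z := fun h => by
  rw [psi, C.t_conj_pi] at h
  exact C.t_x0 (MulAction.injective _ h)

theorem psi_injective : Function.Injective C.psi := fun z z' h => by
  have hfix : C.π ((sA C.hF C.two_ne z'.1 z'.2)⁻¹ * sA C.hF C.two_ne z.1 z.2) • C.x0 = C.x0 := by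
    rw [map_mul, map_inv, mul_smul, inv_smul_eq_iff]; exact h
  have e := C.eq_one_of_fix_x0 (by rw [det2_mul, det2_inv C.hF, det2_sA, det2_sA, inv_one, mul_one])
    hfix
  have e' := inv_mul_eq_one.1 e
  refine Subtype.ext ?_
  rw [← act_sA C.hF C.two_ne z.1 z.2, ← act_sA C.hF C.two_ne z'.1 z'.2, e']

theorem card_fix : Nat.card {y : C.Pt // C.t • y = y} = q + 1 := by
  classical
  haveI := Fintype.ofFinite {c : F // c + c ^ q = 0}
  let f : Option {c : F // c + c ^ q = 0} → {y : C.Pt // C.t • y = y} := fun o => match o with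
    | none => ⟨C.oo, C.t_fix_oo⟩
    | some c => ⟨C.π (uu C.hF c.1 c.2) • C.zero, C.fix_t.2 (Or.inr ⟨c.1, c.2, rfl⟩)⟩
  have hf : Function.Bijective f := by
    refine ⟨?_, ?_⟩
    · rintro (_ | c) (_ | c') h <;> have h := congrArg Subtype.val h
      · rfl
      · exact absurd h.symm C.uu_zero_ne_oo
      · exact absurd h C.uu_zero_ne_oo
      · exact congrArg some (Subtype.ext (C.uu_zero_inj h))
    · rintro ⟨y, hy⟩
      rcases C.fix_t.1 hy with rfl | ⟨c, hc, rfl⟩
      · exact ⟨none, rfl⟩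
      · exact ⟨some ⟨c, hc⟩, rfl⟩
  rw [← Nat.card_congr (Equiv.ofBijective f hf), Nat.card_eq_fintype_card, Fintype.card_option,
    ← Nat.card_eq_fintype_card, card_trace_zero C.hF]

theorem psi_surjective {y : C.Pt} (hy : C.t • y ≠ y) : ∃ z, C.psi z = y := by
  classical
  haveI := Fintype.ofFinite C.Pt
  have hb : Function.Bijective (fun z => (⟨C.psi z, C.psi_free z⟩ : {x : C.Pt // C.t • x ≠ x})) := by
    refine (Nat.bijective_iff_injective_and_card _).2
      ⟨fun a b h => C.psi_injective (congrArg Subtype.val h), ?_⟩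
    have h1 := C.card_fix
    rw [card_norm_two C.hF C.two_ne, Nat.card_eq_fintype_card, Fintype.card_subtype_compl,
      ← Nat.card_eq_fintype_card, C.card_points C.moved]
    rw [Nat.card_eq_fintype_card] at h1
    rw [h1]
    have hq := C.q_ge
    have : 1 ≤ q ^ 2 := Nat.one_le_pow _ _ (by omega)
    zify [this, show q + 1 ≤ q ^ 3 + 1 from Nat.succ_le_succ (Nat.le_self_pow three_ne_zero q)]
    ring
  obtain ⟨z, hz⟩ := hb.2 ⟨y, hy⟩
  exact ⟨z, congrArg Subtype.val hz⟩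

theorem psi_det_one {g : U2 F q} (hd : det2 g = 1) (z : {z : F × F // h2 q z z = 2}) :
    C.π g • C.psi z = C.psi ⟨act g z.1, by rw [h2_act]; exact z.2⟩ := by
  have e : g * sA C.hF C.two_ne z.1 z.2 =
      sA C.hF C.two_ne (act g z.1) (by rw [h2_act]; exact z.2) := by
    rw [eq_sA C.hF C.two_ne (g := g * sA C.hF C.two_ne z.1 z.2)
      (by rw [det2_mul, det2_sA, hd, one_mul])]
    congr 1
    rw [act_mul, act_sA]
  show C.π g • C.π _ • C.x0 = C.π _ • C.x0
  rw [← mul_smul, ← map_mul, e]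

/-- An element of the centraliser acts linearly on the vectors, up to a norm one scalar. -/
theorem exists_eps (g : U2 F q) : ∃ ε : F, ε ≠ 0 ∧ ε ^ q * ε = 1 ∧
    ∀ (z : {z : F × F // h2 q z z = 2}) (h : h2 q (ε * (act g z.1).1, ε * (act g z.1).2)
      (ε * (act g z.1).1, ε * (act g z.1).2) = 2),
    C.π g • C.psi z = C.psi ⟨_, h⟩ := by
  have key : ∀ z, ∃ z' : {z : F × F // h2 q z z = 2},
      C.π g • C.psi z = C.psi z' ∧
        C.π ((sA C.hF C.two_ne z'.1 z'.2)⁻¹ * g * sA C.hF C.two_ne z.1 z.2) • C.x0 = C.x0 := by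
    intro z
    obtain ⟨z', hz'⟩ := C.psi_surjective (y := C.π g • C.psi z) fun h => by
      rw [C.t_conj_pi] at h
      exact C.psi_free z (MulAction.injective _ h)
    refine ⟨z', hz'.symm, ?_⟩
    rw [map_mul, map_mul, map_inv, mul_smul, mul_smul, inv_smul_eq_iff]
    exact hz'.symm
  have h11 : h2 q ((1 : F), (1 : F)) (1, 1) = 2 := by rw [h2]; norm_num
  obtain ⟨z0, -, hz0⟩ := key ⟨(1, 1), h11⟩
  set g0 := (sA C.hF C.two_ne z0.1 z0.2)⁻¹ * g * sA C.hF C.two_ne (1, 1) h11 with hg0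
  obtain ⟨hpu, hrs⟩ := C.swap_form (C.comm_w_of_fix hz0)
  have hg1 : act g0 (1, 1) = (e00 g0 + e01 g0, e00 g0 + e01 g0) := by
    simp only [act, mul_one]
    rw [← hpu, ← hrs, add_comm (e01 g0)]
  have hξ : (e00 g0 + e01 g0) ^ q * (e00 g0 + e01 g0) = 1 := by
    have h := h2_act_one C.hF g0
    rw [hg1] at h
    simp only [h2] at h
    exact mul_left_cancel₀ C.two_ne (by linear_combination h)
  have hξ0 : e00 g0 + e01 g0 ≠ 0 := fun h => by simp [h, zero_pow_q C.hF] at hξ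
  refine ⟨(e00 g0 + e01 g0)⁻¹, inv_ne_zero hξ0, by rw [inv_pow, ← mul_inv, hξ, inv_one],
    fun z h => ?_⟩
  obtain ⟨z', hz', hfix⟩ := key z
  have e : (sA C.hF C.two_ne z'.1 z'.2)⁻¹ * g * sA C.hF C.two_ne z.1 z.2 = g0 := by
    refine mul_inv_eq_one.1 (C.eq_one_of_fix_x0 ?_ ?_)
    · simp only [hg0, det2_mul, det2_inv C.hF, det2_sA, inv_one, one_mul, mul_one]
      exact mul_inv_cancel₀ (det2_ne_zero C.hF g)
    · rw [map_mul, map_inv, mul_smul, inv_smul_eq_iff.2 hz0.symm, hfix]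
  rw [hz']
  congr 1
  refine Subtype.ext ?_
  have h1 : act g z.1 = act (sA C.hF C.two_ne z'.1 z'.2) (act g0 (1, 1)) := by
    rw [← e, ← act_mul]
    simp only [mul_assoc, mul_inv_cancel_left]
    rw [act_mul, act_sA]
  have h2' : act g z.1 = ((e00 g0 + e01 g0) * z'.1.1, (e00 g0 + e01 g0) * z'.1.2) := by
    conv_rhs => rw [← act_sA C.hF C.two_ne z'.1 z'.2]
    rw [h1, hg1]
    simp only [act, mul_one]
    ext <;> ring
  show z'.1 = ((e00 g0 + e01 g0)⁻¹ * (act g z.1).1, (e00 g0 + e01 g0)⁻¹ * (act g z.1).2)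
  simp only [h2']
  ext <;> field_simp

open scoped Classical in
/-- The point with coordinates `(a, b)`. -/
noncomputable def pp (a b : F) : C.Pt :=
  if ha : a = 0 then
    if hb : b + b ^ q = 0 then C.π (uu C.hF b hb) • C.zero else C.oo
  else if h : h2 q (b / a, 1 / a) (b / a, 1 / a) = 2 then C.psi ⟨_, h⟩ else C.oo

theorem vec_norm {a b : F} (ha : a ≠ 0) (h : Ok q a b) :
    h2 q (b / a, 1 / a) (b / a, 1 / a) = 2 := by
  have h' := pow_ne_zero q ha
  simp only [h2, div_pow, one_pow]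
  rw [Ok] at h
  field_simp
  linear_combination h

theorem pp_line {c : F} (hc : c + c ^ q = 0) : C.pp 0 c = C.π (uu C.hF c hc) • C.zero := by
  rw [pp, dif_pos rfl, dif_pos hc]

theorem pp_zero : C.pp 0 0 = C.zero := by
  rw [C.pp_line (skew_zero C.hF), uu_zero, map_one, one_smul]

theorem pp_free {a b : F} (ha : a ≠ 0) (h : Ok q a b) :
    C.pp a b = C.psi ⟨(b / a, 1 / a), C.vec_norm ha h⟩ := by
  rw [pp, dif_neg ha, dif_pos (C.vec_norm ha h)]

theorem psi_eq_pp {z : F × F} (hz : h2 q z z = 2) {a b : F} (h : Ok q a b) (ha : a ≠ 0)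
    (e1 : z.1 = b / a) (e2 : z.2 = 1 / a) : C.psi ⟨z, hz⟩ = C.pp a b := by
  rw [C.pp_free ha h]
  congr 1
  exact Subtype.ext (Prod.ext e1 e2)

theorem pp_t {a b : F} (h : Ok q a b) : C.t • C.pp a b = C.pp (-a) b := by
  rcases eq_or_ne a 0 with rfl | ha
  · have hb := (ok_zero C.hF).1 h
    rw [neg_zero, C.pp_line hb, C.t_conj_pi, C.H_zero C.t_mem_H]
  · rw [C.pp_free ha h, ← C.π_negOne, C.psi_det_one (by
      obtain ⟨n0, n1, n2, n3⟩ := negOne_entries C.hF (q := q)
      simp [det2, n0, n1, n2, n3])]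
    obtain ⟨n0, n1, n2, n3⟩ := negOne_entries C.hF (q := q)
    refine C.psi_eq_pp _ (h.neg C.hF) (neg_ne_zero.2 ha) ?_ ?_ <;>
      simp [act, n0, n1, n2, n3] <;> ring

theorem pp_ne_oo {a b : F} (h : Ok q a b) : C.pp a b ≠ C.oo := by
  rcases eq_or_ne a 0 with rfl | ha
  · rw [C.pp_line ((ok_zero C.hF).1 h)]; exact C.uu_zero_ne_oo
  · intro e
    rw [C.pp_free ha h] at e
    exact C.psi_free _ (by rw [e]; exact C.t_fix_oo)

theorem pp_inj {a b a' b' : F} (h : Ok q a b) (h' : Ok q a' b') (e : C.pp a b = C.pp a' b') :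
    a = a' ∧ b = b' := by
  rcases eq_or_ne a 0 with rfl | ha <;> rcases eq_or_ne a' 0 with rfl | ha'
  · rw [C.pp_line ((ok_zero C.hF).1 h), C.pp_line ((ok_zero C.hF).1 h')] at e
    exact ⟨rfl, C.uu_zero_inj e⟩
  · exfalso
    rw [C.pp_line ((ok_zero C.hF).1 h), C.pp_free ha' h'] at e
    exact C.psi_free _ (e ▸ C.fix_t.2 (Or.inr ⟨b, (ok_zero C.hF).1 h, rfl⟩))
  · exfalso
    rw [C.pp_line ((ok_zero C.hF).1 h'), C.pp_free ha h] at e
    exact C.psi_free _ (e.symm ▸ C.fix_t.2 (Or.inr ⟨b', (ok_zero C.hF).1 h', rfl⟩))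
  · rw [C.pp_free ha h, C.pp_free ha' h'] at e
    have e := congrArg Subtype.val (C.psi_injective e)
    simp only [Prod.mk.injEq] at e
    have haa : a = a' := by
      have := e.2
      rwa [one_div, one_div, inv_inj] at this
    refine ⟨haa, ?_⟩
    subst haa
    exact (div_left_inj' ha).1 e.1

theorem pp_surj {y : C.Pt} (hy : y ≠ C.oo) : ∃ a b, Ok q a b ∧ C.pp a b = y := by
  by_cases ht : C.t • y = y
  · rcases C.fix_t.1 ht with h | ⟨c, hc, h⟩
    · exact absurd h hy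
    · exact ⟨0, c, (ok_zero C.hF).2 hc, by rw [C.pp_line hc, h]⟩
  · obtain ⟨⟨z, hz⟩, rfl⟩ := C.psi_surjective ht
    have hz' := hz
    simp only [h2] at hz'
    have hz0 : z.2 ≠ 0 := fun h0 => by
      simp [h0, zero_pow_q C.hF] at hz'
      exact C.two_ne hz'.symm
    have hok : Ok q (1 / z.2) (z.1 / z.2) := by
      have := pow_ne_zero q hz0
      rw [Ok, div_pow, div_pow, one_pow]
      field_simp
      linear_combination hz'
    refine ⟨_, _, hok, (C.psi_eq_pp hz hok (one_div_ne_zero hz0) ?_ ?_).symm⟩ <;> field_simp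

theorem pp_uu {a b c : F} (h : Ok q a b) (hc : c + c ^ q = 0) :
    C.π (uu C.hF c hc) • C.pp a b = C.pp a (b + c) := by
  rcases eq_or_ne a 0 with rfl | ha
  · have hb := (ok_zero C.hF).1 h
    rw [C.pp_line hb, C.pp_line (skew_add C.hF hb hc), ← mul_smul, ← map_mul, uu_mul]
    simp only [add_comm c b]
  · rw [C.pp_free ha h, C.psi_det_one (det2_uu C.hF hc)]
    refine C.psi_eq_pp _ (h.shift C.hF hc) ha ?_ ?_ <;> simp [act]
    ring

theorem pp_w_line {c : F} (hc : c + c ^ q = 0) (hc0 : c ≠ 0) :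
    C.w • C.pp 0 c = C.pp 0 c⁻¹ := by
  rw [C.pp_line hc, C.pp_line (skew_inv C.hF hc), Data.zero_eq, ← mul_smul, ← mul_smul, ← mul_smul,
    C.smul_oo_eq, Data.w, ← map_mul, ← map_mul, ← map_mul, ← map_inv, ← map_mul, C.pi_mem_B]
  simp [mul_inv_rev, wn_inv, uu_inv, hc0]

theorem pp_w {a b : F} (ha : a ≠ 0) (h : Ok q a b) : C.w • C.pp a b = C.pp (a / b) b⁻¹ := by
  have hb := h.ne_zero C.hF C.two_ne ha
  set z : F × F := (b / a, 1 / a)
  set A := sA C.hF C.two_ne z (C.vec_norm ha h)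
  have e : C.w • C.pp a b = C.π (wn C.hF * A * wn C.hF) • C.x0 := by
    rw [C.pp_free ha h, map_mul, map_mul, mul_smul, mul_smul]
    show C.w • C.π A • C.x0 = C.w • C.π A • C.w • C.x0
    rw [C.w_x0]
  have hd : det2 (wn C.hF * A * wn C.hF) = 1 := by
    simp only [A, det2_mul, det2_wn, det2_sA]; ring
  rw [e, eq_sA C.hF C.two_ne hd]
  refine C.psi_eq_pp (h2_act_one C.hF _) (h.inv C.hF C.two_ne ha) (div_ne_zero ha hb) ?_ ?_
  all_goals
    obtain ⟨a0, b0, c0, d0⟩ := sA_entries C.hF C.two_ne z (C.vec_norm ha h)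
    simp [act, A, a0, b0, c0, d0]
    simp only [z]
    have := C.two_ne
    field_simp
    ring

/-- The torus scales the coordinates. -/
theorem exists_scale {η : G} (hη : η ∈ C.H) : ∃ s ν : F, s ≠ 0 ∧ s ^ q * s = ν ∧
    ∀ a b, Ok q a b → Ok q (s * a) (ν * b) ∧ η • C.pp a b = C.pp (s * a) (ν * b) := by
  obtain ⟨α, rfl⟩ := C.mem_H.1 hη
  obtain ⟨ε, hε0, hε, hact⟩ := C.exists_eps (dd C.hF α)
  obtain ⟨d0, d1, d2, d3⟩ := dd_entries C.hF (q := q) α
  have h0 : (α : F) ^ q ≠ 0 := pow_ne_zero _ α.ne_zero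
  have hs : ((α : F) ^ q / ε) ^ q * ((α : F) ^ q / ε) = (α : F) ^ q * α := by
    rw [div_pow, pow_q_pow_q C.hF, div_mul_div_comm, hε, div_one, mul_comm]
  refine ⟨(α : F) ^ q / ε, (α : F) ^ q * α, div_ne_zero h0 hε0, hs, fun a b h => ?_⟩
  have hν := nm_fixed C.hF (α : F)
  have hok : Ok q ((α : F) ^ q / ε * a) ((α : F) ^ q * α * b) := by
    rw [Ok] at h ⊢
    rw [mul_pow ((α : F) ^ q * α), hν, mul_pow ((α : F) ^ q / ε)]
    linear_combination ((α : F) ^ q * α) * h - 2 * (a ^ q * a) * hs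
  refine ⟨hok, ?_⟩
  rcases eq_or_ne a 0 with rfl | ha
  · have hb := (ok_zero C.hF).1 h
    rw [mul_zero, C.pp_line hb, C.pp_line ((ok_zero C.hF).1 (by simpa using hok))]
    have e : dd C.hF α * uu C.hF b hb = uu C.hF ((α : F) ^ (q + 1) * b) (by
        rw [mul_pow, pow_q_succ_fixed C.hF, ← mul_add, hb, mul_zero]) * dd C.hF α := by
      rw [← dd_conj_uu C.hF α hb, inv_mul_cancel_right]
    rw [← mul_smul, ← map_mul, e, map_mul, mul_smul, C.dd_zero]
    simp only [pow_succ]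
  · have hn : h2 q (ε * (act (dd C.hF α) (b / a, 1 / a)).1, ε * (act (dd C.hF α) (b / a, 1 / a)).2)
        (ε * (act (dd C.hF α) (b / a, 1 / a)).1, ε * (act (dd C.hF α) (b / a, 1 / a)).2) = 2 := by
      have := h2_act (dd C.hF α) (b / a, 1 / a) (b / a, 1 / a)
      rw [C.vec_norm ha h] at this
      simp only [h2, mul_pow] at this ⊢
      linear_combination (ε ^ q * ε) * this + 2 * hε
    rw [C.pp_free ha h, hact _ hn]
    refine C.psi_eq_pp _ hok (mul_ne_zero (div_ne_zero h0 hε0) ha) ?_ ?_ <;>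
      simp [act, d0, d1, d2, d3] <;> field_simp

theorem psi_one : C.psi ⟨(1, 1), by rw [h2]; norm_num⟩ = C.x0 := by
  have e := eq_sA C.hF C.two_ne (g := (1 : U2 F q)) det2_one
  have h : sA C.hF C.two_ne ((1 : F), (1 : F)) (by rw [h2]; norm_num) = 1 := by
    rw [e]
    congr 1
    simp [act]
  show C.π _ • C.x0 = C.x0
  rw [h, map_one, one_smul]

/-- A pure element of odd order acts as its field part. -/
theorem pure_act {y : G} (hy : C.IsPure y) (ho : Odd (orderOf y)) : ∃ k : F, k ≠ 0 ∧ k ^ q * k = 1 ∧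
    ∀ a b, Ok q a b → Ok q (k * C.fld y a) (C.fld y b) ∧
      y • C.pp a b = C.pp (k * C.fld y a) (C.fld y b) := by
  set θ := C.fld y with hθ
  have hyt : Commute y C.t := mem_centralizer_singleton_iff.1 hy.1
  obtain ⟨⟨z0, hz0n⟩, hz0⟩ := C.psi_surjective (y := y • C.x0) fun h => by
    rw [← mul_smul, ← hyt.eq, mul_smul] at h
    exact C.t_x0 (MulAction.injective y h)
  have hw0 : C.w • C.psi ⟨z0, hz0n⟩ = C.psi ⟨z0, hz0n⟩ := by
    rw [hz0, ← mul_smul, ← (C.pure_comm_w hy ho).eq, mul_smul, C.w_x0]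
  set z2 := z0.2 with hz2
  have hz' := hz0n
  simp only [h2] at hz'
  have hz20 : z2 ≠ 0 := fun h0 => by
    simp only [← hz2, h0, zero_pow_q C.hF, mul_zero, zero_mul, add_zero, zero_add] at hz'
    exact C.two_ne hz'.symm
  have hok0 : Ok q (1 / z2) (z0.1 / z2) := by
    have := pow_ne_zero q hz20
    rw [Ok, div_pow, div_pow, one_pow]
    field_simp
    linear_combination hz'
  have hpp : C.psi ⟨z0, hz0n⟩ = C.pp (1 / z2) (z0.1 / z2) :=
    C.psi_eq_pp hz0n hok0 (one_div_ne_zero hz20) (by field_simp) (by rw [one_div_one_div])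
  rw [hpp, C.pp_w (one_div_ne_zero hz20) hok0] at hw0
  obtain ⟨ha0, -⟩ := C.pp_inj (hok0.inv C.hF C.two_ne (one_div_ne_zero hz20)) hok0 hw0
  have he : z0.1 = z2 := by
    have hz10 : z0.1 ≠ 0 := fun h0 => by
      rw [h0, zero_div, div_zero] at ha0
      exact one_div_ne_zero hz20 ha0.symm
    field_simp at ha0
    first | exact ha0.symm | exact ha0
  have hn : z2 ^ q * z2 = 1 := by
    rw [he, ← hz2] at hz'
    exact mul_left_cancel₀ C.two_ne (by linear_combination hz')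
  have hkey : ∀ z : {z : F × F // h2 q z z = 2},
      ∀ h : h2 q (z2 * θ z.1.1, z2 * θ z.1.2) (z2 * θ z.1.1, z2 * θ z.1.2) = 2,
      y • C.psi z = C.psi ⟨_, h⟩ := by
    intro z h
    set A := sA C.hF C.two_ne z.1 z.2
    have e : y • C.psi z = C.π (mapU2 C.hF θ A) • C.psi ⟨z0, hz0n⟩ := by
      rw [hz0, hθ, ← hy.2 _ (det2_sA C.hF C.two_ne z.1 z.2), ← mul_smul]
      show y • C.π A • C.x0 = _
      rw [← mul_smul, inv_mul_cancel_right]
    rw [e, C.psi_det_one (det2_mapU2_one _ _ (det2_sA C.hF C.two_ne z.1 z.2))]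
    congr 1
    refine Subtype.ext ?_
    show act (mapU2 C.hF θ A) z0 = _
    have hz00 : z0 = (z2, z2) := Prod.ext he rfl
    have ha : act A (1, 1) = z.1 := act_sA C.hF C.two_ne z.1 z.2
    simp only [act, mul_one, Prod.ext_iff] at ha
    rw [hz00]
    simp only [act, mapU2_entries]
    rw [← ha.1, ← ha.2, map_add, map_add]
    exact Prod.ext (by ring) (by ring)
  refine ⟨z2⁻¹, inv_ne_zero hz20, by rw [inv_pow, ← mul_inv, hn, inv_one], fun a b h => ?_⟩
  have hok : Ok q (z2⁻¹ * θ a) (θ b) := by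
    have h' := congrArg θ h
    simp only [map_add, map_mul, map_pow, map_ofNat] at h'
    rw [Ok, mul_pow, inv_pow, h', show (z2 ^ q)⁻¹ * θ a ^ q * (z2⁻¹ * θ a) =
      (z2 ^ q * z2)⁻¹ * (θ a ^ q * θ a) by rw [mul_inv]; ring, hn, inv_one, one_mul]
  refine ⟨hok, ?_⟩
  rcases eq_or_ne a 0 with rfl | ha
  · have hb := (ok_zero C.hF).1 h
    rw [map_zero, mul_zero, C.pp_line hb, C.pp_line (skew_map θ hb)]
    simp only [hθ, ← C.pure_uu hy b hb, ← mul_smul, inv_mul_cancel_right]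
    rw [mul_smul]
    conv_rhs => rw [← C.pure_zero hy ho]
    rw [← mul_smul y, ← mul_smul, inv_mul_cancel_right]
  · have hθa : θ a ≠ 0 := fun e => ha (θ.injective (e.trans (map_zero θ).symm))
    have hn' : h2 q (z2 * θ (b / a), z2 * θ (1 / a)) (z2 * θ (b / a), z2 * θ (1 / a)) = 2 := by
      have := congrArg θ (C.vec_norm ha h)
      simp only [h2, map_add, map_mul, map_pow, map_ofNat] at this
      simp only [h2, mul_pow]
      linear_combination (z2 ^ q * z2) * this + 2 * hn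
    rw [C.pp_free ha h, hkey ⟨_, C.vec_norm ha h⟩ hn']
    refine C.psi_eq_pp _ hok (mul_ne_zero (inv_ne_zero hz20) hθa) ?_ ?_ <;>
      simp [map_div₀] <;> field_simp

/-- The two-point stabiliser is semilinear on the coordinates. -/
theorem exists_act {g : G} (h1 : g • C.oo = C.oo) (h2 : g • C.zero = C.zero) :
    ∃ (s ν : F) (θ : RingAut F), s ≠ 0 ∧ s ^ q * s = ν ∧ Odd (orderOf θ) ∧
      (θ = 1 → g ∈ C.π.range) ∧
      ∀ a b, Ok q a b → Ok q (s * θ a) (ν * θ b) ∧ g • C.pp a b = C.pp (s * θ a) (ν * θ b) := by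
  obtain ⟨h, hh, y, hy, ho, rfl, hf⟩ := C.stab_two h1 h2
  obtain ⟨s, ν, hs0, hsν, hs⟩ := C.exists_scale hh
  obtain ⟨k, hk0, hk, hact⟩ := C.pure_act hy ho
  refine ⟨s * k, ν, C.fld y, mul_ne_zero hs0 hk0, by
    rw [mul_pow, mul_mul_mul_comm, hsν, hk, mul_one], C.fld_odd y,
    fun e => (C.fld_eq_one_iff (C.stab_comm_t h1 h2)).1 (hf.symm.trans e), fun a b hab => ?_⟩
  obtain ⟨hok, e⟩ := hact a b hab
  obtain ⟨hok', e'⟩ := hs _ _ hok
  rw [mul_assoc]
  exact ⟨hok', by rw [mul_smul, e, e']⟩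

open scoped Classical in
/-- The element of `P` with coordinates `(a, b)`. -/
noncomputable def el (a b : F) : G :=
  if h : C.pp a b = C.oo then 1 else (C.exists_pt h).choose

theorem el_mem {a b : F} (h : Ok q a b) : C.el a b ∈ C.P := by
  rw [el, dif_neg (C.pp_ne_oo h)]; exact (C.exists_pt (C.pp_ne_oo h)).choose_spec.1

theorem el_zero {a b : F} (h : Ok q a b) : C.el a b • C.zero = C.pp a b := by
  rw [el, dif_neg (C.pp_ne_oo h)]; exact (C.exists_pt (C.pp_ne_oo h)).choose_spec.2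

theorem eq_el {a b : F} (h : Ok q a b) {x : G} (hx : x ∈ C.P) (e : x • C.zero = C.pp a b) :
    x = C.el a b := C.inj_zero hx (C.el_mem h) (e.trans (C.el_zero h).symm)

theorem el_inj {a b a' b' : F} (h : Ok q a b) (h' : Ok q a' b') (e : C.el a b = C.el a' b') :
    a = a' ∧ b = b' := C.pp_inj h h' (by rw [← C.el_zero h, e, C.el_zero h'])

theorem exists_el {x : G} (hx : x ∈ C.P) : ∃ a b, Ok q a b ∧ x = C.el a b := by
  obtain ⟨a, b, h, e⟩ := C.pp_surj (C.zero_ne hx)
  exact ⟨a, b, h, C.eq_el h hx e.symm⟩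

theorem el_line {c : F} (hc : c + c ^ q = 0) : C.el 0 c = C.π (uu C.hF c hc) :=
  (C.eq_el ((ok_zero C.hF).2 hc) (C.P0_le (C.uu_mem c hc)) (C.pp_line hc).symm).symm

theorem el_one : C.el 0 0 = 1 := by
  rw [C.el_line (skew_zero C.hF), uu_zero, map_one]

theorem el_shift {a b c : F} (h : Ok q a b) (hc : c + c ^ q = 0) :
    C.el a (b + c) = C.el a b * C.el 0 c := by
  rw [C.el_line hc, ← (C.P0_central (C.uu_mem c hc) (C.el_mem h)).eq]
  exact (C.eq_el (h.shift C.hF hc) (C.P.mul_mem (C.P0_le (C.uu_mem c hc)) (C.el_mem h))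
    (by rw [mul_smul, C.el_zero h, C.pp_uu h hc])).symm

theorem el_conj_stab {η : G} (h1 : η • C.oo = C.oo) (h2 : η • C.zero = C.zero) {a b a' b' : F}
    (h : Ok q a b) (h' : Ok q a' b') (e : η • C.pp a b = C.pp a' b') :
    η * C.el a b * η⁻¹ = C.el a' b' :=
  C.eq_el h' (C.P_conj (C.smul_oo_iff.1 h1) (C.el_mem h)) (by
    rw [mul_smul, mul_smul, inv_smul_eq_iff.2 h2.symm, C.el_zero h, e])

theorem el_conj {η : G} (hη : η ∈ C.H) {a b a' b' : F} (h : Ok q a b) (h' : Ok q a' b')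
    (e : η • C.pp a b = C.pp a' b') : η * C.el a b * η⁻¹ = C.el a' b' :=
  C.el_conj_stab (C.H_oo hη) (C.H_zero hη) h h' e

theorem el_t {a b : F} (h : Ok q a b) : C.t * C.el a b * C.t = C.el (-a) b := by
  have := C.el_conj C.t_mem_H h (h.neg C.hF) (C.pp_t h)
  rwa [Involution.inv_eq C.orderOf_t] at this

theorem exists_el_inv (a : F) : ∃ d : F, d + d ^ q = 0 ∧
    ∀ b, Ok q a b → (C.el a b)⁻¹ = C.el (-a) (b ^ q + d) := by
  have h0 := ok_self C.hF a
  obtain ⟨a', b', h', e⟩ := C.exists_el (C.P.inv_mem (C.el_mem h0))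
  have hP : C.t * C.el a (a ^ q * a) * C.t * C.el a (a ^ q * a) ∈ C.P0 := C.invert (C.el_mem h0)
  rw [C.el_t h0] at hP
  obtain ⟨k, hk, hkk⟩ := C.mem_P0.1 hP
  rw [← C.el_line hk] at hkk
  have e2 : (C.el a (a ^ q * a))⁻¹ = C.el (-a) (a ^ q * a + -k) := by
    have hc : Commute (C.el 0 k) (C.el (-a) (a ^ q * a)) := by
      rw [C.el_line hk]; exact C.P0_central (C.uu_mem k hk) (C.el_mem (h0.neg C.hF))
    rw [C.el_shift (h0.neg C.hF) (skew_neg C.hF hk)]
    refine inv_eq_of_mul_eq_one_left ?_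
    have hk' : C.el 0 (-k) * C.el 0 k = 1 := by
      rw [C.el_line hk, C.el_line (skew_neg C.hF hk), ← map_mul, uu_mul]
      simp [uu_zero]
    have hc' : Commute (C.el 0 (-k)) (C.el (-a) (a ^ q * a)) := by
      rw [C.el_line (skew_neg C.hF hk)]
      exact C.P0_central (C.uu_mem _ _) (C.el_mem (h0.neg C.hF))
    rw [← hc'.eq, mul_assoc, ← hkk, hk']
  refine ⟨-k, skew_neg C.hF hk, fun b hb => ?_⟩
  have hd := h0.sub_skew C.hF hb
  have hd' := skew_neg C.hF hd
  have e3 : (C.el a b)⁻¹ = C.el (-a) (a ^ q * a + -k) * C.el 0 (-(b - a ^ q * a)) := by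
    rw [← e2]
    conv_lhs => rw [show b = a ^ q * a + (b - a ^ q * a) by ring, C.el_shift h0 hd]
    have hc : Commute (C.el a (a ^ q * a)) (C.el 0 (b - a ^ q * a)) := by
      rw [C.el_line hd]; exact (C.P0_central (C.uu_mem _ hd) (C.el_mem h0)).symm
    rw [hc.eq, mul_inv_rev, C.el_line hd, C.el_line hd', ← map_inv, uu_inv]
  rw [e3, ← C.el_shift ((h0.neg C.hF).shift C.hF (skew_neg C.hF hk)) hd']
  congr 1
  rw [Ok] at hb
  linear_combination -hb

/-- The defect of inversion. -/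
noncomputable def dlt (a : F) : F := (C.exists_el_inv a).choose

theorem dlt_skew (a : F) : C.dlt a + C.dlt a ^ q = 0 := (C.exists_el_inv a).choose_spec.1

theorem el_inv {a b : F} (h : Ok q a b) : (C.el a b)⁻¹ = C.el (-a) (b ^ q + C.dlt a) :=
  (C.exists_el_inv a).choose_spec.2 b h

theorem inv_ok {a b : F} (h : Ok q a b) : Ok q (-a) (b ^ q + C.dlt a) :=
  ((h.conj C.hF).neg C.hF).shift C.hF (C.dlt_skew a)

theorem dlt_neg (a : F) : C.dlt (-a) = C.dlt a := by
  have h0 := ok_self C.hF a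
  have h1 := C.inv_ok h0
  have h2 := C.inv_ok h1
  have e := C.el_inv h1
  rw [← C.el_inv h0, inv_inv] at e
  have := (C.el_inj h0 h2 e).2
  rw [add_pow_q C.hF, pow_q_pow_q C.hF] at this
  have hd := C.dlt_skew a
  linear_combination -this - hd

theorem dlt_scale {η : G} (hη : η ∈ C.H) {s ν : F}
    (h : ∀ a b, Ok q a b → Ok q (s * a) (ν * b) ∧ η • C.pp a b = C.pp (s * a) (ν * b))
    (hν : ν ^ q = ν) (a : F) : C.dlt (s * a) = ν * C.dlt a := by
  have h0 := ok_self C.hF a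
  obtain ⟨ha, he⟩ := h _ _ h0
  obtain ⟨hi, hie⟩ := h _ _ (C.inv_ok h0)
  have e1 := C.el_conj hη h0 ha he
  have e2 := C.el_conj hη (C.inv_ok h0) hi hie
  rw [← C.el_inv h0] at e2
  have e3 : C.el (s * -a) (ν * ((a ^ q * a) ^ q + C.dlt a)) =
      C.el (-(s * a)) ((ν * (a ^ q * a)) ^ q + C.dlt (s * a)) := by
    rw [← C.el_inv ha, ← e1, ← e2]; group
  have := (C.el_inj hi (C.inv_ok ha) e3).2
  rw [mul_pow ν, hν] at this
  linear_combination -this

end Chart

end Cfsg.Agent.U3Field
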