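import Cfsg.Agent.Lib.U3Field.Points

/-!
# The regular subgroup and the torus (owner: helper40)

* `Frame` : a non-trivial field part and the regular normal subgroup `P` of the stabiliser
* `Frame.invert` : `t` inverts `P / P0`;  `Frame.exists_inverted` : representatives inverted by `t`
* `Frame.faithful` : the action is faithful
* `Frame.semiregular` : the scalars of the torus are semiregular outside `P0`
-/

set_option autoImplicit false
set_option linter.unusedSectionVars false
set_option linter.style.haveILetI false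

namespace Cfsg.Agent.U3Field

open Subgroup Cfsg.Agent.U3Recog Cfsg.Agent.Unitary
open scoped Pointwise

variable {G : Type*} [Group G] [Finite G] [IsSimpleGroup G] {F : Type*} [Field F] [Fintype F] {q : ℕ}

/-- The centraliser data with a non-trivial field part and the regular normal subgroup. -/
structure Frame (G : Type*) [Group G] [Finite G] (F : Type*) [Field F] [Fintype F] (q : ℕ)
    extends Data G F q where
  moved : ∃ x, toData.fld x ≠ 1
  P : Subgroup G
  P0_le : toData.P0 ≤ P
  P_le_CP : P ≤ toData.CP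
  B_normalizes : toData.B ≤ normalizer (P : Set G)
  card_P : Nat.card P = q ^ 3

theorem exists_frame (D : Data G F q) (hD : ∃ x, D.fld x ≠ 1) :
    ∃ W : Frame G F q, W.toData = D := by
  obtain ⟨P, h1, h2, h3, h4⟩ := D.exists_P hD
  exact ⟨⟨D, hD, P, h1, h2, h3, h4⟩, rfl⟩

namespace Frame

variable (W : Frame G F q)
include W

theorem P_le_B : W.P ≤ W.toData.B := W.P_le_CP.trans W.toData.CP_le_B

theorem P_oo {x : G} (hx : x ∈ W.P) : x • W.toData.oo = W.toData.oo := W.toData.smul_oo_iff.2 (W.P_le_B hx)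

theorem P_conj {b x : G} (hb : b ∈ W.toData.B) (hx : x ∈ W.P) : b * x * b⁻¹ ∈ W.P :=
  (mem_normalizer_iff.1 (W.B_normalizes hb) x).1 hx

theorem coprime_q_H : q.Coprime (Nat.card W.toData.H) := by
  obtain ⟨p, n, hp, -, hqp, hn⟩ := exists_prime_pow W.toData.hF
  have := (W.toData.coprime_p_H hp hqp hn).pow_left n
  rwa [← hqp] at this

theorem eq_one_of_mem_H {x : G} (hx : x ∈ W.P) (hx' : x ∈ W.toData.H) : x = 1 := by
  rw [← orderOf_eq_one_iff]
  refine Nat.eq_one_of_dvd_coprimes (Nat.Coprime.pow_left 3 W.coprime_q_H) ?_ ?_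
  · rw [← Subgroup.orderOf_mk x hx]
    exact (_root_.orderOf_dvd_natCard _).trans (dvd_of_eq W.card_P)
  · rw [← Subgroup.orderOf_mk x hx']; exact orderOf_dvd_natCard _

theorem eq_one_of_stab {x : G} (hx : x ∈ W.P) (h2 : x • W.toData.zero = W.toData.zero) : x = 1 := by
  obtain ⟨u, hu, z, hz, rfl⟩ := W.toData.CP_inf_C (W.P_le_CP hx)
    (W.toData.stab_comm_t (W.P_oo hx) h2)
  obtain ⟨c, hc, rfl⟩ := W.toData.mem_P0.1 hu
  rw [mul_smul, W.toData.H_zero (W.toData.ZC_le_H hz)] at h2
  have h3 : W.toData.π (uu W.toData.hF c hc) • W.toData.zero =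
      W.toData.π (uu W.toData.hF 0 (skew_zero W.toData.hF)) • W.toData.zero := by
    rw [h2, uu_zero, map_one, one_smul]
  obtain rfl := W.toData.uu_zero_inj h3
  refine W.eq_one_of_mem_H hx ?_
  rw [uu_zero, map_one, one_mul]
  exact W.toData.ZC_le_H hz

theorem inj_zero {x y : G} (hx : x ∈ W.P) (hy : y ∈ W.P)
    (h : x • W.toData.zero = y • W.toData.zero) : x = y :=
  (inv_mul_eq_one.1 (W.eq_one_of_stab (W.P.mul_mem (W.P.inv_mem hy) hx)
    (by rw [mul_smul, h, inv_smul_smul]))).symm

theorem zero_ne {x : G} (hx : x ∈ W.P) : x • W.toData.zero ≠ W.toData.oo := fun h =>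
  W.toData.zero_ne_oo (MulAction.injective x (h.trans (W.P_oo hx).symm))

theorem exists_pt {y : W.toData.Pt} (hy : y ≠ W.toData.oo) : ∃ x ∈ W.P, x • W.toData.zero = y := by
  have hb : Function.Bijective (fun x : W.P =>
      (⟨(x : G) • W.toData.zero, W.zero_ne x.2⟩ : {z : W.toData.Pt // z ≠ W.toData.oo})) :=
    (Nat.bijective_iff_injective_and_card _).2
      ⟨fun a b h => Subtype.ext (W.inj_zero a.2 b.2 (congrArg Subtype.val h)), by
        rw [W.card_P, W.toData.card_ne_oo, W.toData.card_points W.moved, Nat.add_sub_cancel]⟩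
  obtain ⟨x, hx⟩ := hb.2 ⟨y, hy⟩
  exact ⟨x, x.2, congrArg Subtype.val hx⟩

theorem P_inf_C {x : G} (hx : x ∈ W.P) (hx' : Commute x W.toData.t) : x ∈ W.toData.P0 := by
  obtain ⟨u, hu, z, hz, rfl⟩ := W.toData.CP_inf_C (W.P_le_CP hx) (mem_centralizer_singleton_iff.2 hx')
  have : z ∈ W.P := by simpa using W.P.mul_mem (W.P.inv_mem (W.P0_le hu)) hx
  rwa [W.eq_one_of_mem_H this (W.toData.ZC_le_H hz), mul_one]

theorem P0_central {c x : G} (hc : c ∈ W.toData.P0) (hx : x ∈ W.P) : Commute c x :=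
  (W.toData.mem_CP.1 (W.P_le_CP hx) c hc).symm

theorem t_conj {x : G} (hx : x ∈ W.P) : W.toData.t * x * W.toData.t ∈ W.P := by
  have := W.P_conj W.toData.t_mem_B hx
  rwa [Involution.inv_eq W.toData.orderOf_t] at this

theorem t_mul_t (z : G) : W.toData.t * (W.toData.t * z) = z := by
  rw [← mul_assoc, Involution.mul_self W.toData.orderOf_t, one_mul]

theorem eq_one_of_sq {c : G} (hc : c ∈ W.toData.P0) (h : c * c = 1) : c = 1 := by
  rw [← orderOf_eq_one_iff]
  refine Nat.eq_one_of_dvd_coprimes W.toData.coprime_q_two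
    (orderOf_dvd_of_pow_eq_one (by rwa [sq])) ?_
  rw [← Subgroup.orderOf_mk c hc]
  exact (_root_.orderOf_dvd_natCard _).trans (dvd_of_eq W.toData.card_P0)

/-- Representatives of the cosets of the root group inverted by `t`. -/
theorem exists_inverted {x : G} (hx : x ∈ W.P) :
    ∃ y ∈ W.P, W.toData.t * y * W.toData.t = y⁻¹ ∧ ∃ c ∈ W.toData.P0, x = y * c := by
  classical
  haveI := Fintype.ofFinite G
  let I := {y : G // y ∈ W.P ∧ W.toData.t * y * W.toData.t = y⁻¹}
  let β : W.P → I := fun z => ⟨(z : G)⁻¹ * (W.toData.t * z * W.toData.t), W.P.mul_mem (W.P.inv_mem z.2)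
      (W.t_conj z.2), by
    rw [mul_inv_rev, inv_inv]
    simp only [mul_assoc, mul_inv_rev, Involution.inv_eq W.toData.orderOf_t]
    rw [Involution.mul_self W.toData.orderOf_t, mul_one]⟩
  -- the map has fibres of size at most `q`
  have hfib : Nat.card W.P ≤ Nat.card I * Nat.card W.toData.P0 := by
    have key : ∀ a b : W.P, β a = β b → (b : G) * (a : G)⁻¹ ∈ W.toData.P0 := by
      intro a b h
      have h' : (a : G)⁻¹ * (W.toData.t * a * W.toData.t) = (b : G)⁻¹ * (W.toData.t * b * W.toData.t) := congrArg Subtype.val h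
      refine W.P_inf_C (W.P.mul_mem b.2 (W.P.inv_mem a.2)) ?_
      have h2 : (b : G) * (a : G)⁻¹ = W.toData.t * ((b : G) * (a : G)⁻¹) * W.toData.t := by
        calc (b : G) * (a : G)⁻¹
            = b * ((a : G)⁻¹ * (W.toData.t * a * W.toData.t)) * (W.toData.t * a * W.toData.t)⁻¹ := by group
          _ = (W.toData.t * b * W.toData.t) * (W.toData.t * a * W.toData.t)⁻¹ := by rw [h']; group
          _ = _ := by
              simp only [mul_inv_rev, Involution.inv_eq W.toData.orderOf_t, mul_assoc]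
              rw [W.t_mul_t]
      show _ * _ = _
      nth_rw 1 [h2]
      rw [mul_assoc _ W.toData.t W.toData.t, Involution.mul_self W.toData.orderOf_t, mul_one]
    let r : I → W.P := Function.invFun β
    rw [← Nat.card_prod]
    refine Nat.card_le_card_of_injective
      (fun z : W.P => (β z, (⟨(r (β z) : G) * (z : G)⁻¹, key z (r (β z))
        (Function.invFun_eq (f := β) ⟨z, rfl⟩).symm⟩ : W.toData.P0))) fun a b h => ?_
    have h1 : β a = β b := (Prod.mk.injEq _ _ _ _ ▸ h).1
    have h2 : (r (β a) : G) * (a : G)⁻¹ = (r (β b) : G) * (b : G)⁻¹ :=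
      congrArg (fun p : I × W.toData.P0 => (p.2 : G)) h
    rw [h1] at h2
    exact Subtype.ext (inv_injective (mul_left_cancel h2))
  -- products with the root group are distinct
  have hinj : Function.Injective (fun z : I × W.toData.P0 =>
      (⟨z.1.1 * z.2, W.P.mul_mem z.1.2.1 (W.P0_le z.2.2)⟩ : W.P)) := by
    rintro ⟨a, c⟩ ⟨b, d⟩ h
    have h : a.1 * (c : G) = b.1 * d := congrArg Subtype.val h
    have hk : (c : G) * (d : G)⁻¹ ∈ W.toData.P0 := W.toData.P0.mul_mem c.2 (W.toData.P0.inv_mem d.2)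
    set k := (c : G) * (d : G)⁻¹
    have hb : b.1 = a.1 * k := by rw [← mul_assoc, h, mul_inv_cancel_right]
    have hkdef : k = (c : G) * (d : G)⁻¹ := rfl
    clear_value k
    have hkt : Commute k W.toData.t := mem_centralizer_singleton_iff.1 (W.toData.P0_le_C hk)
    have hcomm : Commute k a.1 := W.P0_central hk a.2.1
    have e := b.2.2
    rw [hb] at e
    have e' : W.toData.t * (a.1 * k) * W.toData.t = a.1⁻¹ * k := by
      rw [← a.2.2, mul_assoc, mul_assoc, mul_assoc, mul_assoc, hkt.eq]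
    rw [e', mul_inv_rev, hcomm.inv_left.inv_right.eq] at e
    have hk1 : k = 1 := W.eq_one_of_sq hk (by
      have := mul_left_cancel e
      calc k * k = k * k⁻¹ := by rw [← this]
        _ = 1 := mul_inv_cancel k)
    rw [hk1, mul_one] at hb
    have hcd : (c : G) = d := mul_inv_eq_one.1 (hkdef.symm.trans hk1)
    exact Prod.ext (Subtype.ext hb.symm) (Subtype.ext hcd)
  have hbij := (Nat.bijective_iff_injective_and_card _).2 ⟨hinj, le_antisymm
    (Nat.card_le_card_of_injective _ hinj) (by rw [Nat.card_prod]; exact hfib)⟩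
  obtain ⟨⟨y, c⟩, hy⟩ := hbij.2 ⟨x, hx⟩
  exact ⟨y.1, y.2.1, y.2.2, c, c.2, (congrArg Subtype.val hy).symm⟩

/-- `t` inverts `P` modulo the root group. -/
theorem invert {x : G} (hx : x ∈ W.P) : W.toData.t * x * W.toData.t * x ∈ W.toData.P0 := by
  obtain ⟨y, hy, hyt, c, hc, rfl⟩ := W.exists_inverted hx
  have hct : Commute c W.toData.t := mem_centralizer_singleton_iff.1 (W.toData.P0_le_C hc)
  have hcy : Commute c y := W.P0_central hc hy
  have e : W.toData.t * (y * c) * W.toData.t = y⁻¹ * c := by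
    rw [← hyt, mul_assoc, mul_assoc, mul_assoc, mul_assoc, hct.eq]
  rw [e, ← mul_assoc, mul_assoc y⁻¹ c y, hcy.eq, inv_mul_cancel_left]
  exact W.toData.P0.mul_mem hc hc

/-- The action is faithful. -/
theorem faithful {g : G} (hg : ∀ y : W.toData.Pt, g • y = y) : g = 1 := by
  have h : g ∈ W.toData.B.normalCore := by
    rw [Subgroup.normalCore_eq_ker, MonoidHom.mem_ker]
    exact Equiv.ext hg
  rcases IsSimpleGroup.eq_bot_or_eq_top_of_normal W.toData.B.normalCore W.toData.B.normalCore_normal with e | e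
  · rwa [e, mem_bot] at h
  · exfalso
    have hB : W.toData.B = ⊤ := top_le_iff.1 (e ▸ W.toData.B.normalCore_le)
    exact W.toData.zero_ne_oo (W.toData.smul_oo_iff.2 (hB ▸ mem_top W.toData.w))

/-- The scalars of the torus are semiregular outside the root group. -/
theorem semiregular {α : Fˣ} (hα : α ^ (q + 1) = 1) {x : G} (hx : x ∈ W.P)
    (hx0 : x ∉ W.toData.P0) (hc : Commute x (W.toData.π (dd W.toData.hF α))) :
    W.toData.π (dd W.toData.hF α) = 1 := by
  obtain ⟨x₀, hx₀⟩ := W.moved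
  obtain ⟨p, n, r, β, Pr⟩ := W.toData.exists_prim (W.toData.fld_odd x₀) hx₀
  haveI := Fact.mk Pr.hp
  set h := W.toData.π (dd W.toData.hF α)
  have hh : h ∈ W.toData.H := W.toData.dd_mem α
  set Q0 : Subgroup G := W.P ⊓ centralizer ({h} : Set G)
  have hP : IsPGroup p W.P := IsPGroup.of_card (n := n * 3)
    (by rw [W.card_P, Pr.hqp, ← pow_mul])
  have hP0Q : W.toData.P0 ≤ Q0 := fun c hc' => ⟨W.P0_le hc', mem_centralizer_singleton_iff.2
    (W.toData.mem_CP.1 (W.toData.ZC_le_CP (W.toData.mem_ZC.2 ⟨α, hα, rfl⟩)) c hc').symm⟩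
  have hA : Data.torusA W.toData r ≤ W.toData.B :=
    (cycPart_le _ _ _).trans (W.toData.H_le_NB.trans W.toData.NB_le_B)
  have key : ∀ b ∈ W.toData.H, ∀ y ∈ Q0, b * y * b⁻¹ ∈ Q0 := by
    intro b hb y hy
    refine ⟨W.P_conj (W.toData.NB_le_B (W.toData.H_le_NB hb)) hy.1, mem_centralizer_singleton_iff.2 ?_⟩
    have hbh : Commute b h := congrArg Subtype.val
      ((W.toData.H_cyclic.isMulCommutative).is_comm.comm ⟨b, hb⟩ ⟨h, hh⟩)
    have hyh : Commute y h := mem_centralizer_singleton_iff.1 hy.2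
    exact (hbh.mul_left hyh).mul_left hbh.inv_left
  have hAQ : Data.torusA W.toData r ≤ normalizer (Q0 : Set G) := fun a ha =>
    mem_normalizer_iff.2 fun y => ⟨key a ha.1 y, fun hy => by
      simpa [mul_assoc] using key a⁻¹ (W.toData.H.inv_mem ha.1) _ hy⟩
  have hQ : Q0 = W.P := by
    by_contra hne
    have hs := Data.free_index Pr hP inf_le_left hne (hA.trans W.B_normalizes) hAQ
      (fun y hy => hP0Q (W.P_inf_C hy.1 (mem_centralizer_singleton_iff.1 hy.2)))
    rw [W.card_P] at hs
    have hlt : q < Nat.card Q0 := by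
      refine lt_of_eq_of_lt W.toData.card_P0.symm ?_
      by_contra hle
      push Not at hle
      have e := Subgroup.eq_of_le_of_card_ge hP0Q hle
      exact hx0 (e ▸ (⟨hx, mem_centralizer_singleton_iff.2 hc⟩ : x ∈ Q0))
    have := W.toData.q_ge
    have h3 : q ^ 2 * q < q ^ 2 * Nat.card Q0 :=
      Nat.mul_lt_mul_of_pos_left hlt (pow_pos (by omega) 2)
    rw [← pow_succ, show (2 + 1) = 3 from rfl] at h3
    change q ^ 2 * Nat.card Q0 ≤ q ^ 3 at hs
    omega
  refine W.faithful fun y => ?_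
  rcases eq_or_ne y W.toData.oo with rfl | hy
  · exact W.toData.H_oo hh
  · obtain ⟨z, hz, rfl⟩ := W.exists_pt hy
    have : Commute z h := mem_centralizer_singleton_iff.1 (hQ.symm ▸ hz : z ∈ Q0).2
    rw [← mul_smul, ← this.eq, mul_smul, W.toData.H_zero hh]

end Frame

end Cfsg.Agent.U3Field
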