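import Cfsg.Agent.Lib.U3Field.Frame

/-!
# The centraliser of a four group (owner: helper40)

* `swap_form`, `range_w_comm` : the elements of the image commuting with `w` form an abelian group
* `fld_one_of_quadratic` : an element of `C(t) ∩ C(w)` acting quadratically has trivial field part
* `invariance` : conjugation taking `t` to `w` keeps the image on the elements commuting with `w`
-/

set_option autoImplicit false
set_option linter.unusedSectionVars false
set_option linter.style.haveILetI false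

namespace Cfsg.Agent.U3Field

open Subgroup Cfsg.Agent.U3Recog Cfsg.Agent.Unitary
open scoped Pointwise

variable {G : Type*} [Group G] [Finite G] {F : Type*} [Field F] [Fintype F] {q : ℕ}

theorem exists_swap_elt (hF : Fintype.card F = q ^ 2) (h2 : (2 : F) ≠ 0) {u : F}
    (hu : u ^ (q + 1) = 1) :
    ∃ a : U2 F q, det2 a = 1 ∧ Commute a (wn hF) ∧ e00 a + e01 a = u := by
  have hu0 : u ≠ 0 := fun h => by simp [h] at hu
  have huq : u ^ q = u⁻¹ := eq_inv_of_mul_eq_one_left (by rw [← pow_succ, hu])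
  set x := (u + u⁻¹) / 2 with hx
  set y := (u - u⁻¹) / 2 with hy
  have hxq : x ^ q = x := by
    rw [hx, div_pow, add_pow_q hF, two_pow_q hF, inv_pow, huq, inv_inv, add_comm]
  have hyq : y ^ q = -y := by
    rw [hy, div_pow, sub_pow_q hF, two_pow_q hF, inv_pow, huq, inv_inv, ← neg_div, neg_sub]
  have hd : x * x - y * y = 1 := by rw [hx, hy]; field_simp; ring
  refine ⟨mk4 hF x y y x (by rw [hxq, hyq]; ring) (by rw [hxq, hyq]; ring)
    (by rw [hxq, hyq]; linear_combination hd), ?_, ?_, ?_⟩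
  · simp [det2, mk4_entries hF, hd]
  · apply ext4 <;> simp [mk4_entries hF]
  · simp only [mk4_entries hF, hx, hy]
    field_simp
    ring

theorem swap_val {a b : U2 F q} (h : e00 b = e11 b ∧ e01 b = e10 b) :
    e00 (a * b) + e01 (a * b) = (e00 a + e01 a) * (e00 b + e01 b) := by
  simp
  linear_combination -(e01 a) * h.1 - (e01 a) * h.2

namespace Data

variable (D : Data G F q)
include D

theorem swap_form {g : U2 F q} (h : Commute (D.π g) D.w) : e00 g = e11 g ∧ e01 g = e10 g := by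
  have hm := D.comm_lift (g := g) (g' := wn D.hF) h
  have a := congrArg e00 hm
  have b := congrArg e01 hm
  simp at a b
  exact ⟨b, a⟩

theorem range_w_comm {g g' : U2 F q} (h : Commute (D.π g) D.w) (h' : Commute (D.π g') D.w) :
    Commute (D.π g) (D.π g') := by
  obtain ⟨a, b⟩ := D.swap_form h
  obtain ⟨a', b'⟩ := D.swap_form h'
  have e : g * g' = g' * g := by
    apply ext4 <;> simp [← a, ← b, ← a', ← b'] <;> ring
  show _ * _ = _
  rw [← map_mul, e, map_mul]

theorem range_w_normal {c : G} (hc : c ∈ centralizer ({D.t} : Set G)) (hcw : Commute c D.w)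
    {g : U2 F q} (hg : Commute (D.π g) D.w) :
    ∃ g', D.π g' = c * D.π g * c⁻¹ ∧ Commute (D.π g') D.w := by
  obtain ⟨g', hg'⟩ := D.range_conj hc g
  exact ⟨g', hg', hg' ▸ (hcw.mul_left hg).mul_left hcw.inv_left⟩

theorem w_mem_C : D.w ∈ centralizer ({D.t} : Set G) := D.mem_C _

/-- An element of `C(t) ∩ C(w)` acting quadratically on the swap forms. -/
theorem fld_one_of_quadratic {y : G} (hy : y ∈ centralizer ({D.t} : Set G))
    (hyw : Commute y D.w)
    (hquad : ∀ g, Commute (D.π g) D.w → Commute y (y * D.π g * y⁻¹ * (D.π g)⁻¹)) :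
    D.fld y = 1 := by
  obtain ⟨g, y0, hy0, ho, hyy, hf⟩ := D.exists_pure_odd hy
  have hgw : Commute (D.π g) D.w := by
    rw [show D.π g = y * y0⁻¹ by rw [hyy, mul_inv_cancel_right]]
    exact hyw.mul_left (D.pure_comm_w hy0 ho).inv_left
  set θ := D.fld y0
  have act : ∀ a, det2 a = 1 → Commute a (wn D.hF) →
      y * D.π a * y⁻¹ = D.π (mapU2 D.hF θ a) := by
    intro a hd ha
    have hA : Commute (D.π (mapU2 D.hF θ a)) D.w := by
      have := (ha.map (mapU2 D.hF θ)).map D.π
      rwa [mapU2_wn] at this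
    calc y * D.π a * y⁻¹ = D.π g * (y0 * D.π a * y0⁻¹) * (D.π g)⁻¹ := by rw [hyy]; group
      _ = _ := by rw [hy0.2 a hd, (D.range_w_comm hgw hA).eq, mul_inv_cancel_right]
  obtain ⟨p, n, hp, hchar, hqp, -⟩ := exists_prime_pow D.hF
  rw [← hf]
  refine eq_one_of_quadratic hp D.hF hqp D.hodd (D.fld_odd y0) fun u hu => ?_
  obtain ⟨a, had, haw, hau⟩ := exists_swap_elt D.hF D.two_ne hu
  have hau' : θ (e00 a) + θ (e01 a) = θ u := by rw [← map_add, hau]
  set c := mapU2 D.hF θ a * a⁻¹
  have hcd : det2 c = 1 := by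
    simp only [c, det2_mul, det2_inv D.hF, det2_mapU2_one _ _ had, had, inv_one, mul_one]
  have hcw : Commute c (wn D.hF) := by
    refine Commute.mul_left ?_ haw.inv_left
    have := haw.map (mapU2 D.hF θ)
    rwa [mapU2_wn] at this
  have hc : D.π c = y * D.π a * y⁻¹ * (D.π a)⁻¹ := by rw [act a had haw, map_mul, map_inv]
  have hfix : mapU2 D.hF θ c = c := by
    refine D.eq_of_det ?_ (by rw [det2_mapU2_one _ _ hcd, hcd])
    rw [← act c hcd hcw, mul_inv_eq_iff_eq_mul, hc]
    exact (hquad a (haw.map D.π)).eq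
  have hsa := D.swap_form (haw.map D.π)
  have hca : mapU2 D.hF θ a = c * a := (inv_mul_cancel_right _ _).symm
  have e := congrArg (fun z => e00 z + e01 z) hca
  simp only [swap_val hsa, mapU2_entries, hau, hau'] at e
  have e' := congrArg (fun z => e00 z + e01 z) hfix
  simp only [mapU2_entries, ← map_add] at e'
  have hu0 : u ≠ 0 := fun h => by simp [h] at hu
  set v := e00 c + e01 c
  have h2 : ∀ x, (θ ^ 2) x = θ (θ x) := fun x => by rw [sq]; rfl
  have hw2 : θ (θ u) / u = v * v := by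
    rw [e, map_mul, e', e]; field_simp
  rw [h2 u, hw2, h2]
  simp only [map_mul, e']

/-- Conjugation taking `t` to `w` keeps the image on the elements commuting with `w`. -/
theorem invariance {K : G} (hK : K * D.t * K⁻¹ = D.w) {x : G} (hx : x ∈ D.π.range)
    (hxw : Commute x D.w) : K⁻¹ * x * K ∈ D.π.range := by
  set s := K⁻¹ * D.t * K
  have hKw : K⁻¹ * D.w * K = D.t := by rw [← hK]; group
  have hst : Commute s D.t := by
    show _ * _ = _
    calc s * D.t = s * (K⁻¹ * D.w * K) := by rw [hKw]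
      _ = K⁻¹ * (D.t * D.w) * K := by simp only [s]; group
      _ = K⁻¹ * (D.w * D.t) * K := by rw [(show Commute D.w D.t from D.comm_t _).eq]
      _ = K⁻¹ * D.w * K * s := by simp only [s]; group
      _ = D.t * s := by rw [hKw]
  have hso : orderOf s = 2 := by
    rw [show s = K⁻¹ * D.t * K⁻¹⁻¹ by rw [inv_inv], Involution.orderOf_conj, D.orderOf_t]
  have hsne : s ≠ D.t := fun e => D.w_ne_t (by
    rw [← hK]; nth_rw 1 [← e]; simp only [s]; group)
  obtain ⟨z, hz, hsz⟩ := D.exists_involution_conj (mem_centralizer_singleton_iff.2 hst.eq) hso hsne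
  set r := D.π (sA D.hF D.two_ne z hz) with hr
  have hrC : r ∈ centralizer ({D.t} : Set G) := D.mem_C _
  have hrt : Commute r D.t := D.comm_t _
  -- `L` exchanges `t` and `w`
  set L := r⁻¹ * K⁻¹ with hL
  have Lt : L * D.t * L⁻¹ = D.w := by
    calc L * D.t * L⁻¹ = r⁻¹ * (K⁻¹ * D.t * K) * r := by rw [hL]; group
      _ = r⁻¹ * s * r := rfl
      _ = D.w := by rw [hsz]; group
  have Lw : L * D.w * L⁻¹ = D.t := by
    calc L * D.w * L⁻¹ = r⁻¹ * (K⁻¹ * D.w * K) * r := by rw [hL]; group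
      _ = D.t := by rw [hKw, hrt.inv_left.eq, inv_mul_cancel_right]
  -- both `L` and `L⁻¹` preserve the centraliser of the four group
  have move : ∀ {M a b : G}, M * a * M⁻¹ = b → ∀ {z : G}, Commute z a → Commute (M * z * M⁻¹) b := by
    intro M a b e z hz
    rw [← e]
    show _ * _ = _
    calc M * z * M⁻¹ * (M * a * M⁻¹) = M * (z * a) * M⁻¹ := by group
      _ = M * (a * z) * M⁻¹ := by rw [hz.eq]
      _ = _ := by group
  have Lt' : L⁻¹ * D.w * L⁻¹⁻¹ = D.t := by rw [← Lt]; group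
  have Lw' : L⁻¹ * D.t * L⁻¹⁻¹ = D.w := by rw [← Lw]; group
  obtain ⟨gx, rfl⟩ := hx
  have hxt : Commute (D.π gx) D.t := D.comm_t gx
  set y := L * D.π gx * L⁻¹ with hy
  have hyt : y ∈ centralizer ({D.t} : Set G) :=
    mem_centralizer_singleton_iff.2 (move Lw hxw).eq
  have hyw : Commute y D.w := move Lt hxt
  have hf : D.fld y = 1 := by
    refine D.fld_one_of_quadratic hyt hyw fun g hg => ?_
    set b := L⁻¹ * D.π g * L with hb
    have hb' : b = L⁻¹ * D.π g * L⁻¹⁻¹ := by rw [hb, inv_inv]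
    have hbt : b ∈ centralizer ({D.t} : Set G) :=
      mem_centralizer_singleton_iff.2 (hb' ▸ (move Lt' hg)).eq
    have hbw : Commute b D.w := hb' ▸ move Lw' (D.comm_t g)
    obtain ⟨g', hg', hg'w⟩ := D.range_w_normal hbt hbw (g := gx⁻¹)
      (by rw [map_inv]; exact hxw.inv_left)
    have hk : Commute (D.π gx) (D.π gx * (b * (D.π gx)⁻¹ * b⁻¹)) := by
      refine (Commute.refl _).mul_right ?_
      rw [← map_inv, ← hg']
      exact D.range_w_comm hxw hg'w
    have e : y * D.π g * y⁻¹ * (D.π g)⁻¹ = L * (D.π gx * (b * (D.π gx)⁻¹ * b⁻¹)) * L⁻¹ := by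
      rw [hy, hb]; group
    rw [e, hy]
    show _ * _ = _
    calc L * D.π gx * L⁻¹ * (L * (D.π gx * (b * (D.π gx)⁻¹ * b⁻¹)) * L⁻¹)
        = L * (D.π gx * (D.π gx * (b * (D.π gx)⁻¹ * b⁻¹))) * L⁻¹ := by group
      _ = L * ((D.π gx * (b * (D.π gx)⁻¹ * b⁻¹)) * D.π gx) * L⁻¹ := by rw [hk.eq]
      _ = _ := by group
  obtain ⟨gy, hgy⟩ := (D.fld_eq_one_iff hyt).1 hf
  refine ⟨sA D.hF D.two_ne z hz * gy * (sA D.hF D.two_ne z hz)⁻¹, ?_⟩
  rw [map_mul, map_mul, map_inv, hgy, ← hr, hy, hL]
  group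

end Data

end Cfsg.Agent.U3Field
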