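import Cfsg.Agent.Lib.U3Field.Borel
import Cfsg.Agent.Lib.U3Recog.Size

/-!
# The Sylow subgroup of the centraliser of the root group, with a field part (owner: helper40)

`Prim D p n r β` : `β ∈ F_q` of primitive prime order `r` for `p ^ n`.
* `cent_hh` : `C(t) ∩ C(hh) = H` for `hh = π (dd β)`
* `invol_not_invert` : no involution of `C(t)` inverts a non-trivial `p`-element
* `p_free` : `C(hh)` has no `p`-elements
* `free_index` : `q² |Q0| ≤ |Q|` for invariant subgroups of `CP`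
* `exists_large` : `CP` has a subgroup of order `q³`; `sq_dvd_J`
-/

set_option autoImplicit false
set_option linter.unusedSectionVars false
set_option linter.style.haveILetI false

namespace Cfsg.Agent.U3Field

open Subgroup Cfsg.Agent.U3Recog Cfsg.Agent.Unitary
open scoped Pointwise

variable {G : Type*} [Group G] [Finite G] {F : Type*} [Field F] [Fintype F] {q p n r : ℕ} {β : Fˣ}

/-- A torus element of `F_q` of primitive prime order. -/
structure Prim (D : Data G F q) (p n r : ℕ) (β : Fˣ) : Prop where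
  hchar : CharP F p
  hp : p.Prime
  hqp : q = p ^ n
  hn : 3 ≤ n
  hr : r.Prime
  r2 : r ≠ 2
  rp : r ≠ p
  r_pred : r ∣ q - 1
  r_succ : ¬ r ∣ q + 1
  r_sq : ¬ r ∣ q * q - q + 1
  prim : ∀ i, r ∣ p ^ i - 1 → n ∣ i
  ord : orderOf β = r
  fixed : (β : F) ^ q = β

namespace Data

variable (D : Data G F q)
include D

theorem exists_prim {θ : RingAut F} (hodd : Odd (orderOf θ)) (hne : θ ≠ 1) :
    ∃ p n r β, Prim D p n r β := by
  obtain ⟨p, n, hp, hchar, hqp, -⟩ := exists_prime_pow D.hF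
  have hn := three_le hp D.hF hqp hodd hne
  have hp2 : Odd p := by
    rcases hp.eq_two_or_odd' with h2 | h2
    · have h3 := D.hodd
      rw [hqp, h2, Nat.odd_pow_iff (by omega)] at h3
      exact absurd h3 (by decide)
    · exact h2
  obtain ⟨r, hr, hr2, hrp, hrd, hr1, hr3, hord⟩ := exists_prime hp hp2 hn
  rw [← hqp] at hrd hr1 hr3
  haveI := Fact.mk hr
  obtain ⟨β, hβ⟩ := exists_prime_orderOf_dvd_card' (G := Fˣ) r
    ((hrd.trans (q_pred_dvd q)).trans (dvd_of_eq (card_units D.hF).symm))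
  refine ⟨p, n, r, β, hchar, hp, hqp, hn, hr, hr2, hrp, hrd, hr1, hr3, hord, hβ, ?_⟩
  refine (fixed_iff D.hF β.ne_zero).2 ?_
  rw [← Units.val_pow_eq_pow_val, orderOf_dvd_iff_pow_eq_one.1 (hβ.symm ▸ hrd : orderOf β ∣ q - 1),
    Units.val_one]

theorem card_G : Nat.card G =
    q ^ 2 * (q ^ 2 - q + 1) * Nat.card (centralizer ({D.t} : Set G)) := by
  rw [← D.hindex, mul_comm]
  exact (Subgroup.card_mul_index _).symm

theorem coprime_p_H (hp : p.Prime) (hqp : q = p ^ n) (hn : 1 ≤ n) :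
    p.Coprime (Nat.card D.H) := by
  have hq := D.q_ge
  have hpq : p ∣ q := hqp ▸ dvd_pow_self p (by omega)
  refine hp.coprime_iff_not_dvd.2 fun hd => hp.not_dvd_one ?_
  have h1 : p ∣ q ^ 2 - 1 := D.card_H ▸ hd.mul_right _
  have h2 := Nat.dvd_sub (dvd_pow hpq two_ne_zero) h1
  rwa [Nat.sub_sub_self (Nat.one_le_pow _ _ (by omega))] at h2

theorem card_P0_ZC_dvd : Nat.card D.ZC ∣ q + 1 := by
  refine (Subgroup.card_map_dvd _ _).trans ((Subgroup.card_map_dvd _ _).trans ?_)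
  rw [IsCyclic.card_powMonoidHom_ker, card_units D.hF, Nat.gcd_eq_right (q_succ_dvd q)]

/-- A two-element of `CP` centralising `t` lies in the torus. -/
theorem two_CP_C {x : G} (hx : x ∈ D.CP) (hx' : x ∈ centralizer ({D.t} : Set G)) {k : ℕ}
    (hk : x ^ 2 ^ k = 1) : x ∈ D.H := by
  obtain ⟨u, hu, z, hz, rfl⟩ := D.CP_inf_C hx hx'
  have hc : Commute u z := (D.mem_CP.1 (D.ZC_le_CP hz) u hu).symm
  rw [hc.mul_pow] at hk
  have h2 : u ^ 2 ^ k = 1 := D.P0_inter_H (D.P0.pow_mem hu _)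
    (by rw [eq_inv_of_mul_eq_one_left hk]; exact D.H.inv_mem (D.H.pow_mem (D.ZC_le_H hz) _))
  have hu1 : u = 1 := by
    rw [← orderOf_eq_one_iff]
    refine Nat.eq_one_of_dvd_coprimes (Nat.Coprime.pow_left k D.coprime_q_two)
      (orderOf_dvd_of_pow_eq_one h2) ?_
    rw [← D.card_P0, ← Subgroup.orderOf_mk u hu]
    exact orderOf_dvd_natCard _
  rw [hu1, one_mul]
  exact D.ZC_le_H hz

/-- No involution of `C(t)` inverts a non-trivial `p`-element of `C(t)`. -/
theorem invol_not_invert (hp : p.Prime) (hqp : q = p ^ n) (hn : 1 ≤ n) {s v : G}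
    (hs : s ∈ centralizer ({D.t} : Set G)) (hso : orderOf s = 2)
    (hv : v ∈ centralizer ({D.t} : Set G)) {k : ℕ} (hvk : v ^ p ^ k = 1)
    (hsv : s * v * s = v⁻¹) : v = 1 := by
  haveI := Fact.mk hp
  -- `v` is in the image
  obtain ⟨h, rfl⟩ := D.mem_range_of_invol hs hso
  have hf : D.fld v * D.fld v = 1 := by
    have e := congrArg D.fld hsv
    rw [D.fld_mul (mul_mem (D.mem_C h) hv) (D.mem_C h), D.fld_mul (D.mem_C h) hv, D.fld_pi,
      one_mul, mul_one, D.fld_inv hv] at e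
    rw [eq_inv_iff_mul_eq_one] at e
    exact e
  have hvr : v ∈ D.π.range := by
    refine (D.fld_eq_one_iff hv).1 (orderOf_eq_one_iff.1 ?_)
    exact Nat.eq_one_of_dvd_coprimes (Nat.coprime_two_left.2 (D.fld_odd v))
      (orderOf_dvd_of_pow_eq_one (by rw [sq, hf])) dvd_rfl
  obtain ⟨g, hg⟩ := D.exists_conj_P0 hp hqp hn (Y := zpowers v) (zpowers_le.2 hvr) (by
    obtain ⟨j, -, hj⟩ := (Nat.dvd_prime_pow hp).1 (orderOf_dvd_of_pow_eq_one hvk)
    exact IsPGroup.of_card (n := j) (by rw [Nat.card_zpowers, hj]))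
  obtain ⟨c, hc, hcv⟩ := D.mem_P0.1 (hg v (mem_zpowers v))
  rcases eq_or_ne c 0 with rfl | hc0
  · rw [uu_zero, map_one] at hcv
    calc v = D.π g * ((D.π g)⁻¹ * v * D.π g) * (D.π g)⁻¹ := by group
      _ = 1 := by rw [← hcv]; group
  exfalso
  -- the lift of the inverting involution
  set m := g⁻¹ * h * g
  have hs1 : D.π h * D.π h = 1 := Involution.mul_self hso
  have hsinv : (D.π h)⁻¹ = D.π h := inv_eq_of_mul_eq_one_right hs1
  have e : D.π (m * uu D.hF c hc * m⁻¹) = D.π (uu D.hF (-c) (skew_neg D.hF hc)) := by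
    rw [show uu D.hF (-c) (skew_neg D.hF hc) = (uu D.hF c hc)⁻¹ from (uu_inv D.hF hc).symm]
    simp only [m, map_mul, map_inv, hcv]
    calc _ = (D.π g)⁻¹ * (D.π h * v * (D.π h)⁻¹) * D.π g := by group
      _ = _ := by rw [hsinv, hsv]; group
  have e' := D.eq_of_det e (by
    rw [det2_mul, det2_mul, det2_uu, det2_uu, mul_one, det2_inv D.hF,
      mul_inv_cancel₀ (det2_ne_zero D.hF m)])
  rw [mul_inv_eq_iff_eq_mul] at e'
  have h10 : e10 m = 0 := by
    have a := congrArg e00 e'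
    simp at a
    exact a.resolve_left hc0
  obtain ⟨c', hc', α, hα⟩ := upper D.hF m h10
  have hmm : m * m ∈ D.π.ker := by
    rw [MonoidHom.mem_ker, map_mul]
    simp only [m, map_mul, map_inv]
    calc _ = (D.π g)⁻¹ * (D.π h * D.π h) * D.π g := by group
      _ = 1 := by rw [hs1]; group
  have hαn : (α : F) ^ (q + 1) = -1 := by
    have b := congrArg e01 e'
    rw [hα] at b
    simp at b
    have h0 : (α : F) ^ q ≠ 0 := pow_ne_zero _ α.ne_zero
    field_simp at b
    refine mul_left_cancel₀ hc0 ?_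
    rw [pow_succ]
    linear_combination b
  obtain ⟨δ, -, hδ⟩ := D.ker_eq_dd hmm
  have hδα : (δ : F) = α * α := by
    have a := congrArg e00 hδ
    rw [hα] at a
    simp at a
    exact a.symm
  have hδm : δ ^ Nat.card D.π.ker = 1 := by
    refine dd_injective D.hF (q := q) ?_
    rw [map_pow, map_one, ← hδ]
    exact congrArg Subtype.val (pow_card_eq_one' (x := (⟨_, hmm⟩ : D.π.ker)))
  have h2m : (α : F) ^ (2 * Nat.card D.π.ker) = 1 := by
    rw [pow_mul, sq, ← hδα, ← Units.val_pow_eq_pow_val, hδm, Units.val_one]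
  obtain ⟨l, hl⟩ := D.hodd
  refine D.neg_one_ne ?_
  calc (-1 : F) = (-1) ^ Nat.card D.π.ker := D.ker_odd.neg_one_pow.symm
    _ = ((α : F) ^ (2 * Nat.card D.π.ker)) ^ (l + 1) := by
      rw [← hαn, ← pow_mul, ← pow_mul]
      congr 1
      exact (congrArg (· * Nat.card D.π.ker) (show q + 1 = 2 * (l + 1) by omega)).trans (by ring)
    _ = 1 := by rw [h2m, one_pow]

variable {D} (P : Prim D p n r β)
include P

theorem one_le : 1 ≤ n := le_trans (by norm_num) P.hn

theorem det_dd : det2 (dd D.hF β) = (1 : F) := by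
  simp [det2, P.fixed]

theorem hh_order : orderOf (D.π (dd D.hF β)) = r := by
  haveI := Fact.mk P.hr
  refine orderOf_eq_prime (by rw [← map_pow, ← map_pow, ← P.ord, pow_orderOf_eq_one, map_one, map_one])
    fun h => ?_
  have h1 := D.ker_eq_one (MonoidHom.mem_ker.2 h) (det_dd P)
  rw [← map_one (dd D.hF (q := q))] at h1
  have h2 := P.ord
  rw [dd_injective D.hF h1, orderOf_one] at h2
  exact P.hr.one_lt.ne h2

theorem beta_succ : β ^ (q + 1) ≠ 1 := fun h =>
  P.r_succ (P.ord ▸ orderOf_dvd_of_pow_eq_one h)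

/-- The centraliser of `hh` in `C(t)` is the torus. -/
theorem cent_hh {x : G} (hx : x ∈ centralizer ({D.t} : Set G))
    (hc : Commute x (D.π (dd D.hF β))) : x ∈ D.H := by
  haveI := P.hchar
  obtain ⟨g, y, hy, rfl, hf⟩ := D.exists_pure hx
  set θ := D.fld y
  have hd := det_dd P
  have e : D.π (g * mapU2 D.hF θ (dd D.hF β) * g⁻¹) = D.π (dd D.hF β) := by
    rw [map_mul, map_mul, map_inv, ← hy.2 _ hd]
    calc _ = (D.π g * y) * D.π (dd D.hF β) * (D.π g * y)⁻¹ := by group
      _ = _ := by rw [hc.eq, mul_inv_cancel_right]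
  have e' := D.eq_of_det e (by
    rw [det2_mul, det2_mul, det2_mapU2_one _ _ hd, hd, mul_one, det2_inv D.hF,
      mul_inv_cancel₀ (det2_ne_zero D.hF g)])
  rw [mul_inv_eq_iff_eq_mul, mapU2_dd] at e'
  have hθ : θ (β : F) = β ∨ θ (β : F) = (β : F)⁻¹ := by
    have a := congrArg e00 e'
    have b := congrArg e10 e'
    simp only [e00_mul, e10_mul, (dd_entries D.hF _).1, (dd_entries D.hF _).2.1,
      (dd_entries D.hF _).2.2.1, (dd_entries D.hF _).2.2.2, Units.coe_map, mul_zero, zero_mul,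
      add_zero, zero_add, P.fixed] at a b
    change e00 g * θ (β : F) = _ at a
    change e10 g * θ (β : F) = _ at b
    rcases eq_or_ne (e00 g) 0 with h00 | h00
    · right
      have h10 : e10 g ≠ 0 := fun h => det2_ne_zero D.hF g (by simp [det2, h00, h])
      exact mul_left_cancel₀ h10 (b.trans (mul_comm _ _))
    · left
      exact mul_left_cancel₀ h00 (a.trans (mul_comm _ _))
  have h2 : (θ ^ 2) (β : F) = β := by
    rw [sq, RingAut.mul_apply]
    rcases hθ with h | h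
    · rw [h, h]
    · rw [h, map_inv₀, h, inv_inv]
  have hθ1 : θ = 1 := eq_one_of_prim P.hp D.hF P.hqp (D.fld_odd y) P.prim
    (by rw [orderOf_units, P.ord]) P.hr.ne_zero h2
  obtain ⟨g', hg'⟩ := (D.fld_eq_one_iff hx).1 (hf ▸ hθ1)
  rw [← hg'] at hc ⊢
  exact D.cc_torus (beta_succ P) hc

/-- `C(hh)` has no non-trivial `p`-element. -/
theorem p_free [IsSimpleGroup G] {v : G} {k : ℕ} (hvk : v ^ p ^ k = 1)
    (hvc : Commute v (D.π (dd D.hF β))) : v = 1 := by
  haveI := Fact.mk P.hp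
  haveI : Fact (Nat.Prime 2) := ⟨Nat.prime_two⟩
  set hh := D.π (dd D.hF β)
  set Y := centralizer ({hh} : Set G)
  have hHY : D.H ≤ Y := fun a ha => mem_centralizer_singleton_iff.2
    (congrArg Subtype.val ((D.H_cyclic.isMulCommutative).is_comm.comm ⟨a, ha⟩ ⟨hh, D.dd_mem β⟩))
  obtain ⟨-, K, hKY, hYK, hKodd, -, hKmem⟩ := cyclic_two (X := Y) D.orderOf_t (D.R_le_H.trans hHY)
    D.R_isPGroup D.R_cyclic D.t_mem_R fun S hR hS hp => D.max_two hR
      (fun x hx => D.H_le_NB (cent_hh P (hS hx).2 (mem_centralizer_singleton_iff.1 (hS hx).1))) hp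
  -- the four group normalises `K`
  have htw : Commute D.t D.w := (D.comm_t (wn D.hF)).symm
  have ht2 := Involution.mul_self D.orderOf_t
  have hwhh : D.w * hh * D.w = hh⁻¹ := by
    rw [D.w_dd, ← map_inv, ← map_inv]
    congr 2
    ext
    simp [P.fixed]
  have hwK : D.w ∈ normalizer (K : Set G) := by
    have key : ∀ x ∈ K, D.w * x * D.w ∈ K := by
      intro x hx
      refine hKmem _ (mem_centralizer_singleton_iff.2 ?_) ?_
      · have hxh0 : Commute x hh := mem_centralizer_singleton_iff.1 (hKY hx)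
        have hxh : Commute x hh⁻¹ := hxh0.inv_right
        have hwh : Commute D.w D.w := Commute.refl _
        have e1 : D.w * hh = hh⁻¹ * D.w := by
          rw [← hwhh, mul_assoc, D.w_mul_w, mul_one]
        have e2 : D.w * hh⁻¹ = hh * D.w := by
          have := congrArg (fun a => D.w * a * D.w) e1
          simp only [← mul_assoc, D.w_mul_w, one_mul] at this
          rw [mul_assoc (D.w * hh⁻¹), D.w_mul_w, mul_one] at this
          exact this.symm
        calc D.w * x * D.w * hh = D.w * (x * hh⁻¹) * D.w := by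
              rw [mul_assoc (D.w * x), e1]; simp only [mul_assoc]
          _ = D.w * (hh⁻¹ * x) * D.w := by rw [hxh.eq]
          _ = hh * (D.w * x * D.w) := by rw [← mul_assoc D.w, e2]; simp only [mul_assoc]
      · have : orderOf (D.w * x * D.w) = orderOf x := by
          nth_rw 2 [← D.w_inv]
          exact Involution.orderOf_conj _ _
        rw [this]
        exact hKodd.of_dvd_nat (by rw [← Subgroup.orderOf_mk x hx]; exact orderOf_dvd_natCard _)
    refine mem_normalizer_iff.2 fun x => ?_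
    rw [D.w_inv]
    refine ⟨key x, fun h => ?_⟩
    simpa [mul_assoc, ← mul_assoc D.w D.w, D.w_mul_w] using key _ h
  set U := zpowers D.t ⊔ zpowers D.w
  have hU : U ≤ normalizer (K : Set G) :=
    sup_le (zpowers_le.2 (hYK (hHY D.t_mem_H))) (zpowers_le.2 hwK)
  have hUcl : U = Subgroup.closure {D.t, D.w} := by
    simp only [U, Subgroup.zpowers_eq_closure]
    rw [← Subgroup.closure_union]; rfl
  have hcomm : ∀ a ∈ ({D.t, D.w} : Set G), ∀ b ∈ ({D.t, D.w} : Set G), a * b = b * a := by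
    rintro a (rfl | rfl) b (rfl | rfl) <;> first | rfl | exact htw.eq | exact htw.eq.symm
  have hU2 : IsPGroup 2 U := by
    intro ⟨a, ha⟩
    refine ⟨1, Subtype.ext ?_⟩
    show a ^ 2 ^ 1 = 1
    rw [pow_one]
    have hU' : a ∈ U := ha
    rw [hUcl] at hU'
    clear ha
    have hab := Subgroup.isMulCommutative_closure hcomm
    induction hU' using Subgroup.closure_induction with
    | mem x hx => rcases hx with rfl | rfl <;> rw [sq] <;> [exact ht2; exact D.w_mul_w]
    | one => exact one_pow _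
    | mul x y hx hy ihx ihy =>
      have : Commute x y := congrArg Subtype.val (hab.is_comm.comm ⟨x, hx⟩ ⟨y, hy⟩)
      rw [this.mul_pow, ihx, ihy, one_mul]
    | inv x _ ih => rw [inv_pow, ih, inv_one]
  obtain ⟨j, hj⟩ := hU2.exists_card_eq
  obtain ⟨S, -, hS⟩ := Coprime.exists_invariant_sylow_ge (A := U) (K := K) hU
    (hj ▸ Nat.Coprime.pow_left j (Nat.coprime_two_left.2 hKodd))
    (Or.inl (Group.isSolvable_of_comm fun a b => by
      rcases a with ⟨a, ha⟩; rcases b with ⟨b, hb⟩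
      rw [hUcl] at ha hb
      have hab := Subgroup.isMulCommutative_closure hcomm
      exact Subtype.ext (congrArg Subtype.val (hab.is_comm.comm ⟨a, ha⟩ ⟨b, hb⟩) : a * b = b * a)))
    (p := p) (bot_le : (⊥ : Subgroup G) ≤ K) IsPGroup.of_bot
    (fun a _ => mem_normalizer_iff.2 fun x => by simp)
  set Sp := (S : Subgroup K).map K.subtype with hSp
  have hSpK : Sp ≤ K := map_subtype_le _
  have hSpp : IsPGroup p Sp := S.2.map _
  have hpow : ∀ x ∈ Sp, ∃ i, x ^ p ^ i = 1 := fun x hx => by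
    obtain ⟨i, hi⟩ := hSpp ⟨x, hx⟩
    exact ⟨i, congrArg Subtype.val hi⟩
  have hconj : ∀ a ∈ U, ∀ x ∈ Sp, a * x * a⁻¹ ∈ Sp := fun a ha x hx =>
    (mem_normalizer_iff.1 (hS ha) x).1 hx
  have hCt : ∀ x ∈ Sp, Commute x D.t → x = 1 := fun x hx h => by
    obtain ⟨i, hi⟩ := hpow x hx
    have hxH := cent_hh P (mem_centralizer_singleton_iff.2 h)
      (mem_centralizer_singleton_iff.1 (hKY (hSpK hx)))
    rw [← orderOf_eq_one_iff]
    refine Nat.eq_one_of_dvd_coprimes ((D.coprime_p_H P.hp P.hqp (one_le P)).pow_left i)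
      (orderOf_dvd_of_pow_eq_one hi) ?_
    rw [← Subgroup.orderOf_mk x hxH]
    exact orderOf_dvd_natCard _
  -- `t` inverts `Sp`
  have hinv : ∀ x ∈ Sp, D.t * x * D.t = x⁻¹ := by
    have hti : D.t⁻¹ = D.t := Involution.inv_eq D.orderOf_t
    let f : Sp → Sp := fun x => ⟨(x : G)⁻¹ * (D.t * x * D.t),
      Sp.mul_mem (Sp.inv_mem x.2) (by
        have := hconj D.t (mem_sup_left (mem_zpowers _)) x x.2
        rwa [hti] at this)⟩
    have hf : Function.Surjective f := Finite.surjective_of_injective fun a b h => by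
      have h : (a : G)⁻¹ * (D.t * a * D.t) = (b : G)⁻¹ * (D.t * b * D.t) := congrArg Subtype.val h
      refine Subtype.ext (mul_inv_eq_one.1 (hCt ((b : G) * (a : G)⁻¹) (Sp.mul_mem b.2 (Sp.inv_mem a.2))
        (show _ * _ = _ * _ from ?_))).symm
      calc (b : G) * (a : G)⁻¹ * D.t
          = b * ((a : G)⁻¹ * (D.t * a * D.t)) * (D.t * a * D.t)⁻¹ * D.t := by group
        _ = D.t * b * D.t * (D.t * a * D.t)⁻¹ * D.t := by rw [h]; group
        _ = D.t * ((b : G) * (a : G)⁻¹) := by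
          simp only [mul_inv_rev, hti, mul_assoc]; simp [← mul_assoc D.t D.t, ht2]
    intro x hx
    obtain ⟨a, ha⟩ := hf ⟨x, hx⟩
    have ha : (a : G)⁻¹ * (D.t * a * D.t) = x := congrArg Subtype.val ha
    rw [← ha]
    simp only [mul_inv_rev, inv_inv, hti, mul_assoc]
    simp [ht2]
  have hab : ∀ x ∈ Sp, ∀ y ∈ Sp, Commute x y := fun x hx y hy => by
    have e := hinv _ (Sp.mul_mem hx hy)
    have : D.t * (x * y) * D.t = (D.t * x * D.t) * (D.t * y * D.t) := by
      simp [mul_assoc, ← mul_assoc D.t D.t, ht2]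
    rw [this, hinv x hx, hinv y hy, ← mul_inv_rev, inv_inj] at e
    exact e.symm
  -- nothing in `Sp` commutes with another involution of the four group
  have hother : ∀ a : G, (∃ g : G, g * D.t * g⁻¹ = a) → Commute a D.t →
      ∀ x ∈ Sp, Commute x a → x = 1 := by
    rintro a ⟨g, rfl⟩ hat x hx hxa
    obtain ⟨i, hi⟩ := hpow x hx
    have hx' : g⁻¹ * x * g ∈ centralizer ({D.t} : Set G) := by
      refine mem_centralizer_singleton_iff.2 ?_
      calc g⁻¹ * x * g * D.t = g⁻¹ * (x * (g * D.t * g⁻¹)) * g := by group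
        _ = g⁻¹ * ((g * D.t * g⁻¹) * x) * g := by rw [hxa.eq]
        _ = _ := by group
    have hs : g⁻¹ * D.t * g ∈ centralizer ({D.t} : Set G) := by
      refine mem_centralizer_singleton_iff.2 ?_
      calc g⁻¹ * D.t * g * D.t = g⁻¹ * (D.t * (g * D.t * g⁻¹)) * g := by group
        _ = g⁻¹ * ((g * D.t * g⁻¹) * D.t) * g := by rw [hat.eq]
        _ = _ := by group
    have := D.invol_not_invert P.hp P.hqp (one_le P) hs
      (by rw [show g⁻¹ * D.t * g = g⁻¹ * D.t * g⁻¹⁻¹ by rw [inv_inv], Involution.orderOf_conj,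
        D.orderOf_t]) hx' (k := i)
      (by rw [show g⁻¹ * x * g = g⁻¹ * x * g⁻¹⁻¹ by rw [inv_inv], conj_pow, hi]; group) (by
      calc g⁻¹ * D.t * g * (g⁻¹ * x * g) * (g⁻¹ * D.t * g) = g⁻¹ * (D.t * x * D.t) * g := by group
        _ = _ := by rw [hinv x hx]; group)
    calc x = g * (g⁻¹ * x * g) * g⁻¹ := by group
      _ = 1 := by rw [this]; group
  obtain ⟨g0, hg0⟩ := D.fusion
  obtain ⟨z, hz, hze⟩ := D.exists_involution_conj (s := D.t * D.w)
    (mul_mem D.t_mem_C (D.mem_C _))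
    (orderOf_eq_prime (by
      rw [sq, show D.t * D.w * (D.t * D.w) = D.t * D.t * (D.w * D.w) from htw.symm.mul_mul_mul_comm _ _,
        ht2, D.w_mul_w, one_mul])
      (fun h => D.w_ne_t (by rw [eq_inv_of_mul_eq_one_right h, Involution.inv_eq D.orderOf_t])))
    (fun h => Involution.ne_one D.orderOf_w (mul_eq_left.1 h))
  have htrivial : ∀ x ∈ Sp, x = 1 := fun x hx => by
    have hwx : D.w * x * D.w ∈ Sp := by
      have := hconj D.w (mem_sup_right (mem_zpowers _)) x hx
      rwa [D.w_inv] at this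
    have h1 : x * (D.w * x * D.w) = 1 := by
      refine hother D.w ⟨g0, hg0⟩ htw.symm _ (Sp.mul_mem hx hwx) ?_
      show _ * _ = _ * _
      calc x * (D.w * x * D.w) * D.w = x * D.w * x := by
            simp [mul_assoc, D.w_mul_w]
        _ = D.w * ((D.w * x * D.w) * x) := by simp [mul_assoc, ← mul_assoc D.w D.w, D.w_mul_w]
        _ = _ := by rw [(hab _ hwx x hx).eq]
    refine hother (D.t * D.w) ⟨D.π (sA D.hF D.two_ne z hz) * g0, by
      rw [hze, ← hg0]; group⟩ ((Commute.refl D.t).mul_left htw.symm) x hx ?_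
    show x * (D.t * D.w) = D.t * D.w * x
    have h2 : D.w * x * D.w = D.t * x * D.t := by rw [hinv x hx, eq_inv_of_mul_eq_one_right h1]
    have h3 := congrArg (fun y => D.t * y * D.w) h2
    simp only [mul_assoc, D.w_mul_w, mul_one] at h3
    simp only [← mul_assoc] at h3
    rw [ht2, one_mul] at h3
    rw [← mul_assoc, ← h3, mul_assoc]
  have hpK : ¬ p ∣ Nat.card K := fun hd => by
    obtain ⟨x, hx⟩ := exists_prime_orderOf_dvd_card' (G := (S : Subgroup K)) p (by
      rw [S.card_eq_multiplicity]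
      exact dvd_pow_self p (P.hp.factorization_pos_of_dvd Nat.card_pos.ne' hd).ne')
    have h1 : ((x : K) : G) = 1 := htrivial _ ⟨x.1, x.2, rfl⟩
    rw [← Subgroup.orderOf_coe, ← Subgroup.orderOf_coe, h1, orderOf_one] at hx
    exact P.hp.one_lt.ne hx
  have hvK : v ∈ K := by
    refine hKmem v (mem_centralizer_singleton_iff.2 hvc) ?_
    have hp2 : Odd p := (P.hp.eq_two_or_odd').resolve_left fun h2 => by
      have h3 := D.hodd
      rw [P.hqp, h2, Nat.odd_pow_iff (by have := P.hn; omega)] at h3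
      exact absurd h3 (by decide)
    exact (hp2.pow).of_dvd_nat (orderOf_dvd_of_pow_eq_one hvk)
  rw [← orderOf_eq_one_iff]
  refine Nat.eq_one_of_dvd_coprimes (Nat.Coprime.pow_left k (P.hp.coprime_iff_not_dvd.2 hpK))
    (orderOf_dvd_of_pow_eq_one hvk) ?_
  rw [← Subgroup.orderOf_mk v hvK]
  exact orderOf_dvd_natCard _

theorem p_CP_inf_C {Q : Subgroup G} (hQ : IsPGroup p Q) (hQ' : Q ≤ D.CP) :
    Q ⊓ centralizer ({D.t} : Set G) ≤ D.P0 := by
  rintro x ⟨hx, hx'⟩
  haveI := Fact.mk P.hp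
  obtain ⟨u, hu, z, hz, rfl⟩ := D.CP_inf_C (hQ' hx) hx'
  obtain ⟨k, hk⟩ := IsPGroup.iff_orderOf.1 hQ ⟨u * z, hx⟩
  rw [Subgroup.orderOf_mk] at hk
  have hc : Commute u z := (D.mem_CP.1 (D.ZC_le_CP hz) u hu).symm
  have h1 : u ^ p ^ k * z ^ p ^ k = 1 := by rw [← hc.mul_pow, ← hk, pow_orderOf_eq_one]
  have hzz : z ^ p ^ k = 1 := D.P0_inter_H
    (by rw [eq_inv_of_mul_eq_one_right h1]; exact D.P0.inv_mem (D.P0.pow_mem hu _))
    (D.H.pow_mem (D.ZC_le_H hz) _)
  have hz1 : z = 1 := by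
    rw [← orderOf_eq_one_iff]
    refine Nat.eq_one_of_dvd_coprimes ((D.coprime_p_H P.hp P.hqp (one_le P)).pow_left k)
      (orderOf_dvd_of_pow_eq_one hzz) ?_
    rw [← Subgroup.orderOf_mk z (D.ZC_le_H hz)]
    exact orderOf_dvd_natCard _
  rwa [hz1, mul_one]

omit P in
/-- The part of the torus acting semiregularly. -/
noncomputable def torusA (D : Data G F q) (r : ℕ) : Subgroup G :=
  cycPart D.H D.H_cyclic (2 ^ (q ^ 2 - 1).factorization 2 * r)

theorem card_A : Nat.card (torusA D r) = 2 ^ (q ^ 2 - 1).factorization 2 * r := by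
  refine U3Recog.card_cycPart_of_dvd ?_
  refine Nat.Coprime.mul_dvd_of_dvd_of_dvd ?_ (D.card_R ▸ Subgroup.card_dvd_of_le D.R_le_H) ?_
  · exact Nat.Coprime.pow_left _ ((Nat.coprime_primes Nat.prime_two P.hr).2 (Ne.symm P.r2))
  · rw [← hh_order P, ← Subgroup.orderOf_mk _ (D.dd_mem β)]
    exact orderOf_dvd_natCard _

/-- The index of an invariant subgroup containing the fixed points of `t`. -/
theorem free_index [IsSimpleGroup G] {Q Q0 : Subgroup G} (hQ : IsPGroup p Q) (hle : Q0 ≤ Q)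
    (hne : Q0 ≠ Q) (hAQ : torusA D r ≤ normalizer (Q : Set G))
    (hA0 : torusA D r ≤ normalizer (Q0 : Set G))
    (hfree : Q ⊓ centralizer ({D.t} : Set G) ≤ Q0) : q ^ 2 * Nat.card Q0 ≤ Nat.card Q := by
  haveI := Fact.mk P.hp
  haveI := Fact.mk P.hr
  obtain ⟨k, hk⟩ := hQ.exists_card_eq
  have hrel : Q0.relIndex Q * Nat.card Q0 = Nat.card Q := by
    rw [Subgroup.relIndex, ← Nat.card_congr (subgroupOfEquivOfLe hle).toEquiv]
    exact (Q0.subgroupOf Q).index_mul_card
  obtain ⟨i, -, hi⟩ := (Nat.dvd_prime_pow P.hp).1 (hk ▸ Dvd.intro _ hrel)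
  have hi0 : i ≠ 0 := by
    rintro rfl
    refine hne (le_antisymm hle ?_)
    rw [← Subgroup.relIndex_eq_one, hi, pow_zero]
  have hodd : Odd p := (P.hp.eq_two_or_odd').resolve_left fun h2 => by
    have h3 := D.hodd
    rw [P.hqp, h2, Nat.odd_pow_iff (by have := P.hn; omega)] at h3
    exact absurd h3 (by decide)
  have hq2 : p ^ (2 * n) = q ^ 2 := by rw [P.hqp, ← pow_mul, mul_comm]
  have hdvd : 2 ^ (q ^ 2 - 1).factorization 2 * r ∣ p ^ i - 1 := by
    rw [← card_A P, ← hi]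
    refine index_mod hle hAQ hA0 ?_ fun a ha ha1 x hx => ?_
    · rw [card_A P, hk]
      exact (Nat.Coprime.pow _ _ (Nat.coprime_two_left.2 hodd)).mul_left
        (((Nat.coprime_primes P.hr P.hp).2 P.rp).pow_right _)
    · have hxa : Commute x a := mem_centralizer_singleton_iff.1 hx.2
      set N := 2 ^ (q ^ 2 - 1).factorization 2
      by_cases haN : a ^ N = 1
      · exact hfree ⟨hx.1, D.centralizer_le_t ⟨ha.1, haN⟩ ha1 hx.2⟩
      · have hm : a ^ N ∈ cycPart D.H D.H_cyclic r :=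
          ⟨D.H.pow_mem ha.1 _, by rw [← pow_mul]; exact ha.2⟩
        have hc : Nat.card (cycPart D.H D.H_cyclic r) = r := U3Recog.card_cycPart_of_dvd (by
          rw [← hh_order P, ← Subgroup.orderOf_mk _ (D.dd_mem β)]
          exact orderOf_dvd_natCard _)
        have hz : zpowers (a ^ N) = cycPart D.H D.H_cyclic r :=
          Subgroup.eq_of_le_of_card_ge (zpowers_le.2 hm) (le_of_eq (by
            rw [hc, Nat.card_zpowers, orderOf_eq_prime (show (a ^ N) ^ r = 1 from hm.2) haN]))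
        have hh' : D.π (dd D.hF β) ∈ cycPart D.H D.H_cyclic r :=
          ⟨D.dd_mem β, by rw [← hh_order P, pow_orderOf_eq_one]⟩
        rw [← hz] at hh'
        obtain ⟨j, hj⟩ := mem_zpowers_iff.1 hh'
        obtain ⟨i', hi'⟩ := hQ ⟨x, hx.1⟩
        rw [p_free P (v := x) (k := i') (congrArg Subtype.val hi')
          (hj ▸ (hxa.pow_right N).zpow_right j)]
        exact Q0.one_mem
  have hdiv : 2 * n ∣ i := by
    refine dvd_exponent hodd (one_le P) ?_ ?_ ((Dvd.intro _ rfl).trans hdvd)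
      (Or.inr (P.prim i ((Dvd.intro_left _ rfl).trans hdvd))) <;> rw [hq2]
    · exact Nat.ordProj_dvd _ _
    · exact Nat.pow_succ_factorization_not_dvd D.sq_sub_pos Nat.prime_two
  rw [← hrel, hi, ← hq2]
  exact Nat.mul_le_mul_right _ (Nat.pow_le_pow_right P.hp.pos (Nat.le_of_dvd (by omega) hdiv))

theorem not_dvd_field : ¬ r ∣ Nat.card D.field.range := by
  intro h
  haveI := P.hchar
  haveI := Fact.mk P.hr
  haveI : Finite (RingAut F) := Finite.of_injective (fun e : RingAut F => (e : F → F)) DFunLike.coe_injective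
  obtain ⟨θ, hθ⟩ := exists_prime_orderOf_dvd_card' r h
  obtain ⟨x, hx⟩ := θ.2
  have ho : orderOf (θ : RingAut F) = r := by rw [Subgroup.orderOf_coe, hθ]
  have hne : (θ : RingAut F) ≠ 1 := fun e => by
    rw [e, orderOf_one] at ho; exact P.hr.one_lt.ne ho
  have hodd : Odd (orderOf (θ : RingAut F)) := hx ▸ D.field_odd x
  obtain ⟨j, hj⟩ := exists_frob P.hp (θ : RingAut F)
  obtain ⟨ω, hω0, hω⟩ := exists_gen P.hp D.hF P.hqp
  refine hne (eq_one_of_dvd P.hp D.hF P.hqp hodd hj ?_)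
  have h2 : 2 * n ∣ j * r := by
    refine dvd_of_pow_sub_dvd (p := p) P.hp ?_
    rw [mul_comm, pow_mul, ← P.hqp, ← hω]
    exact order_dvd P.hp D.hF P.hqp hω0
      (by rw [← frob_pow P.hp hj, ← ho, pow_orderOf_eq_one]; rfl)
  -- `n < r`
  have hnr : n ∣ r - 1 := by
    refine P.prim _ ?_
    have hc := ZMod.pow_card_sub_one_eq_one (p := r) (a := (p : ZMod r)) (fun e =>
      P.rp ((Nat.prime_dvd_prime_iff_eq P.hr P.hp).1 ((ZMod.natCast_eq_zero_iff _ _).1 e)))
    rw [← CharP.cast_eq_zero_iff (ZMod r) r, Nat.cast_sub (Nat.one_le_pow _ _ P.hp.pos)]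
    push_cast
    rw [hc, sub_self]
  have hlt : n < r := by
    have := Nat.le_of_dvd (by have := P.hr.two_le; omega) hnr
    have := P.hr.two_le
    omega
  exact (P.hr.coprime_iff_not_dvd.2 fun h' =>
    absurd (Nat.le_of_dvd (by have := P.hn; omega) h') (by omega)).symm.dvd_of_dvd_mul_right
    ((Dvd.intro_left 2 rfl).trans h2)

theorem card_C_field : Nat.card (centralizer ({D.t} : Set G)) =
    Nat.card D.field.range * Nat.card D.π.range := by
  rw [← D.field.ker.card_mul_index, Subgroup.index_ker, mul_comm]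
  congr 1
  exact Nat.card_congr
    { toFun := fun x => ⟨x.1.1, (D.field_ker x.1).1 (MonoidHom.mem_ker.1 x.2)⟩
      invFun := fun x => ⟨⟨x.1, D.range_le x.2⟩, MonoidHom.mem_ker.2 ((D.field_ker _).2 x.2)⟩
      left_inv := fun x => rfl
      right_inv := fun x => rfl }

theorem p_facts : ¬ p ∣ q + 1 ∧ ¬ p ∣ q ^ 2 - q + 1 ∧ ¬ p ∣ Nat.card D.ZC ∧
    ¬ p ∣ Nat.card D.π.ker := by
  have hpq : p ∣ q := P.hqp ▸ dvd_pow_self p (by have := P.hn; omega)
  have h1 : ¬ p ∣ q + 1 := fun h => P.hp.not_dvd_one ((Nat.dvd_add_right hpq).1 h)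
  refine ⟨h1, fun h => P.hp.not_dvd_one ?_, fun h => h1 (h.trans D.card_P0_ZC_dvd),
    fun h => h1 (h.trans D.d_dvd)⟩
  rw [sq] at h
  exact (Nat.dvd_add_right (Nat.dvd_sub (dvd_mul_of_dvd_left hpq q) hpq)).1 h

theorem r_facts : ¬ r ∣ q ∧ ¬ r ∣ Nat.card D.ZC ∧ ¬ r ∣ q ^ 2 * (q ^ 2 - q + 1) := by
  have h1 : ¬ r ∣ q := fun h => P.rp ((Nat.prime_dvd_prime_iff_eq P.hr P.hp).1
    (P.hr.dvd_of_dvd_pow (P.hqp ▸ h)))
  refine ⟨h1, fun h => P.r_succ (h.trans D.card_P0_ZC_dvd), fun h => ?_⟩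
  rcases (Nat.Prime.dvd_mul P.hr).1 h with h | h
  · exact h1 (P.hr.dvd_of_dvd_pow h)
  · rw [sq] at h; exact P.r_sq h

/-- The orders of `C_B(t)` and of `C(t)` agree at `p` and at `r`. -/
theorem fac_BC {l : ℕ} (hl : ¬ l ∣ Nat.card D.π.ker) (hl1 : ¬ l ∣ q + 1) :
    (Nat.card (D.B ⊓ centralizer ({D.t} : Set G) : Subgroup G)).factorization l =
      (Nat.card (centralizer ({D.t} : Set G))).factorization l := by
  have hq := D.q_ge
  have e := congrArg (fun x => x.factorization l) D.card_BC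
  have e1 := congrArg (fun x => x.factorization l) D.card_range
  have e2 := congrArg (fun x => x.factorization l) D.card_H
  have e3 := congrArg (fun x => x.factorization l) D.card_NB
  simp only [Nat.factorization_mul Nat.card_pos.ne' Nat.card_pos.ne',
    Nat.factorization_mul (by omega : q ≠ 0) Nat.card_pos.ne',
    Nat.factorization_mul (by omega : q ≠ 0) (mul_ne_zero (Nat.succ_ne_zero q) D.sq_sub_pos),
    Nat.factorization_mul (Nat.succ_ne_zero q) D.sq_sub_pos, Finsupp.coe_add, Pi.add_apply,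
    Nat.factorization_eq_zero_of_not_dvd hl, Nat.factorization_eq_zero_of_not_dvd hl1] at e e1 e2 e3
  omega

theorem fac_G {l : ℕ} : (Nat.card G).factorization l = 2 * q.factorization l +
    (q ^ 2 - q + 1).factorization l + (Nat.card (centralizer ({D.t} : Set G))).factorization l := by
  have hq := D.q_ge
  rw [D.card_G, Nat.factorization_mul (mul_ne_zero (pow_ne_zero 2 (by omega)) (Nat.succ_ne_zero _))
    Nat.card_pos.ne', Nat.factorization_mul (pow_ne_zero 2 (by omega)) (Nat.succ_ne_zero _),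
    Nat.factorization_pow]
  simp

theorem fac_q : q.factorization p = n := by
  rw [P.hqp, P.hp.factorization_pow, Finsupp.single_eq_same]

/-- The bounds on the number of involutions of `B`. -/
theorem fac_J : (Nat.card D.J).factorization p ≤ 2 * n ∧ ¬ r ∣ Nat.card D.J := by
  haveI : Nonempty D.J := ⟨⟨D.t, D.t_mem_B, D.orderOf_t⟩⟩
  have hd : Nat.card D.J * Nat.card (D.B ⊓ centralizer ({D.t} : Set G) : Subgroup G) ∣ Nat.card G :=
    D.card_B ▸ Subgroup.card_subgroup_dvd_card _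
  have hJ : Nat.card D.J ≠ 0 := Nat.card_pos.ne'
  have key : ∀ l, l.Prime → ¬ l ∣ Nat.card D.π.ker → ¬ l ∣ q + 1 →
      (Nat.card D.J).factorization l ≤ 2 * q.factorization l + (q ^ 2 - q + 1).factorization l :=
    fun l hl h1 h2 => by
    have h := (Nat.factorization_le_iff_dvd (mul_ne_zero hJ Nat.card_pos.ne') Nat.card_pos.ne').2 hd l
    rw [Nat.factorization_mul hJ Nat.card_pos.ne', Finsupp.coe_add, Pi.add_apply,
      fac_BC P h1 h2, fac_G P] at h
    omega
  obtain ⟨p1, p2, -, p4⟩ := p_facts P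
  obtain ⟨r1, -, -⟩ := r_facts P
  refine ⟨?_, fun h => ?_⟩
  · have h := key p P.hp p4 p1
    rwa [fac_q P, Nat.factorization_eq_zero_of_not_dvd p2, add_zero] at h
  · have := key r P.hr (fun h => P.r_succ (h.trans D.d_dvd)) P.r_succ
    rw [Nat.factorization_eq_zero_of_not_dvd r1, Nat.factorization_eq_zero_of_not_dvd (n := q ^ 2 - q + 1) (p := r)
      (fun h => P.r_sq (by rwa [sq] at h))] at this
    have := P.hr.factorization_pos_of_dvd hJ h
    omega

/-- `CP` has a `p`-subgroup larger than the root group. -/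
theorem exists_root_lt : ∃ T : Subgroup G, IsPGroup p T ∧ T ≤ D.CP ∧ q < Nat.card T := by
  haveI := Fact.mk P.hp
  haveI : Fact (Nat.Prime 2) := ⟨Nat.prime_two⟩
  obtain ⟨p1, p2, p3, p4⟩ := p_facts P
  set W := D.B ⊓ centralizer ({D.t} : Set G)
  have hvW := fac_BC P (D := D) p4 p1
  obtain ⟨S0⟩ : Nonempty (Sylow p W) := inferInstance
  set T0 := (S0 : Subgroup W).map W.subtype
  have hT0 : IsPGroup p T0 := S0.2.map _
  have hT0W : T0 ≤ W := map_subtype_le _
  have hT0c : Nat.card T0 = p ^ (Nat.card (centralizer ({D.t} : Set G))).factorization p := by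
    rw [card_map_of_injective W.subtype_injective, S0.card_eq_multiplicity, hvW]
  -- the root group is the part in the image
  have hP0W : D.P0 ≤ W := le_inf (D.P0_le_NB.trans D.NB_le_B) D.P0_le_C
  have hP0T : D.P0 ≤ T0 := by
    haveI : (D.P0.subgroupOf W).Normal := ⟨fun x hx g => D.conj_mem_of_mem_B g.2.1 hx⟩
    have h : D.P0.subgroupOf W ≤ S0 := by
      have hp0 : IsPGroup p (D.P0.subgroupOf W) :=
        (IsPGroup.of_card (n := n) (D.card_P0.trans P.hqp)).of_equiv (subgroupOfEquivOfLe hP0W).symm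
      have hsup := hp0.to_sup_of_normal_left (H := D.P0.subgroupOf W) (K := (S0 : Subgroup W)) S0.2
      have := S0.3 hsup le_sup_right
      exact this ▸ le_sup_left
    intro x hx
    exact ⟨⟨x, hP0W hx⟩, h hx, rfl⟩
  have hT0range : ∀ x ∈ T0, x ∈ D.π.range → x ∈ D.P0 := by
    set Tr := T0 ⊓ D.π.range
    have hle : Tr ≤ D.NB := by
      rintro x ⟨hx, g, rfl⟩
      exact D.B_inf_C_range (hT0W hx).1
    have hP0Tr : D.P0 ≤ Tr := le_inf hP0T (fun x hx => by
      obtain ⟨c, hc, rfl⟩ := D.mem_P0.1 hx; exact ⟨_, rfl⟩)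
    have hTrc : Nat.card Tr ≤ Nat.card D.P0 := by
      obtain ⟨j, hj⟩ := (hT0.to_le (inf_le_left : Tr ≤ T0)).exists_card_eq
      refine Nat.le_of_dvd Nat.card_pos ?_
      rw [D.card_P0, hj]
      refine Nat.Coprime.dvd_of_dvd_mul_right
        ((D.coprime_p_H P.hp P.hqp (one_le P)).pow_left j) ?_
      rw [← D.card_NB, ← hj]
      exact Subgroup.card_dvd_of_le hle
    intro x hx hx'
    rw [Subgroup.eq_of_le_of_card_ge hP0Tr hTrc]
    exact ⟨hx, hx'⟩
  -- `T0` is not a Sylow subgroup of `G`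
  obtain ⟨S, hS⟩ := hT0.exists_le_sylow
  have hlt : T0.subgroupOf S < ⊤ := by
    rw [lt_top_iff_ne_top, Ne, subgroupOf_eq_top]
    intro h
    have h1 := Subgroup.card_le_of_le h
    rw [S.card_eq_multiplicity, hT0c, Nat.pow_le_pow_iff_right P.hp.one_lt, fac_G P, fac_q P] at h1
    have := P.hn
    omega
  obtain ⟨y, hy, hyn⟩ := SetLike.exists_of_lt
    (Group.normalizerCondition_of_isNilpotent (G := S) (h := S.2.isNilpotent) _ hlt)
  have hyT : ∀ u ∈ T0, (y : G) * u * (y : G)⁻¹ ∈ T0 := fun u hu =>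
    (mem_normalizer_iff.1 hy ⟨u, hS hu⟩).1 hu
  have hyT' : ∀ u ∈ T0, (y : G)⁻¹ * u * (y : G) ∈ T0 := fun u hu => by
    have := (mem_normalizer_iff.1 (inv_mem hy) ⟨u, hS hu⟩).1 hu
    simpa [mem_subgroupOf] using this
  set D0 := centralizer (T0 : Set G)
  have htD : D.t ∈ D0 := mem_centralizer_iff.2 fun u hu => mem_centralizer_singleton_iff.1 (hT0W hu).2
  have hD0CP : D0 ≤ D.CP := fun x hx => mem_centralizer_iff.2 fun u hu =>
    mem_centralizer_iff.1 hx u (hP0T hu)
  -- the involutions of `C(T0)` are conjugate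
  set V := D0 ⊓ centralizer ({D.t} : Set G)
  have htV : D.t ∈ V := ⟨htD, D.t_mem_C⟩
  obtain ⟨S2⟩ : Nonempty (Sylow 2 V) := inferInstance
  set R2 := (S2 : Subgroup V).map V.subtype
  have hR2 : IsPGroup 2 R2 := S2.2.map _
  have hR2V : R2 ≤ V := map_subtype_le _
  have hR2H : R2 ≤ D.H := fun x hx => by
    obtain ⟨k, hk⟩ := hR2 ⟨x, hx⟩
    exact D.two_CP_C (hD0CP (hR2V hx).1) (hR2V hx).2 (congrArg Subtype.val hk)
  have htR2 : D.t ∈ R2 := by
    refine ⟨⟨D.t, htV⟩, ?_, rfl⟩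
    have hc : zpowers (⟨D.t, htV⟩ : V) ≤ normalizer ((S2 : Subgroup V) : Set V) :=
      zpowers_le.2 (mem_normalizer_iff.2 fun x => by
        have e : (⟨D.t, htV⟩ : V) * x * (⟨D.t, htV⟩ : V)⁻¹ = x := Subtype.ext (by
          show D.t * (x : G) * D.t⁻¹ = x
          rw [← mem_centralizer_singleton_iff.1 x.2.2, mul_inv_cancel_right])
        rw [e])
    have h2 : IsPGroup 2 (zpowers (⟨D.t, htV⟩ : V)) := IsPGroup.of_card (n := 1) (by
      rw [Nat.card_zpowers, Subgroup.orderOf_mk, D.orderOf_t, pow_one])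
    have := S2.3 (h2.to_sup_of_normal_right' S2.2 hc) le_sup_right
    exact this ▸ mem_sup_left (mem_zpowers _)
  obtain ⟨hconj, -⟩ := cyclic_two (X := D0) D.orderOf_t (hR2V.trans inf_le_left) hR2
    (haveI := D.H_cyclic; (subgroupOfEquivOfLe hR2H).isCyclic.1 inferInstance) htR2
    fun S' hR' hS' hp' => by
      refine le_antisymm (fun x hx => ?_) hR'
      have hsub : (S2 : Subgroup V) ≤ S'.subgroupOf V := fun z hz => hR' ⟨z, hz, rfl⟩
      have := S2.3 (hp'.of_equiv (subgroupOfEquivOfLe hS').symm) hsub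
      exact ⟨⟨x, hS' hx⟩, this ▸ (show (⟨x, hS' hx⟩ : V) ∈ S'.subgroupOf V from hx), rfl⟩
  have hty : (y : G) * D.t * (y : G)⁻¹ ∈ D0 := mem_centralizer_iff.2 fun u hu => by
    have h1 := mem_centralizer_iff.1 htD _ (hyT' u hu)
    calc u * ((y : G) * D.t * (y : G)⁻¹) = y * ((y : G)⁻¹ * u * y * D.t) * (y : G)⁻¹ := by group
      _ = y * (D.t * ((y : G)⁻¹ * u * y)) * (y : G)⁻¹ := by rw [h1]
      _ = _ := by group
  obtain ⟨x, hx, hxe⟩ := hconj _ hty (by rw [Involution.orderOf_conj, D.orderOf_t])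
  have hc : x⁻¹ * y ∈ centralizer ({D.t} : Set G) := by
    refine mem_centralizer_singleton_iff.2 ?_
    calc x⁻¹ * (y : G) * D.t = x⁻¹ * ((y : G) * D.t * (y : G)⁻¹) * y := by group
      _ = D.t * (x⁻¹ * y) := by rw [← hxe]; group
  have hyB : (y : G) ∈ D.B := by
    refine D.mem_B_of_conj fun u hu => ?_
    obtain ⟨c, hc', rfl⟩ := D.mem_P0.1 hu
    have h1 := hyT _ (hP0T (D.uu_mem c hc'))
    refine hT0range _ h1 ?_
    obtain ⟨g', hg'⟩ := D.range_conj hc (uu D.hF c hc')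
    have h2 := (mem_centralizer_iff.1 hx _ h1)
    refine ⟨g', ?_⟩
    calc D.π g' = x⁻¹ * ((y : G) * D.π (uu D.hF c hc') * (y : G)⁻¹ * x) := by rw [hg']; group
      _ = _ := by rw [h2, inv_mul_cancel_left]
  set T1 := T0 ⊔ zpowers (y : G)
  have hT1B : T1 ≤ D.B := sup_le (hT0W.trans inf_le_left) (zpowers_le.2 hyB)
  have hT1 : IsPGroup p T1 := S.2.to_le (sup_le hS (zpowers_le.2 y.2))
  have hT1c : Nat.card T0 < Nat.card T1 := by
    by_contra hle
    push Not at hle
    have e := Subgroup.eq_of_le_of_card_ge (le_sup_left : T0 ≤ T1) hle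
    exact hyn (show (y : G) ∈ T0 from e ▸ mem_sup_right (mem_zpowers _))
  -- the part in `CP`
  haveI hnorm : (D.CP.subgroupOf D.B).Normal := ⟨fun a ha g => by
    refine D.mem_CP.2 fun u hu => ?_
    have h1 : (g : G)⁻¹ * u * g ∈ D.P0 := by
      simpa using D.conj_mem_of_mem_B (D.B.inv_mem g.2) hu
    have ha' : (a : G) ∈ D.CP := ha
    have h2 := D.mem_CP.1 ha' _ h1
    show (g : G) * a * (g : G)⁻¹ * u = u * ((g : G) * a * (g : G)⁻¹)
    calc (g : G) * a * (g : G)⁻¹ * u = g * ((a : G) * ((g : G)⁻¹ * u * g)) * (g : G)⁻¹ := by group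
      _ = g * ((g : G)⁻¹ * u * g * a) * (g : G)⁻¹ := by rw [h2]
      _ = _ := by group⟩
  set φ : T1 →* D.B ⧸ D.CP.subgroupOf D.B := (QuotientGroup.mk' _).comp (Subgroup.inclusion hT1B)
  refine ⟨φ.ker.map T1.subtype, (hT1.to_subgroup _).map _, ?_, ?_⟩
  · rintro _ ⟨a, ha, rfl⟩
    exact (QuotientGroup.eq_one_iff (Subgroup.inclusion hT1B a)).1 (MonoidHom.mem_ker.1 ha)
  rw [card_map_of_injective T1.subtype_injective]
  obtain ⟨k1, hk1⟩ := hT1.exists_card_eq
  obtain ⟨j, hj⟩ := (hT1.to_subgroup φ.ker).exists_card_eq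
  have hm := φ.ker.card_mul_index
  rw [Subgroup.index_ker, hk1, hj] at hm
  have hd : Nat.card φ.range ∣ (D.CP.subgroupOf D.B).index := by
    rw [Subgroup.index_eq_card]; exact Subgroup.card_subgroup_dvd_card _
  have hi := (D.CP.subgroupOf D.B).card_mul_index
  rw [Nat.card_congr (subgroupOfEquivOfLe D.CP_le_B).toEquiv, D.card_CP, D.card_B] at hi
  haveI : Nonempty D.J := ⟨⟨D.t, D.t_mem_B, D.orderOf_t⟩⟩
  have hJ : Nat.card D.J ≠ 0 := Nat.card_pos.ne'
  have hq := D.q_ge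
  have hq0 : q ≠ 0 := by omega
  have hi' : (Nat.card D.J * (q * Nat.card D.ZC) * (D.CP.subgroupOf D.B).index).factorization p =
      (Nat.card D.J * Nat.card W).factorization p := congrArg (fun x => x.factorization p) hi
  rw [Nat.factorization_mul (mul_ne_zero hJ (mul_ne_zero hq0 Nat.card_pos.ne'))
      Subgroup.index_ne_zero_of_finite, Nat.factorization_mul hJ (mul_ne_zero hq0 Nat.card_pos.ne'),
    Nat.factorization_mul hq0 Nat.card_pos.ne', Nat.factorization_mul hJ Nat.card_pos.ne'] at hi'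
  have hvW' : (Nat.card W).factorization p = _ := hvW
  simp only [Finsupp.coe_add, Pi.add_apply, Nat.factorization_eq_zero_of_not_dvd p3, fac_q P,
    hvW'] at hi'
  obtain ⟨l, -, hl⟩ := (Nat.dvd_prime_pow P.hp).1 (Dvd.intro_left _ hm)
  have hl' : l ≤ (D.CP.subgroupOf D.B).index.factorization p := by
    rw [← P.hp.pow_dvd_iff_le_factorization Subgroup.index_ne_zero_of_finite, ← hl]
    exact hd
  rw [hl, ← pow_add] at hm
  have hm' := Nat.pow_right_injective P.hp.two_le hm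
  rw [hT0c, hk1, Nat.pow_lt_pow_iff_right P.hp.one_lt] at hT1c
  refine lt_of_lt_of_eq ?_ hj.symm
  exact lt_of_eq_of_lt P.hqp (Nat.pow_lt_pow_right P.hp.one_lt (by omega))

/-- A Sylow subgroup of `CP` has order `q ^ 3`. -/
theorem exists_large [IsSimpleGroup G] :
    ∃ Q : Subgroup G, IsPGroup p Q ∧ D.P0 ≤ Q ∧ Q ≤ D.CP ∧ Nat.card Q = q ^ 3 := by
  haveI := Fact.mk P.hp
  haveI := Fact.mk P.hr
  obtain ⟨T, hT, hTCP, hTq⟩ := exists_root_lt P (D := D)
  obtain ⟨K, hKCP, hBK, hKodd, hKmem⟩ := D.exists_K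
  have hp2 : Odd p := (P.hp.eq_two_or_odd').resolve_left fun h2 => by
    have h3 := D.hodd
    rw [P.hqp, h2, Nat.odd_pow_iff (by have := P.hn; omega)] at h3
    exact absurd h3 (by decide)
  have podd : ∀ {X : Subgroup G}, IsPGroup p X → X ≤ D.CP → X ≤ K := fun {X} hX hXC x hx => by
    obtain ⟨k, hk⟩ := IsPGroup.iff_orderOf.1 hX ⟨x, hx⟩
    rw [Subgroup.orderOf_mk] at hk
    exact hKmem x (hXC hx) (hk ▸ hp2.pow)
  have hP0 : IsPGroup p D.P0 := IsPGroup.of_card (n := n) (D.card_P0.trans P.hqp)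
  haveI : Nonempty D.J := ⟨⟨D.t, D.t_mem_B, D.orderOf_t⟩⟩
  obtain ⟨r1, r2, -⟩ := r_facts P (D := D)
  obtain ⟨hJp, hJr⟩ := fac_J P (D := D)
  have hrK : ¬ r ∣ Nat.card K := fun h => by
    have h' := h.trans (Subgroup.card_dvd_of_le hKCP)
    rw [D.card_CP] at h'
    rcases (Nat.Prime.dvd_mul P.hr).1 h' with h | h
    · exact hJr h
    · rcases (Nat.Prime.dvd_mul P.hr).1 h with h | h
      · exact r1 h
      · exact r2 h
  have hAB : torusA D r ≤ D.B := (cycPart_le _ _ _).trans (D.H_le_NB.trans D.NB_le_B)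
  obtain ⟨S, hS0, hSA⟩ := Coprime.exists_invariant_sylow_ge (A := torusA D r) (K := K)
    (hAB.trans hBK) (by
      rw [card_A P]
      exact (Nat.Coprime.pow_left _ (Nat.coprime_two_left.2 hKodd)).mul_left
        (P.hr.coprime_iff_not_dvd.2 hrK))
    (Or.inl (Group.isSolvable_of_comm fun u v =>
      ((cycPart_cyclic D.H D.H_cyclic _ : IsCyclic (torusA D r)).isMulCommutative).is_comm.comm u v))
    (p := p) (podd hP0 D.P0_le_CP) hP0
    (fun a ha => mem_normalizer_iff.2 fun x => mem_normalizer_iff.1 (hAB ha) x)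
  set Q := (S : Subgroup K).map K.subtype
  have hQ : IsPGroup p Q := S.2.map _
  have hQCP : Q ≤ D.CP := (map_subtype_le _).trans hKCP
  have hTQ : Nat.card T ≤ Nat.card Q := by
    rw [card_map_of_injective K.subtype_injective, S.card_eq_multiplicity,
      ← Nat.card_congr (subgroupOfEquivOfLe (podd hT hTCP)).toEquiv]
    obtain ⟨S', hS'⟩ := (hT.of_equiv (subgroupOfEquivOfLe (podd hT hTCP)).symm).exists_le_sylow
    rw [← S'.card_eq_multiplicity]
    exact Subgroup.card_le_of_le hS'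
  refine ⟨Q, hQ, hS0, hQCP, le_antisymm ?_ ?_⟩
  · obtain ⟨k, hk⟩ := hQ.exists_card_eq
    have h := hk ▸ Subgroup.card_dvd_of_le hQCP
    rw [P.hp.pow_dvd_iff_le_factorization Nat.card_pos.ne', D.card_CP,
      Nat.factorization_mul Nat.card_pos.ne' (mul_ne_zero (by have := D.q_ge; omega) Nat.card_pos.ne'),
      Nat.factorization_mul (by have := D.q_ge; omega) Nat.card_pos.ne', Finsupp.coe_add,
      Pi.add_apply, Finsupp.coe_add, Pi.add_apply, fac_q P,
      Nat.factorization_eq_zero_of_not_dvd (p_facts P).2.2.1] at h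
    rw [hk, P.hqp, ← pow_mul]
    exact Nat.pow_le_pow_right P.hp.pos (by omega)
  · have h := free_index P hQ hS0 (fun e => by
      have := hTq.trans_le hTQ
      rw [← e, D.card_P0] at this
      omega) hSA (fun a ha => hAB ha) (p_CP_inf_C P hQ hQCP)
    rw [D.card_P0] at h
    rwa [pow_succ]

theorem sq_dvd_J [IsSimpleGroup G] : q ^ 2 ∣ Nat.card D.J := by
  obtain ⟨Q, -, -, hQCP, e⟩ := exists_large P (D := D)
  have h : q ^ 2 * q ∣ Nat.card D.J * Nat.card D.ZC * q := by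
    rw [← pow_succ, ← e, mul_assoc, mul_comm (Nat.card D.ZC), ← D.card_CP]
    exact Subgroup.card_dvd_of_le hQCP
  refine Nat.Coprime.dvd_of_dvd_mul_right ?_
    (Nat.dvd_of_mul_dvd_mul_right (by have := D.q_ge; omega) h)
  have e : q ^ 2 = p ^ (n * 2) := by rw [P.hqp, ← pow_mul]
  rw [e]
  exact Nat.Coprime.pow_left _ (P.hp.coprime_iff_not_dvd.2 (p_facts P).2.2.1)

end Data

end Cfsg.Agent.U3Field
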