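import Cfsg.Agent.Lib.U3Field.Coord

/-!
# The middle factor of the Bruhat decomposition has no field part (owner: helper40)

* `Chart.master` : the semilinear identity given by the decomposition of `w * el a b * w`
* `Chart.dlt_eq_zero` : `(el a b)⁻¹ = el (-a) (b ^ q)`
* `Chart.ratio_fix` : the field part fixes a ratio when the second middle factor has none
* `Chart.cell` : `w * x * w = x₁ * h * w * x₂` with `h` in the torus
-/

set_option autoImplicit false
set_option linter.unusedSectionVars false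
set_option linter.style.haveILetI false

namespace Cfsg.Agent.U3Field

open Subgroup Cfsg.Agent.U3Recog Cfsg.Agent.Unitary
open scoped Pointwise

variable {G : Type*} [Group G] [Finite G] [IsSimpleGroup G] {F : Type*} [Field F] [Fintype F] {q : ℕ}

namespace Chart

variable (C : Chart G F q)
include C

/-- The element acts as `(s, ν, θ)` on the coordinates. -/
def Acts (η : G) (s ν : F) (θ : RingAut F) : Prop :=
  ∀ a b, Ok q a b → Ok q (s * θ a) (ν * θ b) ∧ η • C.pp a b = C.pp (s * θ a) (ν * θ b)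

/-- The second coordinate of the inverse. -/
noncomputable def bi (a b : F) : F := b ^ q + C.dlt a

/-- The second coordinate of the last factor. -/
noncomputable def bg (a b : F) : F := ((C.bi a b)⁻¹) ^ q + C.dlt (a / C.bi a b)

theorem bi_ok {a b : F} (h : Ok q a b) : Ok q a (C.bi a b) := by
  have := (C.inv_ok h).neg C.hF
  rwa [neg_neg] at this

theorem bg_ok {a b : F} (ha : a ≠ 0) (h : Ok q a b) : Ok q (a / C.bi a b) (C.bg a b) :=
  (((C.bi_ok h).inv C.hF C.two_ne ha).conj C.hF).shift C.hF (C.dlt_skew _)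

theorem den_ne {a b c : F} (ha : a ≠ 0) (h : Ok q a b) (hc : c + c ^ q = 0) (hc0 : c ≠ 0) :
    C.bg a b * c + 1 ≠ 0 := by
  have hb := (C.bi_ok h).ne_zero C.hF C.two_ne ha
  intro e
  refine (C.bg_ok ha h).add_ne_zero C.hF C.two_ne (div_ne_zero ha hb) (skew_inv C.hF hc) ?_
  field_simp
  linear_combination e

/-- The Bruhat decomposition of `w * el a b * w`. -/
theorem exists_eta {a b : F} (ha : a ≠ 0) (h : Ok q a b) :
    ∃ η : G, (η • C.oo = C.oo ∧ η • C.zero = C.zero) ∧ C.w * C.el a b * C.w =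
      C.el (a / b) b⁻¹ * η * C.w * C.el (a / C.bi a b) (C.bg a b) := by
  have hb' := (C.bi_ok h).ne_zero C.hF C.two_ne ha
  have hg := C.bg_ok ha h
  have hY := h.inv C.hF C.two_ne ha
  set g := C.el (a / C.bi a b) (C.bg a b) with hgdef
  set Y := C.el (a / b) b⁻¹ with hYdef
  have hn : Ok q (-(a / C.bi a b)) (C.bi a b)⁻¹ :=
    ((C.bi_ok h).inv C.hF C.two_ne ha).neg C.hF
  have hgi : g⁻¹ = C.el (-(a / C.bi a b)) (C.bi a b)⁻¹ := by
    rw [hgdef, C.el_inv hg]
    congr 1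
    simp only [bg]
    rw [add_pow_q C.hF, pow_q_pow_q C.hF]
    linear_combination C.dlt_skew (a / C.bi a b)
  set M := C.w * C.el a b * C.w * g⁻¹ * C.w with hM
  have h1 : M • C.oo = C.oo := by
    rw [hM, mul_smul, mul_smul, ← Data.zero, hgi, C.el_zero hn, mul_smul, mul_smul,
      C.pp_w (neg_ne_zero.2 (div_ne_zero ha hb')) hn, inv_inv]
    have e : -(a / C.bi a b) / (C.bi a b)⁻¹ = -a := by field_simp
    rw [e, show C.bi a b = b ^ q + C.dlt a from rfl, ← C.el_zero (C.inv_ok h), ← C.el_inv h,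
      smul_inv_smul, C.w_zero]
  have h2 : M • C.zero = C.pp (a / b) b⁻¹ := by
    rw [hM, mul_smul, C.w_zero, mul_smul, C.P_oo (C.P.inv_mem (C.el_mem hg)), mul_smul, mul_smul,
      ← Data.zero, C.el_zero h, C.pp_w ha h]
  refine ⟨Y⁻¹ * M, ⟨?_, ?_⟩, ?_⟩
  · rw [mul_smul, h1, C.P_oo (C.P.inv_mem (C.el_mem hY))]
  · rw [mul_smul, h2, ← C.el_zero hY, inv_smul_smul]
  · rw [mul_inv_cancel_left, hM]
    simp only [mul_assoc]
    rw [← mul_assoc C.w C.w g, C.w_mul_w, one_mul, inv_mul_cancel, mul_one]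

/-- The identity given by the decomposition. -/
theorem master {a b : F} (ha : a ≠ 0) (h : Ok q a b) {η : G}
    (hw : C.w * C.el a b * C.w =
      C.el (a / b) b⁻¹ * η * C.w * C.el (a / C.bi a b) (C.bg a b)) {s ν : F}
    {θ : RingAut F} (hs : C.Acts η s ν θ)
    {c : F} (hc : c + c ^ q = 0) (hc0 : c ≠ 0) :
    Ok q (s * θ (a * c / (C.bi a b * (C.bg a b * c + 1)))) (ν * θ (c / (C.bg a b * c + 1))) ∧
      C.el (a / (b + c)) (b + c)⁻¹ =
        C.el (a / b) b⁻¹ *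
          C.el (s * θ (a * c / (C.bi a b * (C.bg a b * c + 1)))) (ν * θ (c / (C.bg a b * c + 1))) := by
  have hb' := (C.bi_ok h).ne_zero C.hF C.two_ne ha
  have hg := C.bg_ok ha h
  have hY := h.inv C.hF C.two_ne ha
  have hden := C.den_ne ha h hc hc0
  have hci := skew_inv C.hF hc
  have hok1 := (h.shift C.hF hc).inv C.hF C.two_ne ha
  have hA : a / C.bi a b ≠ 0 := div_ne_zero ha hb'
  have hg1 := hg.shift C.hF hci
  have hg2 := hg1.inv C.hF C.two_ne hA
  obtain ⟨hg3, hact⟩ := hs _ _ hg2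
  have e1 : a / C.bi a b / (C.bg a b + c⁻¹) =
      a * c / (C.bi a b * (C.bg a b * c + 1)) := by field_simp
  have e2 : (C.bg a b + c⁻¹)⁻¹ = c / (C.bg a b * c + 1) := by field_simp
  rw [e1, e2] at hg3 hact
  refine ⟨hg3, ?_⟩
  have hL : (C.w * C.el a b * C.w) • C.pp 0 c⁻¹ = C.pp (a / (b + c)) (b + c)⁻¹ := by
    rw [mul_smul, mul_smul, C.pp_w_line hci (inv_ne_zero hc0), inv_inv, C.pp_line hc, ← mul_smul,
      ← mul_smul, mul_assoc, ← C.el_line hc, ← C.el_shift h hc, mul_smul,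
      C.el_zero (h.shift C.hF hc), C.pp_w ha (h.shift C.hF hc)]
  have hR : (C.el (a / b) b⁻¹ * η * C.w * C.el (a / C.bi a b) (C.bg a b)) • C.pp 0 c⁻¹ =
      C.el (a / b) b⁻¹ •
        C.pp (s * θ (a * c / (C.bi a b * (C.bg a b * c + 1)))) (ν * θ (c / (C.bg a b * c + 1))) := by
    rw [C.pp_line hci, mul_smul, mul_smul, mul_smul, ← C.el_line hci, ← mul_smul (C.el _ _) (C.el _ _),
      ← C.el_shift hg hci, C.el_zero hg1, C.pp_w hA hg1, e1, e2, hact]
  rw [← hw, hL, ← C.el_zero hg3, ← mul_smul] at hR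
  exact (C.eq_el hok1 (C.P.mul_mem (C.el_mem hY) (C.el_mem hg3)) hR.symm).symm

/-- The two directions of the master identity are inverse. -/
theorem anti {a b c s1 ν1 s2 ν2 : F} {θ1 θ2 : RingAut F} {η1 η2 : G} (ha : a ≠ 0) (h : Ok q a b)
    (hc : c + c ^ q = 0) (hc0 : c ≠ 0)
    (hw1 : C.w * C.el a b * C.w =
      C.el (a / b) b⁻¹ * η1 * C.w * C.el (a / C.bi a b) (C.bg a b))
    (hs1 : C.Acts η1 s1 ν1 θ1)
    (hw2 : C.w * C.el a (b + c) * C.w =
      C.el (a / (b + c)) (b + c)⁻¹ * η2 * C.w * C.el (a / C.bi a (b + c)) (C.bg a (b + c)))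
    (hs2 : C.Acts η2 s2 ν2 θ2) :
    s2 * θ2 (a * -c / (C.bi a (b + c) * (C.bg a (b + c) * -c + 1))) =
        -(s1 * θ1 (a * c / (C.bi a b * (C.bg a b * c + 1)))) ∧
      ν2 * θ2 (-c / (C.bg a (b + c) * -c + 1)) = (ν1 * θ1 (c / (C.bg a b * c + 1))) ^ q +
        C.dlt (s1 * θ1 (a * c / (C.bi a b * (C.bg a b * c + 1)))) := by
  have h' := h.shift C.hF hc
  obtain ⟨ok1, e1⟩ := C.master ha h hw1 hs1 hc hc0
  obtain ⟨ok2, e2⟩ := C.master ha h' hw2 hs2 (skew_neg C.hF hc) (neg_ne_zero.2 hc0)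
  rw [add_neg_cancel_right] at e2
  exact C.el_inj ok2 (C.inv_ok ok1) (by
    rw [← C.el_inv ok1]
    refine (inv_eq_of_mul_eq_one_right ?_).symm
    refine mul_left_cancel (a := C.el (a / b) b⁻¹) ?_
    rw [← mul_assoc, ← e1, ← e2, mul_one])

/-- An involution of `B` in terms of the image of `zero`. -/
theorem invol_B {j y : G} (hj : j ∈ C.B) (ho : orderOf j = 2) (hy : y ∈ C.P)
    (he : j • C.zero = y • C.zero) : j = y * C.t ∧ C.t * y * C.t = y⁻¹ := by
  set h := y⁻¹ * j with hh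
  have f1 : h • C.oo = C.oo := by rw [mul_smul, C.smul_oo_iff.2 hj, C.P_oo (C.P.inv_mem hy)]
  have f2 : h • C.zero = C.zero := by rw [mul_smul, he, inv_smul_smul]
  have hjy : j = y * h := (mul_inv_cancel_left y j).symm
  have hjj : j * j = 1 := Involution.mul_self ho
  have e : y * (h * y * h⁻¹) = (h * h)⁻¹ := by
    rw [eq_inv_iff_mul_eq_one, ← hjj, hjy]; group
  have h1 : y * (h * y * h⁻¹) = 1 := C.eq_one_of_stab
    (C.P.mul_mem hy (C.P_conj (C.smul_oo_iff.1 f1) hy))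
    (by rw [e, inv_smul_eq_iff, mul_smul, f2, f2])
  rw [h1, eq_comm, inv_eq_one] at e
  have hH : h ∈ C.H := C.stab_range f1 f2
    (C.mem_range_of_two (C.stab_comm_t f1 f2) (k := 1) (by rw [pow_one, sq, e]; exact one_mem _))
  have ht : h = C.t := by
    by_contra hne
    by_cases h10 : h = 1
    · rw [hjy, h10, mul_one] at ho
      have : 2 ∣ q ^ 3 := by
        rw [← C.card_P, ← ho, ← Subgroup.orderOf_mk y hy]; exact orderOf_dvd_natCard _
      exact Nat.not_even_iff_odd.2 C.hodd.pow (even_iff_two_dvd.2 this)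
    · exact hne (eq_of_cyclic C.H_cyclic (orderOf_eq_prime (by rw [sq, e]) h10) C.orderOf_t hH
        C.t_mem_H)
  refine ⟨by rw [hjy, ht], ?_⟩
  rw [ht, Involution.inv_eq C.orderOf_t] at h1
  exact eq_inv_of_mul_eq_one_right h1

theorem inverted_el {a b : F} (h : Ok q a b) (he : C.t * C.el a b * C.t = (C.el a b)⁻¹) :
    b = b ^ q + C.dlt a := by
  rw [C.el_t h, C.el_inv h] at he
  exact (C.el_inj (h.neg C.hF) (C.inv_ok h) he).2

theorem exists_scale_norm {r : F} (hr : r ^ q = r) (hr0 : r ≠ 0) :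
    ∃ η ∈ C.H, ∃ s : F, s ≠ 0 ∧ s ^ q * s = r ∧
      ∀ a b, Ok q a b → Ok q (s * a) (r * b) ∧ η • C.pp a b = C.pp (s * a) (r * b) := by
  obtain ⟨l, hl⟩ := exists_norm_eq C.hF hr
  have hl0 : l ≠ 0 := fun h => by simp [h] at hl; exact hr0 hl.symm
  set η := C.π (dd C.hF (Units.mk0 l hl0))
  have hη : η ∈ C.H := C.dd_mem _
  obtain ⟨s, ν, hs0, hsν, hs⟩ := C.exists_scale hη
  obtain ⟨c, hc, hc0⟩ := C.exists_skew_ne
  obtain ⟨hok, he⟩ := hs 0 c ((ok_zero C.hF).2 hc)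
  rw [mul_zero] at hok he
  have hc' : r * c + (r * c) ^ q = 0 := by rw [mul_pow, hr, ← mul_add, hc, mul_zero]
  have e : η • C.pp 0 c = C.pp 0 (r * c) := by
    rw [C.pp_line hc, C.pp_line hc', ← mul_smul]
    have : η * C.π (uu C.hF c hc) = C.π (uu C.hF (r * c) hc') * η := by
      rw [← map_mul, ← map_mul]
      congr 1
      obtain ⟨d0, d1, d2, d3⟩ := dd_entries C.hF (q := q) (Units.mk0 l hl0)
      have : l ^ q ≠ 0 := pow_ne_zero _ hl0
      apply ext4 <;> simp [d0, d1, d2, d3]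
      rw [← hl, pow_succ]
      field_simp
    rw [this, mul_smul, C.H_zero hη]
  have := (C.pp_inj hok ((ok_zero C.hF).2 hc') (he.symm.trans e)).2
  have hνr : ν = r := mul_right_cancel₀ hc0 this
  subst hνr
  exact ⟨η, hη, s, hs0, hsν, hs⟩

/-- The value at the real point. -/
theorem unit_pt {a : F} (hn : a ^ q * a = 1) :
    C.bg a 1 = (C.bi a 1)⁻¹ ∧
      C.w * C.el a 1 * C.w = C.el a 1 * C.t * C.w * C.el (a / C.bi a 1) (C.bg a 1) ∧
      C.w * C.el (-a) (C.bi a 1) * C.w =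
        C.el (-(a / C.bi a 1)) (C.bi a 1)⁻¹ * C.t * C.w * C.el (-a) (C.bi a 1) := by
  have ha : a ≠ 0 := fun h => by simp [h] at hn
  have h : Ok q a 1 := by rw [← hn]; exact ok_self C.hF a
  have hb := C.bi_ok h
  set X := C.el a 1
  have hwp : C.w • C.pp a 1 = C.pp a 1 := by rw [C.pp_w ha h]; simp
  set j := C.w * (X⁻¹ * C.w * X) * C.w
  have hi : (X⁻¹ * C.w * X) • C.zero = C.zero := by
    rw [mul_smul, mul_smul, C.el_zero h, hwp, inv_smul_eq_iff, C.el_zero h]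
  have hjB : j ∈ C.B := by
    rw [← C.smul_oo_iff, mul_smul, mul_smul, ← Data.zero, hi, C.w_zero]
  have ho : orderOf j = 2 := by
    rw [show j = (C.w * X⁻¹) * C.w * (C.w * X⁻¹)⁻¹ by simp [j, mul_assoc, C.w_inv],
      Involution.orderOf_conj, C.orderOf_w]
  have hn' : Ok q (-(a / C.bi a 1)) (C.bi a 1)⁻¹ := (hb.inv C.hF C.two_ne ha).neg C.hF
  have hj0 : j • C.zero = C.el (-(a / C.bi a 1)) (C.bi a 1)⁻¹ • C.zero := by
    rw [C.el_zero hn', mul_smul, mul_smul, C.w_zero, mul_smul, mul_smul, C.P_oo (C.el_mem h),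
      ← Data.zero, C.el_inv h, C.el_zero (C.inv_ok h), C.pp_w (neg_ne_zero.2 ha) (C.inv_ok h),
      neg_div]
    rfl
  obtain ⟨hjt, hinv⟩ := C.invol_B hjB ho (C.el_mem hn') hj0
  set y := C.el (-(a / C.bi a 1)) (C.bi a 1)⁻¹ with hydef
  have hyi : y⁻¹ = C.el (a / C.bi a 1) (C.bg a 1) := by
    rw [hydef, C.el_inv hn', neg_neg, C.dlt_neg]; rfl
  have htw : C.w * C.t = C.t * C.w := (C.comm_t (wn C.hF)).eq
  have hk : C.w * X * C.w = X * C.t * C.w * y⁻¹ := by
    have hji : j = C.t * y⁻¹ := by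
      rw [← Involution.inv_eq ho, hjt, mul_inv_rev, Involution.inv_eq C.orderOf_t]
    have e : C.w * X⁻¹ * C.w * X * C.w = C.t * y⁻¹ := by rw [← hji]; simp [j, mul_assoc]
    have e' : X⁻¹ * C.w * X * C.w = C.w * (C.t * y⁻¹) := by
      rw [← e]; simp only [← mul_assoc]; rw [C.w_mul_w, one_mul]
    calc C.w * X * C.w = X * (X⁻¹ * C.w * X * C.w) := by group
      _ = X * (C.w * C.t) * y⁻¹ := by rw [e']; group
      _ = X * C.t * C.w * y⁻¹ := by rw [htw, ← mul_assoc X C.t C.w]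
  refine ⟨?_, by rw [← hyi]; exact hk, ?_⟩
  · have := C.inverted_el hn' hinv
    rw [C.dlt_neg] at this
    exact this.symm
  · have hXi : X⁻¹ = C.el (-a) (C.bi a 1) := C.el_inv h
    rw [← hXi]
    calc C.w * X⁻¹ * C.w = (C.w * X * C.w)⁻¹ := by
          rw [mul_inv_rev, mul_inv_rev, C.w_inv, mul_assoc]
      _ = y * (C.w * C.t) * X⁻¹ := by
          rw [hk, mul_inv_rev, mul_inv_rev, mul_inv_rev, inv_inv, C.w_inv,
            Involution.inv_eq C.orderOf_t]
          group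
      _ = y * C.t * C.w * X⁻¹ := by rw [htw, ← mul_assoc y C.t C.w]

theorem acts_t : C.Acts C.t (-1) 1 1 := fun a b h => by
  simp only [RingAut.one_apply, neg_one_mul, one_mul]
  exact ⟨h.neg C.hF, C.pp_t h⟩

/-- The defect vanishes on vectors of norm one. -/
theorem dlt_unit {a : F} (hn : a ^ q * a = 1) : C.dlt a = 0 := by
  have ha : a ≠ 0 := fun h => by simp [h] at hn
  have h2 := C.two_ne
  by_contra hd0
  set e := C.dlt a / 2 with he
  have hde : C.dlt a = 2 * e := by rw [he]; field_simp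
  have he0 : e ≠ 0 := fun h => hd0 (by rw [hde, h, mul_zero])
  have hes : e + e ^ q = 0 := by
    rw [he, div_pow, two_pow_q C.hF, ← add_div, C.dlt_skew, zero_div]
  have hc : 2 * e + (2 * e) ^ q = 0 := by
    rw [mul_pow, two_pow_q C.hF, ← mul_add, hes, mul_zero]
  have h0 : Ok q a 1 := by rw [← hn]; exact ok_self C.hF a
  obtain ⟨g0, hw, hw'⟩ := C.unit_pt hn
  have hbi0 : C.bi a 1 = 1 + 2 * e := by simp [bi, hde]
  have hbi2 : C.bi a (1 + 2 * e) = 1 := by
    simp only [bi, add_pow_q C.hF, one_pow, hde]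
    linear_combination hc
  have hg2 : C.bg a (1 + 2 * e) = 1 + 2 * e := by simp [bg, hbi2, hde]
  have h1 := h0.shift C.hF hc
  rw [hbi0] at hw'
  have hm := h1.neg C.hF
  have hY := h1.inv C.hF C.two_ne ha
  have hw1 : C.w * C.el a 1 * C.w =
      C.el (a / 1) 1⁻¹ * C.t * C.w * C.el (a / C.bi a 1) (C.bg a 1) := by
    rw [div_one, inv_one]; exact hw
  have hw2 : C.w * C.el a (1 + 2 * e) * C.w = C.el (a / (1 + 2 * e)) (1 + 2 * e)⁻¹ * C.t * C.w *
      C.el (a / C.bi a (1 + 2 * e)) (C.bg a (1 + 2 * e)) := by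
    rw [hbi2, hg2, div_one]
    have htw : C.w * C.t = C.t * C.w := (C.comm_t (wn C.hF)).eq
    have k1 : C.el a (1 + 2 * e) = C.t * C.el (-a) (1 + 2 * e) * C.t := by
      rw [C.el_t hm, neg_neg]
    have k2 : C.el (a / (1 + 2 * e)) (1 + 2 * e)⁻¹ =
        C.t * C.el (-(a / (1 + 2 * e))) (1 + 2 * e)⁻¹ * C.t := by
      rw [C.el_t (hY.neg C.hF), neg_neg]
    rw [k1, k2]
    calc C.w * (C.t * C.el (-a) (1 + 2 * e) * C.t) * C.w
        = (C.w * C.t) * C.el (-a) (1 + 2 * e) * (C.t * C.w) := by group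
      _ = C.t * (C.w * C.el (-a) (1 + 2 * e) * C.w) * C.t := by
          rw [htw]; nth_rw 2 [← htw]; simp only [mul_assoc]
      _ = _ := by
          rw [hw']
          simp only [mul_assoc]
          rw [← mul_assoc C.t C.t, Involution.mul_self C.orderOf_t, one_mul,
            ← mul_assoc C.w C.t, htw, mul_assoc C.t C.w]
  obtain ⟨r, -⟩ := C.anti ha h0 hc (mul_ne_zero h2 he0) hw1 C.acts_t hw2 C.acts_t
  simp only [RingAut.one_apply, hbi0, hbi2, g0, hg2] at r
  have n0 : 1 + 2 * e ≠ 0 := hbi0 ▸ (C.bi_ok h0).ne_zero C.hF C.two_ne ha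
  have n2 : (1 + 2 * e) * -(2 * e) + 1 ≠ 0 :=
    hg2 ▸ C.den_ne ha h1 (skew_neg C.hF hc) (neg_ne_zero.2 (mul_ne_zero h2 he0))
  have n1 : (1 + 2 * e) * ((1 + 2 * e)⁻¹ * (2 * e) + 1) = 1 + 4 * e := by
    field_simp; ring
  rw [n1] at r
  have n1' : 1 + 4 * e ≠ 0 := by
    have := C.den_ne ha h0 hc (mul_ne_zero h2 he0)
    rw [g0, hbi0] at this
    exact n1 ▸ mul_ne_zero n0 this
  have r1 : a * (2 * e) / ((1 + 2 * e) * -(2 * e) + 1) = a * (2 * e) / (1 + 4 * e) := by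
    linear_combination r
  rw [div_eq_div_iff n2 n1'] at r1
  have p : e * (2 * e + 3) = 0 := by
    refine (mul_eq_zero.1 (?_ : (2 * 2 * a * e) * (e * (2 * e + 3)) = 0)).resolve_left
      (mul_ne_zero (mul_ne_zero (mul_ne_zero h2 h2) ha) he0)
    linear_combination r1
  have p1 := (mul_eq_zero.1 p).resolve_left he0
  have p2 := congrArg (Unitary.conjHom C.hF) p1
  simp only [map_add, map_mul, map_ofNat, map_zero, conjHom_apply,
    show e ^ q = -e by linear_combination hes] at p2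
  exact he0 ((mul_eq_zero.1 (show (2 * 2 : F) * e = 0 by linear_combination p1 - p2)).resolve_left
    (mul_ne_zero h2 h2))

theorem dlt_eq_zero (a : F) : C.dlt a = 0 := by
  rcases eq_or_ne a 0 with rfl | ha
  · have h : Ok q (0 : F) 0 := (ok_zero C.hF).2 (skew_zero C.hF)
    have e := C.el_inv h
    rw [C.el_one, inv_one, ← C.el_one] at e
    have := (C.el_inj h (C.inv_ok h) e).2
    simpa [zero_pow_q C.hF] using this.symm
  · obtain ⟨η, hη, s, hs0, hsn, hs⟩ := C.exists_scale_norm (r := (a ^ q * a)⁻¹)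
      (by rw [inv_pow, nm_fixed C.hF]) (inv_ne_zero (nm_ne_zero ha))
    have h := C.dlt_scale hη hs (by rw [inv_pow, nm_fixed C.hF]) a
    rw [C.dlt_unit (by
      rw [mul_pow, mul_mul_mul_comm, hsn]
      exact inv_mul_cancel₀ (nm_ne_zero ha))] at h
    exact (mul_eq_zero.1 h.symm).resolve_left (inv_ne_zero (nm_ne_zero ha))

theorem bi_eq (a b : F) : C.bi a b = b ^ q := by simp [bi, C.dlt_eq_zero]

theorem bg_eq (a b : F) : C.bg a b = b⁻¹ := by
  simp [bg, C.bi_eq, C.dlt_eq_zero, inv_pow, pow_q_pow_q C.hF]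

theorem el_inv' {a b : F} (h : Ok q a b) : (C.el a b)⁻¹ = C.el (-a) (b ^ q) := by
  rw [C.el_inv h, C.dlt_eq_zero, add_zero]

/-- The field part fixes a ratio if the middle factor of the second point has none. -/
theorem ratio_fix {a b c s1 ν1 s2 ν2 : F} {θ : RingAut F} {η1 η2 : G} (hn : a ^ q * a = 1)
    (h : Ok q a b) (hc : c + c ^ q = 0) (hc0 : c ≠ 0) (hs10 : s1 ≠ 0) (hsν1 : s1 ^ q * s1 = ν1)
    (hs20 : s2 ≠ 0) (hsν2 : s2 ^ q * s2 = ν2)
    (hw1 : C.w * C.el a b * C.w =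
      C.el (a / b) b⁻¹ * η1 * C.w * C.el (a / C.bi a b) (C.bg a b))
    (hs1 : C.Acts η1 s1 ν1 θ)
    (hw2 : C.w * C.el a (b + c) * C.w =
      C.el (a / (b + c)) (b + c)⁻¹ * η2 * C.w * C.el (a / C.bi a (b + c)) (C.bg a (b + c)))
    (hs2 : C.Acts η2 s2 ν2 1) :
    θ (c / (b ^ q * (b + c))) = c / (b ^ q * (b + c)) := by
  have ha : a ≠ 0 := fun h => by simp [h] at hn
  have hb := h.ne_zero C.hF C.two_ne ha
  have hbq := pow_ne_zero q hb
  have hbc := h.add_ne_zero C.hF C.two_ne ha hc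
  have hcq : c ^ q = -c := by linear_combination hc
  have hbcq : (b + c) ^ q = b ^ q - c := by rw [add_pow_q C.hF, hcq]; ring
  have hbcq0 : b ^ q - c ≠ 0 := hbcq ▸ pow_ne_zero q hbc
  obtain ⟨e1, e2⟩ := C.anti ha h hc hc0 hw1 hs1 hw2 hs2
  simp only [C.dlt_eq_zero, add_zero, RingAut.one_apply, C.bi_eq, C.bg_eq] at e1 e2
  set X1 := a * c / (b ^ q * (b⁻¹ * c + 1))
  set Y1 := c / (b⁻¹ * c + 1)
  have hcb : c + b ≠ 0 := by rwa [add_comm]
  have hX1 : X1 ^ q * X1 = -(c * c) / ((b ^ q - c) * (b + c)) := by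
    have e : X1 = a * c * b / (b ^ q * (b + c)) := by simp only [X1]; field_simp; ring
    rw [e, div_pow, mul_pow, mul_pow, mul_pow, pow_q_pow_q C.hF, hcq, hbcq]
    field_simp
    linear_combination -hn
  have hY1 : Y1 ^ q = -(c * b ^ q) / (b ^ q - c) := by
    have e : Y1 = c * b / (b + c) := by simp only [Y1]; field_simp; ring
    rw [e, div_pow, mul_pow, hcq, hbcq, neg_mul]
  have eX2 : a * -c / ((b + c) ^ q * ((b + c)⁻¹ * -c + 1)) = -(a * c * (b + c)) / ((b ^ q - c) * b) := by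
    have hz : (b + c)⁻¹ * -c + 1 = b / (b + c) := by field_simp; ring
    rw [hbcq, hz]
    field_simp
  have eY2 : -c / ((b + c)⁻¹ * -c + 1) = -(c * (b + c)) / b := by
    have hz : (b + c)⁻¹ * -c + 1 = b / (b + c) := by field_simp; ring
    rw [hz]
    field_simp
  rw [eX2] at e1
  rw [eY2, mul_pow, show ν1 ^ q = ν1 by rw [← hsν1, nm_fixed C.hF]] at e2
  have e3 := congrArg (fun x => x ^ q * x) e1
  simp only [mul_pow, neg_pow_q C.hF, neg_mul_neg] at e3
  rw [mul_mul_mul_comm, hsν2, mul_mul_mul_comm, hsν1, ← map_pow, ← map_mul, hX1] at e3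
  have hX2 : (-(a * c * (b + c)) / ((b ^ q - c) * b)) ^ q * (-(a * c * (b + c)) / ((b ^ q - c) * b)) =
      -(c * c) / (b ^ q * b) := by
    rw [div_pow, neg_pow_q C.hF, mul_pow, mul_pow, hcq, hbcq, mul_pow, sub_pow_q C.hF,
      pow_q_pow_q C.hF, hcq, sub_neg_eq_add]
    field_simp
    linear_combination -hn
  rw [hX2] at e3
  rw [← map_pow, hY1] at e2
  have hν1 : ν1 ≠ 0 := hsν1 ▸ nm_ne_zero hs10
  have hν2 : ν2 ≠ 0 := hsν2 ▸ nm_ne_zero hs20
  have hd : -(c * b ^ q) / (b ^ q - c) ≠ 0 :=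
    div_ne_zero (neg_ne_zero.2 (mul_ne_zero hc0 hbq)) hbcq0
  have key : θ (-(c * c) / ((b ^ q - c) * (b + c))) * (-(c * (b + c)) / b) =
      θ (-(c * b ^ q) / (b ^ q - c)) * (-(c * c) / (b ^ q * b)) := by
    refine mul_left_cancel₀ (mul_ne_zero hν1 hν2) ?_
    linear_combination (ν1 * θ (-(c * c) / ((b ^ q - c) * (b + c)))) * e2 -
      (ν1 * θ (-(c * b ^ q) / (b ^ q - c))) * e3
  have hR : -(c * c) / ((b ^ q - c) * (b + c)) =
      c / (b ^ q * (b + c)) * (-(c * b ^ q) / (b ^ q - c)) := by field_simp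
  rw [hR, map_mul] at key
  set x := -(c * b ^ q) / (b ^ q - c)
  have hx : θ x ≠ 0 := fun e => hd (θ.injective (e.trans (map_zero θ).symm))
  refine mul_right_cancel₀ (mul_ne_zero hx (?_ : -(c * (b + c)) / b ≠ 0)) ?_
  · exact div_ne_zero (neg_ne_zero.2 (mul_ne_zero hc0 hbc)) hb
  · rw [← mul_assoc, key]
    field_simp

/-- The middle factor at a point of norm one lies in the torus. -/
theorem cell_unit {a b : F} (hn : a ^ q * a = 1) (h : Ok q a b) :
    ∃ x1 ∈ C.P, ∃ η ∈ C.H, ∃ x2 ∈ C.P, C.w * C.el a b * C.w = x1 * η * C.w * x2 := by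
  have ha : a ≠ 0 := fun h => by simp [h] at hn
  have h1 : Ok q a 1 := by rw [← hn]; exact ok_self C.hF a
  have hfix : ∀ {b η s ν θ}, Ok q a b → s ≠ 0 → s ^ q * s = ν →
      C.w * C.el a b * C.w = C.el (a / b) b⁻¹ * η * C.w * C.el (a / C.bi a b) (C.bg a b) →
      C.Acts η s ν θ → θ b = b := by
    intro b η s ν θ h hs0 hsν hw hs
    rcases eq_or_ne b 1 with rfl | hb1
    · exact map_one θ
    have hd := h.sub_skew C.hF h1
    have r := C.ratio_fix hn h hd (sub_ne_zero.2 (Ne.symm hb1)) hs0 hsν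
      (s2 := -1) (ν2 := 1) (η2 := C.t) (neg_ne_zero.2 one_ne_zero)
      (by rw [neg_pow_q C.hF, one_pow, neg_mul_neg, one_mul]) hw hs
      (by
        rw [add_sub_cancel, div_one, inv_one]
        exact (C.unit_pt hn).2.1) C.acts_t
    rw [add_sub_cancel, mul_one] at r
    have hb := h.ne_zero C.hF C.two_ne ha
    have hq : b ^ q = 2 - b := by
      rw [Ok, hn] at h
      linear_combination h
    have hq0 : 2 - b ≠ 0 := hq ▸ pow_ne_zero q hb
    have hθ0 : 2 - θ b ≠ 0 := by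
      have : θ (2 - b) ≠ 0 := fun e => hq0 (θ.injective (e.trans (map_zero θ).symm))
      rwa [map_sub, map_ofNat] at this
    rw [hq, map_div₀, map_sub, map_sub, map_one, map_ofNat, div_eq_div_iff hθ0 hq0] at r
    linear_combination -r
  obtain ⟨p, n, hp, hchar, hqp, -⟩ := exists_prime_pow C.hF
  obtain ⟨e, he, he0, hgen⟩ := exists_generic hp C.hF hqp C.hodd
  set b0 := 1 + e with hb0
  have h0 : Ok q a b0 := h1.shift C.hF he
  obtain ⟨η0, ⟨u1, u2⟩, hw0⟩ := C.exists_eta ha h0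
  obtain ⟨s0, ν0, θ0, hs00, hsν0, hodd0, hr0, hs0⟩ := C.exists_act u1 u2
  have hθ0 : θ0 = 1 := hgen θ0 hodd0 (by
    have := hfix h0 hs00 hsν0 hw0 hs0
    rw [hb0, map_add, map_one] at this
    linear_combination this)
  subst hθ0
  obtain ⟨η, ⟨v1, v2⟩, hw⟩ := C.exists_eta ha h
  obtain ⟨s, ν, θ, hs', hsν, hoddθ, hr, hs⟩ := C.exists_act v1 v2
  have hfb := hfix h hs' hsν hw hs
  have hθ : θ = 1 := by
    refine hgen θ hoddθ ?_
    rcases eq_or_ne b b0 with hbb | hbb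
    · rw [hbb, hb0, map_add, map_one] at hfb
      linear_combination hfb
    · have hd := h.sub_skew C.hF h0
      have r := C.ratio_fix hn h hd (sub_ne_zero.2 (Ne.symm hbb)) hs' hsν
        (s2 := s0) (ν2 := ν0) (η2 := η0) hs00 hsν0 hw hs
        (by rw [add_sub_cancel]; exact hw0) hs0
      rw [add_sub_cancel] at r
      have hb := h.ne_zero C.hF C.two_ne ha
      have hb00 := h0.ne_zero C.hF C.two_ne ha
      have hθb0 : θ b0 ≠ 0 := fun e => hb00 (θ.injective (e.trans (map_zero θ).symm))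
      rw [map_div₀, map_sub, map_mul, map_pow, hfb,
        div_eq_div_iff (mul_ne_zero (pow_ne_zero _ hb) hθb0) (mul_ne_zero (pow_ne_zero _ hb) hb00)]
        at r
      have e2 : b * (θ b0 - b0) = 0 := by
        refine mul_left_cancel₀ (pow_ne_zero q hb) ?_
        linear_combination r
      have e3 := (mul_eq_zero.1 e2).resolve_left hb
      rw [hb0, map_add, map_one] at e3
      linear_combination e3
  exact ⟨_, C.el_mem (h.inv C.hF C.two_ne ha), η, C.stab_range v1 v2 (hr hθ), _,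
    C.el_mem (C.bg_ok ha h), hw⟩

theorem w_H {h : G} (hh : h ∈ C.H) : C.w * h * C.w ∈ C.H := by
  obtain ⟨α, rfl⟩ := C.mem_H.1 hh
  rw [C.w_dd]; exact C.dd_mem _

/-- The middle factor lies in the torus. -/
theorem cell {x : G} (hx : x ∈ C.P) (hx1 : x ≠ 1) :
    ∃ x1 ∈ C.P, ∃ η ∈ C.H, ∃ x2 ∈ C.P, C.w * x * C.w = x1 * η * C.w * x2 := by
  obtain ⟨a, b, h, rfl⟩ := C.exists_el hx
  rcases eq_or_ne a 0 with rfl | ha
  · have hb := (ok_zero C.hF).1 h
    have hb0 : b ≠ 0 := fun e => hx1 (by rw [e, C.el_one])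
    set g := wn C.hF * uu C.hF b hb * wn C.hF with hg
    obtain ⟨hc, c', hc', α, he⟩ := bruhat C.hF g (by simp [hg, hb0])
    set u := C.π (uu C.hF c' hc')
    set d := C.π (dd C.hF α)
    have hu := C.P_conj (C.B.inv_mem (C.NB_le_B (C.H_le_NB (C.dd_mem α))))
      (C.P0_le (C.uu_mem c' hc'))
    rw [inv_inv] at hu
    refine ⟨_, C.P0_le (C.uu_mem _ hc), C.w * d * C.w, C.w_H (C.dd_mem α), d⁻¹ * u * d, hu, ?_⟩
    rw [C.el_line hb]
    show C.π (wn C.hF) * C.π (uu C.hF b hb) * C.π (wn C.hF) = _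
    rw [← map_mul, ← map_mul, ← hg]
    conv_lhs => rw [he, map_mul, map_mul, map_mul]
    show _ * C.w * u * d = _
    simp only [mul_assoc]
    rw [← mul_assoc C.w C.w, C.w_mul_w, one_mul, mul_inv_cancel_left]
  · set n := a ^ q * a with hn
    have hn0 : n ≠ 0 := nm_ne_zero ha
    obtain ⟨h', hh, s, hs0, hsn, hact⟩ := C.exists_scale_norm (nm_fixed C.hF a) hn0
    have hn1 : (a / s) ^ q * (a / s) = 1 := by
      rw [div_pow, div_mul_div_comm, hsn, ← hn, div_self hn0]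
    have o1 : Ok q (a / s) (b / n) := by
      rw [Ok, hn1, div_pow, nm_fixed C.hF, ← add_div]
      rw [Ok, ← hn] at h
      rw [h]; field_simp
    obtain ⟨-, e⟩ := hact _ _ o1
    rw [mul_div_cancel₀ _ hs0, mul_div_cancel₀ _ hn0] at e
    have hX := C.el_conj hh o1 h e
    obtain ⟨x1, hx1', η, hη, x2, hx2, hd⟩ := C.cell_unit hn1 o1
    set k := C.w * h' * C.w with hk
    have hkH : k ∈ C.H := C.w_H hh
    have hkB : k ∈ C.B := C.NB_le_B (C.H_le_NB hkH)
    refine ⟨k * x1 * k⁻¹, C.P_conj hkB hx1', k * η * h'⁻¹,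
      C.H.mul_mem (C.H.mul_mem hkH hη) (C.H.inv_mem hh), k * x2 * k⁻¹, C.P_conj hkB hx2, ?_⟩
    have e1 : C.w * h'⁻¹ * C.w = k⁻¹ := by simp [hk, mul_assoc, C.w_inv]
    have e2 : C.w * k⁻¹ = h'⁻¹ * C.w := by
      rw [← e1]; simp only [← mul_assoc]; rw [C.w_mul_w, one_mul]
    calc C.w * C.el a b * C.w
        = (C.w * h' * C.w) * (C.w * C.el (a / s) (b / n) * C.w) * (C.w * h'⁻¹ * C.w) := by
          rw [← hX]
          simp only [mul_assoc]
          rw [← mul_assoc C.w C.w, C.w_mul_w, one_mul, ← mul_assoc C.w C.w, C.w_mul_w, one_mul]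
      _ = k * (x1 * η * C.w * x2) * k⁻¹ := by rw [← hk, hd, e1]
      _ = k * x1 * η * (C.w * k⁻¹) * (k * x2 * k⁻¹) := by group
      _ = _ := by rw [e2]; group

end Chart

end Cfsg.Agent.U3Field
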