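import Cfsg.Agent.Lib.U3Field.Law
import Cfsg.Agent.Lib.U3Recog.Main

/-!
# Recognition of `PSU₃(q)` allowing a field part (owner: helper40)

* `range_eq` : in a simple group the image of `U₂` is the whole centraliser
* `iso_PSU` : a simple group with the data is isomorphic to `PSU₃(q)`
-/

set_option autoImplicit false
set_option linter.unusedSectionVars false
set_option linter.style.haveILetI false

namespace Cfsg.Agent.U3Field

open Subgroup Cfsg.Agent.U3Recog Cfsg.Agent.Unitary
open scoped Pointwise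

variable {G : Type*} [Group G] [Finite G] [IsSimpleGroup G] {F : Type*} [Field F] [Fintype F] {q : ℕ}

namespace Chart

variable (C : Chart G F q)
include C

/-- The two-point stabiliser is the torus. -/
theorem stab_H {g : G} (h1 : g • C.oo = C.oo) (h2 : g • C.zero = C.zero) : g ∈ C.H := by
  set S := ((C.P : Set G) ∪ (C.H : Set G)) ∪ {C.w}
  set K := Subgroup.closure S
  have hP : C.P ≤ K := fun x hx => Subgroup.subset_closure (Or.inl (Or.inl hx))
  have hH : C.H ≤ K := fun x hx => Subgroup.subset_closure (Or.inl (Or.inr hx))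
  have hw : C.w ∈ K := Subgroup.subset_closure (Or.inr rfl)
  have hPH : ∀ {η x : G}, η ∈ C.H → x ∈ C.P → η * x * η⁻¹ ∈ C.P := fun hη hx =>
    C.P_conj (C.NB_le_B (C.H_le_NB hη)) hx
  -- the two cells
  have hcell : ∀ z, z ∈ K → ∃ x ∈ C.P, ∃ η ∈ C.H,
      z = x * η ∨ ∃ x' ∈ C.P, z = x * η * C.w * x' := by
    have hmul : ∀ s ∈ S, ∀ y, (∃ x ∈ C.P, ∃ η ∈ C.H,
        y = x * η ∨ ∃ x' ∈ C.P, y = x * η * C.w * x') →
        ∃ x ∈ C.P, ∃ η ∈ C.H, s * y = x * η ∨ ∃ x' ∈ C.P, s * y = x * η * C.w * x' := by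
      rintro s ((hs | hs) | hs) y ⟨x, hx, η, hη, h⟩
      · refine ⟨s * x, C.P.mul_mem hs hx, η, hη, ?_⟩
        rcases h with rfl | ⟨x', hx', rfl⟩
        · exact Or.inl (by group)
        · exact Or.inr ⟨x', hx', by group⟩
      · refine ⟨s * x * s⁻¹, hPH hs hx, s * η, C.H.mul_mem hs hη, ?_⟩
        rcases h with rfl | ⟨x', hx', rfl⟩
        · exact Or.inl (by group)
        · exact Or.inr ⟨x', hx', by group⟩
      · obtain rfl : s = C.w := hs
        rcases h with rfl | ⟨x', hx', rfl⟩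
        · refine ⟨1, C.P.one_mem, C.w * η * C.w, C.w_H hη, Or.inr ⟨η⁻¹ * x * η, ?_, ?_⟩⟩
          · simpa using hPH (C.H.inv_mem hη) hx
          · simp only [one_mul, mul_assoc]
            rw [← mul_assoc C.w C.w, C.w_mul_w, one_mul, mul_inv_cancel_left]
        · rcases eq_or_ne x 1 with rfl | hx1
          · refine ⟨C.w * η * C.w * x' * (C.w * η * C.w)⁻¹, hPH (C.w_H hη) hx', C.w * η * C.w,
              C.w_H hη, Or.inl ?_⟩
            group
          · obtain ⟨x1, hx1', η1, hη1, x2, hx2, e⟩ := C.cell hx hx1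
            have hk := C.w_H hη
            set k := C.w * η * C.w with hkdef
            have hk' : C.w * k * C.w = η := by
              simp only [hkdef, mul_assoc]
              simp [← mul_assoc, C.w_mul_w, mul_assoc η C.w C.w]
            refine ⟨x1, hx1', η1 * (C.w * k * C.w), C.H.mul_mem hη1 (C.w_H hk), Or.inr
              ⟨k⁻¹ * x2 * k * x', C.P.mul_mem (by simpa using hPH (C.H.inv_mem hk) hx2) hx', ?_⟩⟩
            calc C.w * (x * η * C.w * x') = (C.w * x * C.w) * k * x' := by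
                  simp only [hkdef, mul_assoc]
                  rw [← mul_assoc C.w C.w (η * _), C.w_mul_w, one_mul]
              _ = x1 * (η1 * (C.w * k * C.w)) * C.w * (k⁻¹ * x2 * k * x') := by
                  rw [e]
                  simp only [mul_assoc]
                  rw [← mul_assoc C.w C.w, C.w_mul_w, one_mul, mul_inv_cancel_left]
    intro z hz
    induction hz using Subgroup.closure_induction_left with
    | one => exact ⟨1, C.P.one_mem, 1, C.H.one_mem, Or.inl (mul_one 1).symm⟩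
    | mul_left s hs y _ ih => exact hmul s hs y ih
    | inv_mul_cancel s hs y _ ih =>
      refine hmul s⁻¹ ?_ y ih
      rcases hs with (hs | hs) | hs
      · exact Or.inl (Or.inl (C.P.inv_mem hs))
      · exact Or.inl (Or.inr (C.H.inv_mem hs))
      · obtain rfl : s = C.w := hs
        exact Or.inr C.w_inv
  -- the stabiliser normalises `K`
  have hη : ∀ {η : G}, η • C.oo = C.oo → η • C.zero = C.zero → ∀ x ∈ K, η * x * η⁻¹ ∈ K := by
    intro η f1 f2 x hx
    suffices h : K ≤ K.comap (MulAut.conj η).toMonoidHom from h hx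
    rw [Subgroup.closure_le]
    rintro z ((hz | hz) | hz)
    · exact hP (C.P_conj (C.smul_oo_iff.1 f1) hz)
    · obtain ⟨α, rfl⟩ := C.mem_H.1 hz
      obtain ⟨g', hg'⟩ := C.range_conj (C.stab_comm_t f1 f2) (dd C.hF α)
      refine hH (C.stab_range ?_ ?_ ⟨g', hg'⟩)
      · show (η * C.π (dd C.hF α) * η⁻¹) • C.oo = _
        rw [mul_smul, mul_smul, inv_smul_eq_iff.2 f1.symm, C.H_oo hz, f1]
      · show (η * C.π (dd C.hF α) * η⁻¹) • C.zero = _
        rw [mul_smul, mul_smul, inv_smul_eq_iff.2 f2.symm, C.H_zero hz, f2]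
    · obtain rfl : z = C.w := hz
      obtain ⟨h, hh, y, hy, ho, rfl, -⟩ := C.stab_two f1 f2
      show h * y * C.w * (h * y)⁻¹ ∈ K
      rw [show h * y * C.w * (h * y)⁻¹ = h * (y * C.w * y⁻¹) * h⁻¹ by group,
        (C.pure_comm_w hy ho).eq, mul_inv_cancel_right]
      exact K.mul_mem (K.mul_mem (hH hh) hw) (K.inv_mem (hH hh))
  have hall : ∀ g : G, ∃ k ∈ K, ∃ η : G, (η • C.oo = C.oo ∧ η • C.zero = C.zero) ∧ g = k * η := by
    intro g
    obtain ⟨k, hk, hkg⟩ : ∃ k ∈ K, k • C.oo = g • C.oo := by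
      by_cases h : g • C.oo = C.oo
      · exact ⟨1, K.one_mem, by rw [one_smul, h]⟩
      · obtain ⟨x, hx, e⟩ := C.exists_pt h
        exact ⟨x * C.w, K.mul_mem (hP hx) hw, by rw [mul_smul, ← e]; rfl⟩
    have f1 : (k⁻¹ * g) • C.oo = C.oo := by rw [mul_smul, ← hkg, inv_smul_smul]
    have h0 : (k⁻¹ * g) • C.zero ≠ C.oo := fun e =>
      C.zero_ne_oo (MulAction.injective _ (e.trans f1.symm))
    obtain ⟨x, hx, e⟩ := C.exists_pt h0
    refine ⟨k * x, K.mul_mem hk (hP hx), x⁻¹ * (k⁻¹ * g), ⟨?_, ?_⟩, by group⟩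
    · rw [mul_smul, f1, C.P_oo (C.P.inv_mem hx)]
    · rw [mul_smul, ← e, inv_smul_smul]
  have hN : K.Normal := ⟨fun x hx g => by
    obtain ⟨k, hk, η, ⟨f1, f2⟩, rfl⟩ := hall g
    have := K.mul_mem (K.mul_mem hk (hη f1 f2 x hx)) (K.inv_mem hk)
    simpa [mul_assoc] using this⟩
  have htop : K = ⊤ := (IsSimpleGroup.eq_bot_or_eq_top_of_normal K hN).resolve_left fun h =>
    Involution.ne_one C.orderOf_w (by rwa [h, mem_bot] at hw)
  obtain ⟨x, hx, η, hη', h | ⟨x', hx', h⟩⟩ := hcell g (htop ▸ Subgroup.mem_top g)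
  · rw [h, mul_smul, C.H_zero hη'] at h2
    rw [h, C.eq_one_of_stab hx h2, one_mul]
    exact hη'
  · exfalso
    rw [h, mul_smul, C.P_oo hx', mul_smul, ← Data.zero, mul_smul, C.H_zero hη'] at h1
    exact C.zero_ne hx h1

/-- The image is the whole centraliser. -/
theorem field_trivial {x : G} (hx : x ∈ centralizer ({C.t} : Set G)) : C.fld x = 1 := by
  obtain ⟨g, y, hy, ho, -, hf⟩ := C.exists_pure_odd hx
  obtain ⟨α, hα⟩ := C.mem_H.1 (C.stab_H (C.pure_oo hy) (C.pure_zero hy ho))
  rw [← hf, ← hα, C.fld_pi]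

end Chart

namespace Data

variable (D : Data G F q)
include D

/-- In a simple group there is no field part. -/
theorem fld_eq_one (x : G) : D.fld x = 1 := by
  by_contra hne
  obtain ⟨C, rfl⟩ := exists_chart D ⟨x, hne⟩
  by_cases hx : x ∈ centralizer ({C.t} : Set G)
  · exact hne (C.field_trivial hx)
  · exact hne (by simp [fld, hx])

theorem range_eq : D.π.range = centralizer ({D.t} : Set G) :=
  le_antisymm D.range_le fun x hx => (D.fld_eq_one_iff hx).1 (D.fld_eq_one x)

theorem card_eq : Nat.card G * Nat.card D.π.ker = q ^ 3 * (q ^ 3 + 1) * (q ^ 2 - 1) := by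
  have hq := D.q_ge
  have hle : q ≤ q ^ 2 := Nat.le_self_pow two_ne_zero q
  rw [D.card_G, ← D.range_eq, mul_assoc, D.card_range,
    show q ^ 3 + 1 = (q ^ 2 - q + 1) * (q + 1) by zify [hle]; ring]
  ring

/-- The data of the recognition without field part. -/
theorem exists_recog : ∃ E : U3Recog.Data G F q, E.π = D.π ∧ E.t = D.t :=
  ⟨⟨⟨D.hF, D.hodd, D.π, D.t, D.π_negOne, D.range_eq, D.ker_scalar, D.ker_odd⟩, D.card_eq⟩, rfl, rfl⟩

/-- A simple group with the data is `PSU₃(q)`. -/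
theorem iso_PSU : Nonempty (G ≃* Cfsg.PSU 3 F q) := by
  obtain ⟨E, -, -⟩ := D.exists_recog
  exact U3Recog.iso_PSU E

end Data

end Cfsg.Agent.U3Field
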